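import Groth.Agent.AlgSt.K741.Desc2
import Groth.Agent.AlgSp.K615.Int
import Groth.Agent.S1128

/-!
# Flatness descends along flat surjective morphisms
-/

set_option autoImplicit false
set_option backward.isDefEq.respectTransparency false
set_option backward.isDefEq.respectTransparency.types false

universe w₄ v₄ w'' v'' w' v' w v u

open CategoryTheory CategoryTheory.Limits AlgebraicGeometry Opposite
open AlgSt

namespace K741

variable {S : Scheme.{u}} {𝒳 𝒴 𝒵 : AlgSt.Cat S}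

theorem surjective_left_iff {U V : Over S} (h : U ⟶ V) :
    AlgSp.IsSurjectiveMor ((AlgSp.yon S).map h) ↔ Surjective h.left := by
  have key : ∀ t : ↥U.left, Points.map (overMap h) (Points.ofChart (BasedFunctor.id (FibCat.overCat U)) t) =
      Points.ofChart (BasedFunctor.id (FibCat.overCat V)) (h.left t) := fun t =>
    (K735.PtsSp.map_ofChart _ _ t).trans (K735.PtsSp.ofChart_overMap h (BasedFunctor.id _) t)
  rw [isSurjectiveMor_yon_iff]
  constructor
  · intro H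
    refine ⟨fun v => ?_⟩
    obtain ⟨p, hp⟩ := H (Points.ofChart (BasedFunctor.id (FibCat.overCat V)) v)
    obtain ⟨w, rfl⟩ := (K735.PtsSp.ofChart_id_bijective U).2 p
    rw [key] at hp
    exact ⟨w, (K735.PtsSp.ofChart_id_bijective V).1 hp⟩
  · intro H p
    obtain ⟨v, rfl⟩ := (K735.PtsSp.ofChart_id_bijective V).2 p
    obtain ⟨w, rfl⟩ := H.surj v
    exact ⟨_, key w⟩

theorem locP_yon_left {P : MorphismProperty Scheme.{u}} {U V : Over S} {h : U ⟶ V}
    (H : AlgSp.LocP P ((AlgSp.yon S).map h)) : P h.left :=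
  H (𝟙 _) (𝟙 _) h (K613.Chart.Ch.id U).et (K613.Chart.Ch.id V).et (by simp)

theorem locQ_flat_of_fpFst (h𝒳 : IsAlgStack Scheme.fppfPrecoverage 𝒳)
    (h𝒴 : IsAlgStack Scheme.fppfPrecoverage 𝒴) (h𝒵 : IsAlgStack Scheme.fppfPrecoverage 𝒵) (f : 𝒳 ⥤ᵇ 𝒴) (z : 𝒵 ⥤ᵇ 𝒴)
    (hz₁ : LocQ (AlgSp.LocP @Flat) z) (hz₃ : IsSurjective z)
    (H : LocQ (AlgSp.LocP @Flat) (FibCat.fpFst z f)) : LocQ (AlgSp.LocP @Flat) f := by
  have g𝒳 := h𝒳.isStack.1
  have g𝒴 := h𝒴.isStack.1
  have g𝒵 := h𝒵.isStack.1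
  obtain ⟨V, y, hy, hy'⟩ := h𝒴.atlas
  obtain ⟨U, x, h, α, hx, hk, hx'⟩ := exists_chart h𝒳 h𝒴 f y hy
  obtain ⟨W, w, g, β, hw, ht, hw'⟩ := exists_chart h𝒵 h𝒴 z y hy
  refine ⟨U, V, x, y, h, α, hx, hx' hy', hy, ?_⟩
  have hg₁ : Flat g.left := locP_yon_left
    (prop_of_locQ K894.SmST.isSmoothLocalST_flat g𝒵 g𝒴 hz₁ w y g β hy ht.smooth)
  have hg₃ : Surjective g.left := (surjective_left_iff g).1 (isSurjectiveMor_chart g𝒴 g𝒵 hz₃ β ht.surj)
  have sq₀ : IsPullback (pullback.fst h g) (pullback.snd h g) h g := IsPullback.of_hasPullback h g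
  have sq : IsPullback ((AlgSp.yon S).map (pullback.fst h g)) ((AlgSp.yon S).map (pullback.snd h g))
      (sqHom f x y h α).a (sqHom z w y g β).a := sq₀.map (AlgSp.yon S)
  obtain ⟨c', h', k, hc, h'a, hka, hr⟩ := exists_bc_chart g𝒳 g𝒴 g𝒵 (sqHom f x y h α) (sqHom z w y g β)
    stableBC_smooth isLocalOnBase_smooth (rpA_sqHom g𝒳 g𝒴 stableBC_smooth isLocalOnBase_smooth f x y h α hk.smooth) sq
  have hPp : AlgSp.LocP @Flat h'.a := prop_of_locQ_ch K894.SmST.isSmoothLocalST_flat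
    (K735.Fp.isFibGrpd_fp g𝒵 g𝒳 g𝒴 z f) g𝒵 H h' (hc ▸ isSch_yon _)
    (isSch_ofChart w) ((rp_ofChart_iff g𝒵 _ _).1 hw) hr.rp
  have hri : (AlgSp.LocP (S := S) @Flat).RespectsIso := locP_respectsIso _
  rw [h'a] at hPp
  have h1 : Flat (pullback.snd h g).left := locP_yon_left
    ((MorphismProperty.cancel_left_of_respectsIso (AlgSp.LocP @Flat) (eqToHom hc) _).1 hPp)
  have sql := K615.Int.isPullback_left sq₀
  have h2 : Flat (pullback.fst h g).left := MorphismProperty.of_isPullback (P := @Flat) sql.flip hg₁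
  have h3 : Surjective (pullback.fst h g).left := MorphismProperty.of_isPullback (P := @Surjective) sql.flip hg₃
  have h4 : Flat ((pullback.fst h g).left ≫ h.left) := by
    rw [sql.w]
    infer_instance
  have h5 : Flat h.left := Groth.Agent.S1128.result (pullback.fst h g).left h.left
  exact K597.locP_of_chart K597.etLoc_flat _ (𝟙 _) (𝟙 _) h (K613.Chart.Ch.id U).et (K613.Chart.Ch.id U).surj
    (K613.Chart.Ch.id V).et (by simp) h5

end K741
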