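import Groth.Agent.AlgSt.K741.LemA
import Groth.Prelude.Def_AlgSt3

/-!
# Charts by slices versus sheaves over a stack
-/

set_option autoImplicit false
set_option backward.isDefEq.respectTransparency false
set_option backward.isDefEq.respectTransparency.types false

universe w₄ v₄ w'' v'' w' v' w v u

open CategoryTheory CategoryTheory.Limits AlgebraicGeometry Opposite
open AlgSt

namespace K741

variable {S : Scheme.{u}} {𝒳 : BasedCategory.{v, w} (Over S)} {𝒴 : BasedCategory.{v', w'} (Over S)}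

/-- the sheaf over `𝒳` of a chart -/
def ofChart {U : Over S} (x : FibCat.overCat U ⥤ᵇ 𝒳) : Ch 𝒳 :=
  ⟨(AlgSp.yon S).obj U, BasedFunctor.comp (toOverCat U) x⟩

theorem isSch_ofChart {U : Over S} (x : FibCat.overCat U ⥤ᵇ 𝒳) : IsSch (ofChart x).F := isSch_yon U

theorem repByAlgSpWith_toOverCat (P : MorphismProperty (AlgSp.Sp S)) {U : Over S} (x : FibCat.overCat U ⥤ᵇ 𝒳) :
    RepByAlgSpWith P x ↔ RepByAlgSpWith P (BasedFunctor.comp (toOverCat U) x) :=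
  K735.Rep.repByAlgSpWith_iff_of_sq P x (BasedFunctor.comp (toOverCat U) x) (toOverCat U) (BasedFunctor.id _)
    (K735.Rep.isEquivOver_toOverCat U) K735.Fib.isEquivOver_id (Iso.refl _)

theorem repByAlgSpWith_ofOverCat (P : MorphismProperty (AlgSp.Sp S)) {U : Over S} (x : ofSch U ⥤ᵇ 𝒳) :
    RepByAlgSpWith P x ↔ RepByAlgSpWith P (BasedFunctor.comp (ofOverCat U) x) :=
  K735.Rep.repByAlgSpWith_iff_of_sq P x (BasedFunctor.comp (ofOverCat U) x) (ofOverCat U) (BasedFunctor.id _)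
    (K735.Rep.isEquivOver_ofOverCat U) K735.Fib.isEquivOver_id (Iso.refl _)

theorem rp_ofChart_iff (h𝒳 : FibCat.IsFibGrpd 𝒳.p) (P : MorphismProperty (AlgSp.Sp S)) [P.RespectsIso] {U : Over S}
    (x : FibCat.overCat U ⥤ᵇ 𝒳) : RepByAlgSpWith P x ↔ Rp (Ch.forget 𝒳) P (ofChart x) :=
  (repByAlgSpWith_toOverCat P x).trans (repByAlgSpWith_iff_rp h𝒳 _)

theorem toOverCat_overMap {U V : Over S} (h : U ⟶ V) : BasedFunctor.comp (toOverCat U) (overMap h) =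
    BasedFunctor.comp (ofSpMap ((AlgSp.yon S).map h)) (toOverCat V) := rfl

/-- the morphism in `Ch 𝒴` of a chart square -/
def sqHom (f : 𝒳 ⥤ᵇ 𝒴) {U V : Over S} (x : FibCat.overCat U ⥤ᵇ 𝒳) (y : FibCat.overCat V ⥤ᵇ 𝒴) (h : U ⟶ V)
    (α : BasedFunctor.comp x f ≅ BasedFunctor.comp (overMap h) y) : (Ch.push f).obj (ofChart x) ⟶ ofChart y :=
  (⟨(AlgSp.yon S).map h, BasedCategory.whiskerLeft (toOverCat U) α.hom⟩ :
    Ch.Hom ((Ch.push f).obj (ofChart x)) (ofChart y))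

@[simp] theorem sqHom_a (f : 𝒳 ⥤ᵇ 𝒴) {U V : Over S} (x : FibCat.overCat U ⥤ᵇ 𝒳) (y : FibCat.overCat V ⥤ᵇ 𝒴) (h : U ⟶ V)
    (α : BasedFunctor.comp x f ≅ BasedFunctor.comp (overMap h) y) : (sqHom f x y h α).a = (AlgSp.yon S).map h := rfl

theorem fpPreR_iso {𝒵 : BasedCategory.{v'', w''} (Over S)} {𝒲 : BasedCategory.{v₄, w₄} (Over S)} (F : 𝒳 ⥤ᵇ 𝒴)
    (b : 𝒲 ⥤ᵇ 𝒵) (G : 𝒵 ⥤ᵇ 𝒴) (z : (FibCat.fp F (BasedFunctor.comp b G)).obj) :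
    ((K734.Fib.fpPreR F b G).obj z).obj.iso.hom = z.obj.iso.hom := by
  change 𝟙 _ ≫ z.obj.iso.hom ≫ 𝟙 _ = z.obj.iso.hom
  exact (Category.id_comp _).trans (Category.comp_id _)

/-- functors into a 2-fibre product with the same components are 2-isomorphic -/
theorem nonempty_iso_fp {𝒵 : BasedCategory.{v'', w''} (Over S)} {𝒲 : BasedCategory.{v₄, w₄} (Over S)} {F : 𝒳 ⥤ᵇ 𝒴}
    {G : 𝒵 ⥤ᵇ 𝒴} (h𝒳 : FibCat.IsFibGrpd 𝒳.p) (h𝒴 : FibCat.IsFibGrpd 𝒴.p) (h𝒵 : FibCat.IsFibGrpd 𝒵.p)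
    {A B : 𝒲 ⥤ᵇ FibCat.fp F G}
    (α₁ : BasedFunctor.comp A (FibCat.fpFst F G) ⟶ BasedFunctor.comp B (FibCat.fpFst F G))
    (α₂ : BasedFunctor.comp A (FibCat.fpSnd F G) ⟶ BasedFunctor.comp B (FibCat.fpSnd F G))
    (h : ∀ o, F.map (α₁.toNatTrans.app o) ≫ (B.obj o).obj.iso.hom =
      (A.obj o).obj.iso.hom ≫ G.map (α₂.toNatTrans.app o)) : Nonempty (A ≅ B) := by
  have := isIso_two_cell (K735.Fp.isFibGrpd_fp h𝒳 h𝒵 h𝒴 F G) (cellFp α₁ α₂ h)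
  exact ⟨asIso (cellFp α₁ α₂ h)⟩

theorem rp_sqHom_iff (h𝒳 : FibCat.IsFibGrpd 𝒳.p) (h𝒴 : FibCat.IsFibGrpd 𝒴.p) (P : MorphismProperty (AlgSp.Sp S))
    [P.RespectsIso] (f : 𝒳 ⥤ᵇ 𝒴) {U V : Over S} (x : FibCat.overCat U ⥤ᵇ 𝒳) (y : FibCat.overCat V ⥤ᵇ 𝒴) (h : U ⟶ V)
    (α : BasedFunctor.comp x f ≅ BasedFunctor.comp (overMap h) y) :
    RepByAlgSpWith P (FibCat.fpLift x (overMap h) α) ↔ Rp (Cm.Φ f (ofChart y)) P (CostructuredArrow.mk (sqHom f x y h α)) := by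
  rw [← Cm.rp_iff h𝒴 f (ofChart y) h𝒳]
  obtain ⟨e⟩ : Nonempty (BasedFunctor.comp (Cm.lift h𝒴 f (ofChart y) (CostructuredArrow.mk (sqHom f x y h α)))
      (K734.Fib.fpPreR f (toOverCat V) y) ≅ BasedFunctor.comp (toOverCat U) (FibCat.fpLift x (overMap h) α)) := by
    refine nonempty_iso_fp h𝒳 h𝒴 (K735.Fp.isFibGrpd_overCat V) (𝟙 (BasedFunctor.comp (toOverCat U) x))
      (𝟙 (BasedFunctor.comp (toOverCat U) (overMap h))) fun o => ?_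
    change f.map (𝟙 _) ≫ α.hom.toNatTrans.app ((toOverCat U).obj o) = ((K734.Fib.fpPreR f (toOverCat V) y).obj
      ((Cm.lift h𝒴 f (ofChart y) (CostructuredArrow.mk (sqHom f x y h α))).obj o)).obj.iso.hom ≫ y.map (𝟙 _)
    rw [fpPreR_iso]
    erw [f.toFunctor.map_id, y.toFunctor.map_id, Category.id_comp, Category.comp_id]
    rfl
  exact K735.Rep.repByAlgSpWith_iff_of_sq P (FibCat.fpLift x (overMap h) α)
    (Cm.lift h𝒴 f (ofChart y) (CostructuredArrow.mk (sqHom f x y h α))) (toOverCat U)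
    (K734.Fib.fpPreR f (toOverCat V) y) (K735.Rep.isEquivOver_toOverCat U)
    (K734.Fib.isEquivOver_fpPreR f (toOverCat V) (K735.Rep.isEquivOver_toOverCat V) y) e

/-- independence of the chart square -/
theorem prop_of_locQ {P : MorphismProperty (AlgSp.Sp S)} (hP : AlgSp.IsSmoothLocalST P) (h𝒳 : FibCat.IsFibGrpd 𝒳.p)
    (h𝒴 : FibCat.IsFibGrpd 𝒴.p) {f : 𝒳 ⥤ᵇ 𝒴} (hf : LocQ P f) {U V : Over S} (x : FibCat.overCat U ⥤ᵇ 𝒳)
    (y : FibCat.overCat V ⥤ᵇ 𝒴) (h : U ⟶ V) (α : BasedFunctor.comp x f ≅ BasedFunctor.comp (overMap h) y)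
    (hy : RepByAlgSpWith (AlgSp.LocP @Smooth) y)
    (hk : RepByAlgSpWith (AlgSp.LocP @Smooth) (FibCat.fpLift x (overMap h) α)) : P ((AlgSp.yon S).map h) := by
  obtain ⟨U₀, V₀, x₀, y₀, h₀, α₀, hx₀, hx₀', hy₀, hP₀⟩ := hf
  exact lemmaA hP h𝒳 h𝒴 f (sqHom f x₀ y₀ h₀ α₀) (isSch_ofChart _) (isSch_ofChart _)
    ((rp_ofChart_iff h𝒳 _ _).1 hx₀) ((rp_ofChart_iff h𝒳 _ _).1 hx₀') ((rp_ofChart_iff h𝒴 _ _).1 hy₀) hP₀
    (sqHom f x y h α) (isSch_ofChart _) (isSch_ofChart _) ((rp_ofChart_iff h𝒴 _ _).1 hy)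
    ((rp_sqHom_iff h𝒳 h𝒴 _ f x y h α).1 hk)

end K741
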