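import Groth.Agent.AlgSt.K741.SpSq

/-!
# `LocQ` for morphisms of algebraic spaces
-/

set_option autoImplicit false
set_option backward.isDefEq.respectTransparency false
set_option backward.isDefEq.respectTransparency.types false

universe w₄ v₄ w'' v'' w' v' w v u

open CategoryTheory CategoryTheory.Limits AlgebraicGeometry Opposite
open AlgSt

namespace K741

variable {S : Scheme.{u}}

theorem repByAlgSpWith_id {𝒳 : BasedCategory.{v, w} (Over S)} (P : MorphismProperty (AlgSp.Sp S))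
    (hP : ∀ U : Over S, P (𝟙 ((AlgSp.yon S).obj U))) : RepByAlgSpWith P (BasedFunctor.id 𝒳) := by
  intro U x
  obtain ⟨k, hk, ⟨a⟩, ⟨b⟩⟩ := K735.Fib.IsEquivOver.exists_inv (K734.Fib.isEquivOver_fpFst_id x)
  refine ⟨⟨(AlgSp.yon S).obj U, AlgSp.IsAlgSpace.yon_obj U⟩, BasedFunctor.comp (toOverCat U) k,
    K735.Fib.IsEquivOver.comp (K735.Rep.isEquivOver_toOverCat U) hk, ?_⟩
  have h1 : spMapOfOver (BasedFunctor.comp (BasedFunctor.comp (toOverCat U) k) (FibCat.fpFst x (BasedFunctor.id 𝒳))) =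
      spMapOfOver (toOverCat U) := K735.Rep.spMapOfOver_eq_of_iso (wL (toOverCat U) b)
  rw [h1, K735.Rep.spMapOfOver_toOverCat]
  exact hP U

theorem smSurj_id {𝒳 : BasedCategory.{v, w} (Over S)} : SmSurj (BasedFunctor.id 𝒳) :=
  ⟨repByAlgSpWith_id _ fun _ => smooth_of_isIso _, repByAlgSpWith_id _ fun _ => surj_of_isIso _⟩

/-- the map of algebraic spaces underlying a representable functor with `P` has `P` -/
theorem prop_of_repByAlgSpWith_ofSpMap {P : MorphismProperty (AlgSp.Sp S)} (hPb : K734.Rep.StableBC P)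
    (hP : AlgSp.IsLocalOnBase AlgSp.IsFppfCover P) {F G : AlgSp.Sp S} (hG : AlgSp.IsAlgSpace G) {a : F ⟶ G}
    (h : RepByAlgSpWith P (ofSpMap a)) : P a := by
  have sq : IsPullback (𝟙 F) a a (𝟙 G) := IsPullback.of_horiz_isIso ⟨by simp⟩
  exact (K734.Rep.isRep_ofSpMap sq).prop hPb hP h hG

theorem locQ_ofSpMap_iff {P : MorphismProperty (AlgSp.Sp S)} (hP : AlgSp.IsSmoothLocalST P) {F G : AlgSp.Sp S}
    (hF : AlgSp.IsAlgSpace F) (hG : AlgSp.IsAlgSpace G) (a : F ⟶ G) : LocQ P (ofSpMap a) ↔ P a := by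
  constructor
  · rintro ⟨U, V, x, y, h, α, hx, hx', hy, hPh⟩
    let i := spMapIso (BasedFunctor.comp (toOverCat U) x)
    let j := spMapIso (BasedFunctor.comp (toOverCat V) y)
    have hu : AlgSp.LocP @Smooth (spMap (BasedFunctor.comp (toOverCat U) x)) :=
      prop_of_repByAlgSpWith_ofSpMap stableBC_smooth isLocalOnBase_smooth hF
        (K735.Rep.repByAlgSpWith_of_iso _ i ((repByAlgSpWith_toOverCat _ _).1 hx))
    have hu' : AlgSp.IsSurjectiveMor (spMap (BasedFunctor.comp (toOverCat U) x)) :=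
      prop_of_repByAlgSpWith_ofSpMap stableBC_surj isLocalOnBase_surj hF
        (K735.Rep.repByAlgSpWith_of_iso _ i ((repByAlgSpWith_toOverCat _ _).1 hx'))
    have hv : AlgSp.LocP @Smooth (spMap (BasedFunctor.comp (toOverCat V) y)) :=
      prop_of_repByAlgSpWith_ofSpMap stableBC_smooth isLocalOnBase_smooth hG
        (K735.Rep.repByAlgSpWith_of_iso _ j ((repByAlgSpWith_toOverCat _ _).1 hy))
    have hcomm : spMap (BasedFunctor.comp (toOverCat U) x) ≫ a =
        (AlgSp.yon S).map h ≫ spMap (BasedFunctor.comp (toOverCat V) y) := by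
      have h1 : ofSpMap (spMap (BasedFunctor.comp (toOverCat U) x) ≫ a) ≅
          BasedFunctor.comp (toOverCat U) (BasedFunctor.comp x (ofSpMap a)) := (wR i (ofSpMap a)).symm
      have h2 : BasedFunctor.comp (toOverCat U) (BasedFunctor.comp (overMap h) y) ≅
          ofSpMap ((AlgSp.yon S).map h ≫ spMap (BasedFunctor.comp (toOverCat V) y)) :=
        wL (ofSpMap ((AlgSp.yon S).map h)) j
      exact spMap_eq_of_hom (h1 ≪≫ wL (toOverCat U) α ≪≫ h2).hom
    refine (hP.locality hF hG a).2 fun z => ?_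
    obtain ⟨v, hv'⟩ := hu' z
    exact ⟨_, _, _, _, _, v, AlgSp.IsAlgSpace.yon_obj U, AlgSp.IsAlgSpace.yon_obj V, hu, hv, hcomm, hv', hPh⟩
  · intro ha
    exact locQ_of_sp hP (K735.Rep.isFibGrpd_ofSp F) (K735.Rep.isFibGrpd_ofSp G) (c := Ch.top F) (d := Ch.top G)
      (⟨a, 𝟙 (ofSpMap a)⟩ : Ch.Hom ((Ch.push (ofSpMap a)).obj (Ch.top F)) (Ch.top G)) hF hG smSurj_id smSurj_id.smooth ha

end K741
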