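import Groth.Agent.AlgSt.K736.Spectral
import Groth.Agent.AlgSt.K742.QC2
import Groth.Agent.S12986
import Groth.Agent.S12954
import Groth.Agent.S12955
import Groth.Agent.S12959
import Groth.Agent.AlgSt.K738.LftDiag
import Groth.Agent.AlgSt.K740.SpDM
import Groth.Agent.AlgSt.K740.DiagRep

/-!
# Quasi-compact and quasi-separated stacks over a quasi-separated base
-/

set_option autoImplicit false
set_option backward.isDefEq.respectTransparency false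
set_option backward.isDefEq.respectTransparency.types false

universe w₄ v₄ w'' v'' w' v' w v u

open CategoryTheory CategoryTheory.Limits AlgebraicGeometry Opposite
open AlgSt

namespace K741

variable {S : Scheme.{u}} {𝒳 𝒴 𝒵 : AlgSt.Cat S}

local notation "Alg" => AlgSt.IsAlgStack Scheme.fppfPrecoverage

variable (S) in
theorem isAlgStack_selfOver : Alg (FibCat.selfOver (Over S)) :=
  K740.SpDM.isAlgStack_of_repByAlgSp (K740.DiagRep.repByAlgSp_selfOver S)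

theorem eq_toSelf (f : 𝒳 ⥤ᵇ FibCat.selfOver (Over S)) : f = FibCat.toSelf 𝒳 := K738.Lft.comp_toSelf f

theorem isQuasiCompact_prod [QuasiSeparatedSpace S] (T U : Over S) [CompactSpace ↥T.left] [CompactSpace ↥U.left] :
    AlgSt.IsQuasiCompact (FibCat.fp (FibCat.toSelf (FibCat.overCat T)) (FibCat.toSelf (FibCat.overCat U))) := by
  have hc : AlgSt.IsQuasiCompact (FibCat.overCat (K736.Spectral.prodOver T U)) := K742.QC.isQuasiCompact_overCat _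
  let F : FibCat.overCat (K736.Spectral.prodOver T U) ⥤ᵇ
    FibCat.fp (FibCat.toSelf (FibCat.overCat T)) (FibCat.toSelf (FibCat.overCat U)) :=
    FibCat.fpLift (overMap (K736.Spectral.pr₁ T U)) (overMap (K736.Spectral.pr₂ T U)) (Iso.refl _)
  refine K742.QC.isQuasiCompact_of_essSurj (K742.QC.isAlgStack_overCat _)
    (K742.QC.isAlgStack_fp (K742.QC.isAlgStack_overCat _) (K742.QC.isAlgStack_overCat _) (isAlgStack_selfOver S) _ _)
    F ?_ hc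
  intro c
  have hl : (FibCat.selfOver (Over S)).p.IsHomLift (𝟙 ((FibCat.overCat T).p.obj c.obj.fst)) c.obj.iso.hom := c.property
  obtain ⟨t, ht₁, ht₂⟩ := K736.Spectral.exists_lift (T := (c.obj.fst : Over T).left) (c.obj.fst : Over T).hom
    (c.obj.iso.hom ≫ (c.obj.snd : Over U).hom)
  refine ⟨Over.mk t, rfl, ⟨K742.Pt.homFp (Over.homMk (𝟙 _) ?_) (Over.homMk c.obj.iso.hom ?_) ?_⟩⟩
  · change 𝟙 _ ≫ (c.obj.fst : Over T).hom = t ≫ K736.Spectral.pr₁ T U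
    rw [ht₁, Category.id_comp]
  · change c.obj.iso.hom ≫ (c.obj.snd : Over U).hom = t ≫ K736.Spectral.pr₂ T U
    rw [ht₂]
  · change 𝟙 _ ≫ c.obj.iso.hom = 𝟙 _ ≫ c.obj.iso.hom
    rfl

theorem isQuasiCompactMor_toSelf_overCat [QuasiSeparatedSpace S] (U : Over S) [CompactSpace ↥U.left] :
    AlgSt.IsQuasiCompactMor Scheme.fppfPrecoverage (FibCat.toSelf (FibCat.overCat U)) := by
  refine K742.QC.isQuasiCompactMor_of_affine (K742.QC.isAlgStack_overCat _) (isAlgStack_selfOver S) _ fun T hT y => ?_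
  rw [eq_toSelf y]
  exact isQuasiCompact_prod T U

/-- a quasi-compact algebraic stack is quasi-compact over a quasi-separated base -/
theorem isQuasiCompactMor_toSelf [QuasiSeparatedSpace S] (h𝒳 : Alg 𝒳) (h : AlgSt.IsQuasiCompact 𝒳) :
    AlgSt.IsQuasiCompactMor Scheme.fppfPrecoverage (FibCat.toSelf 𝒳) := by
  obtain ⟨T, t, hT, -, hts⟩ := h
  have h1 : BasedFunctor.comp t (FibCat.toSelf 𝒳) = FibCat.toSelf (FibCat.overCat T) := eq_toSelf _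
  exact K742.QC.isQuasiCompactMor_of_isSurjective_of_triangle (K742.QC.isAlgStack_overCat T) h𝒳 (isAlgStack_selfOver S)
    t (FibCat.toSelf (FibCat.overCat T)) (FibCat.toSelf 𝒳) (eqToIso h1)
    (K742.QC.isSurjective_of_repByAlgSpWith (K742.QC.isAlgStack_overCat T) h𝒳 hts) (isQuasiCompactMor_toSelf_overCat T)

/-- S12987 -/
theorem isQuasiCompactMor_of_qc_of_qs [QuasiSeparatedSpace S] (h𝒳 : Alg 𝒳) (h𝒴 : Alg 𝒴) (f : 𝒳 ⥤ᵇ 𝒴)
    (h : AlgSt.IsQuasiCompact 𝒳) (h' : AlgSt.IsQuasiSeparatedOver 𝒴) :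
    AlgSt.IsQuasiCompactMor Scheme.fppfPrecoverage f := by
  refine Groth.Agent.S12986.result S 𝒳 𝒴 _ h𝒳 h𝒴 (isAlgStack_selfOver S) f (FibCat.toSelf 𝒴) ?_ h'
  rw [eq_toSelf (BasedFunctor.comp f (FibCat.toSelf 𝒴))]
  exact isQuasiCompactMor_toSelf h𝒳 h

/-- S12988 -/
theorem qcqs_fp [QuasiSeparatedSpace S] (h𝒳 : Alg 𝒳) (h𝒴 : Alg 𝒴) (h𝒵 : Alg 𝒵) (a : 𝒳 ⥤ᵇ 𝒴) (b : 𝒵 ⥤ᵇ 𝒴)
    (hx : AlgSt.IsQuasiCompact 𝒳) (hx' : AlgSt.IsQuasiSeparatedOver 𝒳) (hy' : AlgSt.IsQuasiSeparatedOver 𝒴)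
    (hz : AlgSt.IsQuasiCompact 𝒵) (hz' : AlgSt.IsQuasiSeparatedOver 𝒵) :
    AlgSt.IsQuasiCompact (FibCat.fp a b) ∧ AlgSt.IsQuasiSeparatedOver (FibCat.fp a b) := by
  have hfp : Alg (FibCat.fp a b) := K742.QC.isAlgStack_fp h𝒳 h𝒵 h𝒴 a b
  refine ⟨isQuasiCompactMor_of_qc_of_qs h𝒵 h𝒴 b hz hy' 𝒳 h𝒳 hx a, ?_⟩
  have hb : AlgSt.IsQuasiSeparatedMor b := by
    refine Groth.Agent.S12959.result S 𝒵 𝒴 _ h𝒵 h𝒴 (isAlgStack_selfOver S) b (FibCat.toSelf 𝒴) ?_ ?_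
    · rw [eq_toSelf (BasedFunctor.comp b (FibCat.toSelf 𝒴))]
      exact hz'
    · exact K735.Rep.AlgSt_RepByAlgSpWith_mono (fun _ _ _ h => h.2) hy'
  have h1 := Groth.Agent.S12954.result S 𝒵 𝒴 𝒳 h𝒵 h𝒴 h𝒳 b a hb
  have h2 := Groth.Agent.S12955.result S _ 𝒳 _ hfp h𝒳 (isAlgStack_selfOver S) (FibCat.fpFst a b) (FibCat.toSelf 𝒳) h1 hx'
  rw [eq_toSelf (BasedFunctor.comp (FibCat.fpFst a b) (FibCat.toSelf 𝒳))] at h2
  exact h2

end K741
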