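import Groth.Agent.AlgSt.K741.Loc

/-!
# Existence of chart squares; the every-square form of `LocQ`
-/

set_option autoImplicit false
set_option backward.isDefEq.respectTransparency false
set_option backward.isDefEq.respectTransparency.types false

universe w₄ v₄ w'' v'' w' v' w v u

open CategoryTheory CategoryTheory.Limits AlgebraicGeometry Opposite
open AlgSt

namespace K741

variable {S : Scheme.{u}} {𝒳 𝒴 𝒵 : AlgSt.Cat S}

theorem isFibGrpd_of_isAlgStack (h : IsAlgStack Scheme.fppfPrecoverage 𝒳) : FibCat.IsFibGrpd 𝒳.p := h.isStack.1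

/-- a functor from a slice to `𝒳 ×_𝒴 (Sch/V)` comes from a chart square -/
theorem exists_sq_of_fp (h𝒳 : FibCat.IsFibGrpd 𝒳.p) (h𝒴 : FibCat.IsFibGrpd 𝒴.p) (f : 𝒳 ⥤ᵇ 𝒴) {U V : Over S}
    (y : FibCat.overCat V ⥤ᵇ 𝒴) (t : FibCat.overCat U ⥤ᵇ FibCat.fp f y) :
    ∃ (h : U ⟶ V) (α : BasedFunctor.comp (BasedFunctor.comp t (FibCat.fpFst f y)) f ≅ BasedFunctor.comp (overMap h) y),
      Nonempty (t ≅ FibCat.fpLift (BasedFunctor.comp t (FibCat.fpFst f y)) (overMap h) α) := by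
  obtain ⟨β⟩ := K734.Fib.nonempty_iso_overMap (BasedFunctor.comp t (FibCat.fpSnd f y))
  let h : U ⟶ V := K734.Fib.overFun (BasedFunctor.comp t (FibCat.fpSnd f y))
  let β' : BasedFunctor.comp t (FibCat.fpSnd f y) ≅ overMap h := β
  let α : BasedFunctor.comp (BasedFunctor.comp t (FibCat.fpFst f y)) f ≅ BasedFunctor.comp (overMap h) y :=
    wL t (FibCat.fpIso f y) ≪≫ wR β' y
  refine ⟨h, α, ?_⟩
  refine nonempty_iso_fp h𝒳 h𝒴 (K735.Fp.isFibGrpd_overCat V) (𝟙 (BasedFunctor.comp t (FibCat.fpFst f y))) β'.hom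
    fun o => ?_
  change f.map (𝟙 _) ≫ (t.obj o).obj.iso.hom ≫ y.map (β'.hom.toNatTrans.app o) =
    (t.obj o).obj.iso.hom ≫ y.map (β'.hom.toNatTrans.app o)
  erw [f.toFunctor.map_id, Category.id_comp]

/-- charts over a smooth chart of the target -/
theorem exists_chart (h𝒳 : IsAlgStack Scheme.fppfPrecoverage 𝒳) (h𝒴 : IsAlgStack Scheme.fppfPrecoverage 𝒴)
    (f : 𝒳 ⥤ᵇ 𝒴) {V : Over S} (y : FibCat.overCat V ⥤ᵇ 𝒴) (hy : RepByAlgSpWith (AlgSp.LocP @Smooth) y) :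
    ∃ (U : Over S) (x : FibCat.overCat U ⥤ᵇ 𝒳) (h : U ⟶ V) (α : BasedFunctor.comp x f ≅ BasedFunctor.comp (overMap h) y),
      RepByAlgSpWith (AlgSp.LocP @Smooth) x ∧ SmSurj (FibCat.fpLift x (overMap h) α) ∧
      (RepByAlgSpWith AlgSp.IsSurjectiveMor y → RepByAlgSpWith AlgSp.IsSurjectiveMor x) := by
  have g𝒳 := h𝒳.isStack.1
  have g𝒴 := h𝒴.isStack.1
  have gfp : FibCat.IsFibGrpd (FibCat.fp f y).p :=
    K735.Fp.isFibGrpd_fp g𝒳 (K735.Fp.isFibGrpd_overCat V) g𝒴 f y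
  obtain ⟨U₀, x₀, hx₀, hx₀'⟩ := h𝒳.atlas
  have hfs : RepByAlgSpWith (AlgSp.LocP @Smooth) (FibCat.fpFst f y) := K734.Rep.repByAlgSpWith_fpFst _ y f hy
  obtain ⟨U, t, ht⟩ := exists_atlas_of_rep gfp (K735.Rep.repByAlgSp1_of_with hfs) ⟨hx₀, hx₀'⟩
  obtain ⟨h, α, ⟨e⟩⟩ := exists_sq_of_fp g𝒳 g𝒴 f y t
  refine ⟨U, BasedFunctor.comp t (FibCat.fpFst f y), h, α, ?_, ht.of_iso e, fun hys => ?_⟩
  · exact smooth_comp_st (K735.Fp.isFibGrpd_overCat U) gfp ht.smooth hfs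
  · exact surj_comp_st (K735.Fp.isFibGrpd_overCat U) gfp ht.surj (K734.Rep.repByAlgSpWith_fpFst _ y f hys)

/-- the every-square form of `LocQ` -/
theorem locQ_iff {P : MorphismProperty (AlgSp.Sp S)} (hP : AlgSp.IsSmoothLocalST P)
    (h𝒳 : IsAlgStack Scheme.fppfPrecoverage 𝒳) (h𝒴 : IsAlgStack Scheme.fppfPrecoverage 𝒴) (f : 𝒳 ⥤ᵇ 𝒴) :
    LocQ P f ↔ ∀ (U V : Over S) (x : FibCat.overCat U ⥤ᵇ 𝒳) (y : FibCat.overCat V ⥤ᵇ 𝒴) (h : U ⟶ V)
        (α : BasedFunctor.comp x f ≅ BasedFunctor.comp (overMap h) y),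
        RepByAlgSpWith (AlgSp.LocP @Smooth) x → RepByAlgSpWith (AlgSp.LocP @Smooth) y →
        RepByAlgSpWith (AlgSp.LocP @Smooth) (FibCat.fpLift x (overMap h) α) → P ((AlgSp.yon S).map h) := by
  constructor
  · intro hf U V x y h α _ hy hk
    exact prop_of_locQ hP h𝒳.isStack.1 h𝒴.isStack.1 hf x y h α hy hk
  · intro H
    obtain ⟨V, y, hy, hy'⟩ := h𝒴.atlas
    obtain ⟨U, x, h, α, hx, hk, hx'⟩ := exists_chart h𝒳 h𝒴 f y hy
    exact ⟨U, V, x, y, h, α, hx, hx' hy', hy, H U V x y h α hx hy hk.smooth⟩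

end K741
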