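import Groth.Agent.AlgSt.K741.Yon

/-!
# `RepByAlgSpWith` in terms of base change squares in `Ch`
-/

set_option autoImplicit false
set_option backward.isDefEq.respectTransparency false
set_option backward.isDefEq.respectTransparency.types false

universe w₄ v₄ w'' v'' w' v' w v u

open CategoryTheory CategoryTheory.Limits AlgebraicGeometry Opposite
open AlgSt

namespace K741

variable {S : Scheme.{u}}

section

variable {𝒳 : BasedCategory.{v, w} (Over S)} {𝒴 : BasedCategory.{v', w'} (Over S)}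

/-- base change squares from `RepByAlgSpWith` -/
theorem exists_isBC (h𝒳 : FibCat.IsFibGrpd 𝒳.p) (h𝒴 : FibCat.IsFibGrpd 𝒴.p) {P : MorphismProperty (AlgSp.Sp S)}
    {f : 𝒳 ⥤ᵇ 𝒴} (hf : RepByAlgSpWith P f) {U : Over S} (y : ofSch U ⥤ᵇ 𝒴) :
    ∃ (c : Ch 𝒳) (h : (Ch.push f).obj c ⟶ ⟨(AlgSp.yon S).obj U, y⟩), AlgSp.IsAlgSpace c.F ∧ IsBC f h ∧ P h.a := by
  obtain ⟨F, e, he, hP⟩ := hf U (BasedFunctor.comp (ofOverCat U) y)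
  obtain ⟨θ⟩ := K735.Rep.exists_iso_spMapOfOver (BasedFunctor.comp e (FibCat.fpFst (BasedFunctor.comp (ofOverCat U) y) f))
  have hfull : (toOverCat U).toFunctor.Full := ⟨fun φ => K735.Fib.IsEquivOver.full (K735.Rep.isEquivOver_toOverCat U) φ⟩
  have hfaith : (toOverCat U).toFunctor.Faithful := ⟨fun h => K735.Fib.IsEquivOver.faithful (K735.Rep.isEquivOver_toOverCat U) h⟩
  have h := isBC_linkHom (f := f) (y := BasedFunctor.comp (ofOverCat U) y) (i := toOverCat U) (e := e)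
    (a := spMapOfOver (BasedFunctor.comp e (FibCat.fpFst (BasedFunctor.comp (ofOverCat U) y) f))) (θ := θ)
    h𝒳 h𝒴 he
  exact ⟨_, linkHom f (BasedFunctor.comp (ofOverCat U) y) (toOverCat U) e _ θ, F.property, h, hP⟩

/-- equality of morphisms out of a representable object can be tested at the generic object -/
theorem Ch.hom_ext_gen (h𝒳 : FibCat.IsFibGrpd 𝒳.p) {T : Over S} {x : ofSch T ⥤ᵇ 𝒳} {d : Ch 𝒳}
    {k l : (⟨(AlgSp.yon S).obj T, x⟩ : Ch 𝒳) ⟶ d} (h : k.a = l.a)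
    (h' : k.α.toNatTrans.app (gen T) ≫ d.x.map (Ch.vert h (gen T)) = l.α.toNatTrans.app (gen T)) : k = l := by
  obtain ⟨a, α⟩ := k
  obtain ⟨b, β⟩ := l
  obtain rfl : a = b := h
  have h1 : α.toNatTrans.app (gen T) = β.toNatTrans.app (gen T) := by
    rw [Ch.vert_rfl] at h'
    erw [d.x.toFunctor.map_id] at h'
    erw [Category.comp_id] at h'
    exact h'
  have h2 : α = β := cell_ext_gen h𝒳 h1
  rw [h2]

theorem exists_section {F : AlgSp.Sp S} (o : (ofSp F).obj) :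
    ∃ a : (AlgSp.yon S).obj o.base ⟶ F, (ofSpMap a).obj (gen o.base) = o := ⟨ofSec o, ofSec_gen o⟩

/-- the comparison functor of a base change square -/
noncomputable def cmpF (h𝒴 : FibCat.IsFibGrpd 𝒴.p) (f : 𝒳 ⥤ᵇ 𝒴) {U : Over S} (y : FibCat.overCat U ⥤ᵇ 𝒴)
    {c : Ch 𝒳} (h : (Ch.push f).obj c ⟶ ⟨(AlgSp.yon S).obj U, BasedFunctor.comp (toOverCat U) y⟩) :
    ofSp c.F ⥤ᵇ FibCat.fp y f :=
  have := isIso_two_cell h𝒴 h.α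
  FibCat.fpLift (BasedFunctor.comp (ofSpMap h.a) (toOverCat U)) c.x (asIso h.α).symm

theorem cmpF_fst (h𝒴 : FibCat.IsFibGrpd 𝒴.p) (f : 𝒳 ⥤ᵇ 𝒴) {U : Over S} (y : FibCat.overCat U ⥤ᵇ 𝒴)
    {c : Ch 𝒳} (h : (Ch.push f).obj c ⟶ ⟨(AlgSp.yon S).obj U, BasedFunctor.comp (toOverCat U) y⟩) :
    BasedFunctor.comp (cmpF h𝒴 f y h) (FibCat.fpFst y f) = BasedFunctor.comp (ofSpMap h.a) (toOverCat U) := rfl

theorem cmpF_iso (h𝒴 : FibCat.IsFibGrpd 𝒴.p) (f : 𝒳 ⥤ᵇ 𝒴) {U : Over S} (y : FibCat.overCat U ⥤ᵇ 𝒴)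
    {c : Ch 𝒳} (h : (Ch.push f).obj c ⟶ ⟨(AlgSp.yon S).obj U, BasedFunctor.comp (toOverCat U) y⟩)
    (o : (ofSp c.F).obj) : h.α.toNatTrans.app o ≫ ((cmpF h𝒴 f y h).obj o).obj.iso.hom = 𝟙 _ := by
  have := isIso_two_cell h𝒴 h.α
  have h1 := congrArg (fun q => q.toNatTrans.app o) (IsIso.hom_inv_id h.α)
  exact h1

theorem cmpF_iso' (h𝒴 : FibCat.IsFibGrpd 𝒴.p) (f : 𝒳 ⥤ᵇ 𝒴) {U : Over S} (y : FibCat.overCat U ⥤ᵇ 𝒴)
    {c : Ch 𝒳} (h : (Ch.push f).obj c ⟶ ⟨(AlgSp.yon S).obj U, BasedFunctor.comp (toOverCat U) y⟩)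
    (o : (ofSp c.F).obj) : ((cmpF h𝒴 f y h).obj o).obj.iso.hom ≫ h.α.toNatTrans.app o = 𝟙 _ := by
  have := isIso_two_cell h𝒴 h.α
  have h1 := congrArg (fun q => q.toNatTrans.app o) (IsIso.inv_hom_id h.α)
  exact h1


theorem cmpF_full_aux (h𝒳 : FibCat.IsFibGrpd 𝒳.p) (h𝒴 : FibCat.IsFibGrpd 𝒴.p) (f : 𝒳 ⥤ᵇ 𝒴) {U : Over S}
    (y : FibCat.overCat U ⥤ᵇ 𝒴) {c : Ch 𝒳}
    (h : (Ch.push f).obj c ⟶ ⟨(AlgSp.yon S).obj U, BasedFunctor.comp (toOverCat U) y⟩) (hh : IsBC f h)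
    {T : Over S} (a₁ a₂ : (AlgSp.yon S).obj T ⟶ c.F)
    (φ : (cmpF h𝒴 f y h).obj ((ofSpMap a₁).obj (gen T)) ⟶ (cmpF h𝒴 f y h).obj ((ofSpMap a₂).obj (gen T)))
    (hφ : K735.Fib.Vert (FibCat.fp y f).p φ) : ∃ ψ, (cmpF h𝒴 f y h).map ψ = φ := by
  have hv1 : φ.hom.fst.left = 𝟙 T := hφ.map_eq
  have hv2 : K735.Fib.Vert 𝒳.p φ.hom.snd := (K735.Fp.vert_fp_iff_snd φ).1 hφ
  obtain ⟨β, hβ⟩ := exists_cell h𝒳 (BasedFunctor.comp (ofSpMap a₁) c.x) (BasedFunctor.comp (ofSpMap a₂) c.x)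
    φ.hom.snd hv2
  let l₁ : c.res a₁ ⟶ c := c.resHom a₁
  let l₂ : c.res a₁ ⟶ c := (⟨a₂, β⟩ : Ch.Hom _ _)
  have ha : a₁ ≫ h.a = a₂ ≫ h.a := by
    apply yon_hom_ext
    have h1 : φ.hom.fst.left ≫ ((ofSpMap (a₂ ≫ h.a)).obj (gen T)).sec.down =
      ((ofSpMap (a₁ ≫ h.a)).obj (gen T)).sec.down := Over.w φ.hom.fst
    rw [hv1] at h1
    erw [Category.id_comp] at h1
    have h2 : ((ofSpMap (a₂ ≫ h.a)).obj (gen T)).sec = ((ofSpMap (a₁ ≫ h.a)).obj (gen T)).sec := ULift.ext _ _ h1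
    have h3 := congrArg (fun q => (⟨T, q⟩ : (ofSch U).obj)) h2
    exact h3.symm
  have hfst : (toOverCat U).map (Ch.vert ha (gen T)) = φ.hom.fst := Over.OverMorphism.ext hv1.symm
  have hw : y.map φ.hom.fst ≫ ((cmpF h𝒴 f y h).obj ((ofSpMap a₂).obj (gen T))).obj.iso.hom =
    ((cmpF h𝒴 f y h).obj ((ofSpMap a₁).obj (gen T))).obj.iso.hom ≫ f.map φ.hom.snd := φ.hom.w
  have hl : (Ch.push f).map l₁ ≫ h = (Ch.push f).map l₂ ≫ h := by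
    refine Ch.hom_ext_gen h𝒴 (T := T) ha ?_
    change (f.map (𝟙 _) ≫ h.α.toNatTrans.app ((ofSpMap a₁).obj (gen T))) ≫
      y.map ((toOverCat U).map (Ch.vert ha (gen T))) =
      f.map (β.toNatTrans.app (gen T)) ≫ h.α.toNatTrans.app ((ofSpMap a₂).obj (gen T))
    rw [hfst, hβ]
    erw [f.toFunctor.map_id, Category.id_comp]
    have e1 := cmpF_iso h𝒴 f y h ((ofSpMap a₁).obj (gen T))
    have e2 := cmpF_iso' h𝒴 f y h ((ofSpMap a₂).obj (gen T))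
    have e3 := congrArg (fun q => h.α.toNatTrans.app ((ofSpMap a₁).obj (gen T)) ≫ q ≫
      h.α.toNatTrans.app ((ofSpMap a₂).obj (gen T))) hw
    dsimp only at e3
    rw [Category.assoc, Category.assoc, e2] at e3
    erw [reassoc_of% e1, Category.comp_id] at e3
    exact e3
  have hll : l₁ = l₂ := (hh _ _).unique hl rfl
  have ha12 : a₁ = a₂ := congrArg Ch.Hom.a hll
  obtain rfl : a₁ = a₂ := ha12
  have hβ1 : 𝟙 _ = β := by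
    change (⟨a₁, 𝟙 _⟩ : Ch.Hom (c.res a₁) c) = ⟨a₁, β⟩ at hll
    injection hll
  refine ⟨𝟙 _, ?_⟩
  rw [← hβ1] at hβ
  apply K735.Fp.fp_hom_ext
  · exact Over.OverMorphism.ext hv1.symm
  · exact (c.x.toFunctor.map_id _).trans hβ

theorem cmpF_surj_aux (h𝒳 : FibCat.IsFibGrpd 𝒳.p) (h𝒴 : FibCat.IsFibGrpd 𝒴.p) (f : 𝒳 ⥤ᵇ 𝒴) {U : Over S}
    (y : FibCat.overCat U ⥤ᵇ 𝒴) {c : Ch 𝒳}
    (h : (Ch.push f).obj c ⟶ ⟨(AlgSp.yon S).obj U, BasedFunctor.comp (toOverCat U) y⟩) (hh : IsBC f h)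
    (η : (FibCat.fp y f).obj) :
    ∃ (o : (ofSp c.F).obj) (φ : (cmpF h𝒴 f y h).obj o ⟶ η), K735.Fib.Vert (FibCat.fp y f).p φ := by
  let T : Over S := η.obj.fst.left
  let g : T ⟶ U := η.obj.fst.hom
  obtain ⟨x, ex, hex⟩ := exists_functor h𝒳 (T := T) η.obj.snd (K735.Fp.fp_snd_eq η)
  let c' : Ch 𝒳 := ⟨(AlgSp.yon S).obj T, x⟩
  let δ : η.obj.fst ⟶ (toOverCat U).obj ((ofSpMap ((AlgSp.yon S).map g)).obj (gen T)) :=
    Over.homMk (𝟙 T) (by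
      change 𝟙 T ≫ (𝟙 T ≫ g) = g
      rw [Category.id_comp, Category.id_comp])
  let δ' : (toOverCat U).obj ((ofSpMap ((AlgSp.yon S).map g)).obj (gen T)) ⟶ η.obj.fst :=
    Over.homMk (𝟙 T) (by
      change 𝟙 T ≫ g = (𝟙 T ≫ g)
      rfl)
  have hδ : δ ≫ δ' = 𝟙 _ := Over.OverMorphism.ext (Category.id_comp _)
  have hη : K735.Fib.Vert 𝒴.p η.obj.iso.hom := K735.Fp.fp_vert η
  have hφ₀ : K735.Fib.Vert 𝒴.p (f.map ex.hom ≫ η.obj.iso.inv ≫ y.map δ) := by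
    refine (hex.map f).comp (hη.iso_inv.comp ?_)
    refine K735.Fib.Vert.map y (K735.Fib.vert_of_map_eq rfl ?_)
    rfl
  obtain ⟨κ, hκ⟩ := exists_cell h𝒴 (BasedFunctor.comp x f)
    (BasedFunctor.comp (ofSpMap ((AlgSp.yon S).map g)) (BasedFunctor.comp (toOverCat U) y)) _ hφ₀
  let k : (Ch.push f).obj c' ⟶ ⟨(AlgSp.yon S).obj U, BasedFunctor.comp (toOverCat U) y⟩ :=
    (⟨(AlgSp.yon S).map g, κ⟩ : Ch.Hom _ _)
  obtain ⟨l, hl, -⟩ := hh c' k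
  let o : (ofSp c.F).obj := (ofSpMap l.a).obj (gen T)
  have hE := Ch.Hom.congr hl (gen T)
  change (f.map (l.α.toNatTrans.app (gen T)) ≫ h.α.toNatTrans.app o) ≫
    y.map ((toOverCat U).map (Ch.vert (congrArg Ch.Hom.a hl) (gen T))) = κ.toNatTrans.app (gen T) at hE
  rw [hκ] at hE
  have hlv : K735.Fib.Vert 𝒳.p (l.α.toNatTrans.app (gen T)) := K735.Fib.vert_app l.α (gen T)
  have hli : IsIso (l.α.toNatTrans.app (gen T)) := isIso_two_cell_app h𝒳 l.α (gen T)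
  have hw : y.map ((toOverCat U).map (Ch.vert (congrArg Ch.Hom.a hl) (gen T)) ≫ δ') ≫ η.obj.iso.hom =
      ((cmpF h𝒴 f y h).obj o).obj.iso.hom ≫ f.map (inv (l.α.toNatTrans.app (gen T)) ≫ ex.hom) := by
    have e1 := congrArg (fun q => ((cmpF h𝒴 f y h).obj o).obj.iso.hom ≫ f.map (inv (l.α.toNatTrans.app (gen T))) ≫ q ≫
      y.map δ' ≫ η.obj.iso.hom) hE
    dsimp only at e1
    have e2 := cmpF_iso' h𝒴 f y h o
    have e3 : f.map (inv (l.α.toNatTrans.app (gen T))) ≫ f.map (l.α.toNatTrans.app (gen T)) = 𝟙 _ := by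
      rw [← f.toFunctor.map_comp, IsIso.inv_hom_id]
      exact f.toFunctor.map_id _
    have e4 : y.map δ ≫ y.map δ' = 𝟙 _ := by
      rw [← y.toFunctor.map_comp, hδ]
      exact y.toFunctor.map_id _
    simp only [Category.assoc] at e1
    rw [reassoc_of% e3, reassoc_of% e4, Iso.inv_hom_id, Category.comp_id] at e1
    rw [y.toFunctor.map_comp, f.toFunctor.map_comp, ← e1]
    erw [reassoc_of% e2]
    exact Category.assoc _ _ _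
  let φ : (cmpF h𝒴 f y h).obj o ⟶ η := K735.Fp.homFp
    ((toOverCat U).map (Ch.vert (congrArg Ch.Hom.a hl) (gen T)) ≫ δ')
    (inv (l.α.toNatTrans.app (gen T)) ≫ ex.hom) hw
  refine ⟨o, φ, ?_⟩
  rw [K735.Fp.vert_fp_iff_snd]
  exact hlv.inv.comp hex

theorem isEquivOver_cmpF (h𝒳 : FibCat.IsFibGrpd 𝒳.p) (h𝒴 : FibCat.IsFibGrpd 𝒴.p) (f : 𝒳 ⥤ᵇ 𝒴) {U : Over S}
    (y : FibCat.overCat U ⥤ᵇ 𝒴) {c : Ch 𝒳}
    (h : (Ch.push f).obj c ⟶ ⟨(AlgSp.yon S).obj U, BasedFunctor.comp (toOverCat U) y⟩) (hh : IsBC f h) :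
    FibCat.IsEquivOver (cmpF h𝒴 f y h) := by
  refine K735.Fib.isEquivOver_of_vert (K735.Rep.isFibGrpd_ofSp c.F)
    (K735.Fp.isFibGrpd_fp (K735.Fp.isFibGrpd_overCat U) h𝒳 h𝒴 y f) ?_ ?_ ?_
  · intro a b φ ψ hφ hψ _
    exact K735.Rep.ofSp_hom_ext (hφ.map_eq.trans hψ.map_eq.symm)
  · intro o₁ o₂ φ hφ
    have key : ∀ (T : Over S) (o₁ o₂ : (ofSp c.F).obj) (φ : (cmpF h𝒴 f y h).obj o₁ ⟶ (cmpF h𝒴 f y h).obj o₂),
        K735.Fib.Vert (FibCat.fp y f).p φ → (∃ a₁ : (AlgSp.yon S).obj T ⟶ c.F, (ofSpMap a₁).obj (gen T) = o₁) →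
        (∃ a₂ : (AlgSp.yon S).obj T ⟶ c.F, (ofSpMap a₂).obj (gen T) = o₂) → ∃ ψ, (cmpF h𝒴 f y h).map ψ = φ := by
      rintro T _ _ φ hφ ⟨a₁, rfl⟩ ⟨a₂, rfl⟩
      exact cmpF_full_aux h𝒳 h𝒴 f y h hh a₁ a₂ φ hφ
    have hbase : o₁.base = o₂.base := hφ.eq.symm
    obtain ⟨T, s₁⟩ := o₁
    obtain ⟨T₂, s₂⟩ := o₂
    obtain rfl : T = T₂ := hbase
    exact key T _ _ φ hφ (exists_section (⟨T, s₁⟩ : (ofSp c.F).obj)) (exists_section (⟨T, s₂⟩ : (ofSp c.F).obj))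
  · intro η
    exact cmpF_surj_aux h𝒳 h𝒴 f y h hh η

/-- `RepByAlgSpWith` from base change squares -/
theorem repByAlgSpWith_of_isBC (h𝒳 : FibCat.IsFibGrpd 𝒳.p) (h𝒴 : FibCat.IsFibGrpd 𝒴.p)
    {P : MorphismProperty (AlgSp.Sp S)} {f : 𝒳 ⥤ᵇ 𝒴}
    (H : ∀ (U : Over S) (y : ofSch U ⥤ᵇ 𝒴), ∃ (c : Ch 𝒳) (h : (Ch.push f).obj c ⟶ ⟨(AlgSp.yon S).obj U, y⟩),
      AlgSp.IsAlgSpace c.F ∧ IsBC f h ∧ P h.a) : RepByAlgSpWith P f := by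
  intro U y
  obtain ⟨c, h, hc, hh, hP⟩ := H U (BasedFunctor.comp (toOverCat U) y)
  refine ⟨⟨c.F, hc⟩, cmpF h𝒴 f y h, isEquivOver_cmpF h𝒳 h𝒴 f y h hh, ?_⟩
  rw [cmpF_fst, K735.Rep.spMapOfOver_ofSpMap_toOverCat]
  exact hP

theorem repByAlgSpWith_iff_isBC (h𝒳 : FibCat.IsFibGrpd 𝒳.p) (h𝒴 : FibCat.IsFibGrpd 𝒴.p)
    {P : MorphismProperty (AlgSp.Sp S)} {f : 𝒳 ⥤ᵇ 𝒴} : RepByAlgSpWith P f ↔
    ∀ (U : Over S) (y : ofSch U ⥤ᵇ 𝒴), ∃ (c : Ch 𝒳) (h : (Ch.push f).obj c ⟶ ⟨(AlgSp.yon S).obj U, y⟩),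
      AlgSp.IsAlgSpace c.F ∧ IsBC f h ∧ P h.a :=
  ⟨fun h _ y => exists_isBC h𝒳 h𝒴 h y, repByAlgSpWith_of_isBC h𝒳 h𝒴⟩

end

end K741
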