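import Groth.Agent.AlgSt.K741.Desc2

/-!
# Base change of `LocQ`
-/

set_option autoImplicit false
set_option backward.isDefEq.respectTransparency false
set_option backward.isDefEq.respectTransparency.types false

universe w₄ v₄ w'' v'' w' v' w v u

open CategoryTheory CategoryTheory.Limits AlgebraicGeometry Opposite
open AlgSt

namespace K741

variable {S : Scheme.{u}} {𝒳 𝒴 𝒵 : AlgSt.Cat S}

/-- base change of a chart square along a chart square of `z`, all properties at once -/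
theorem exists_bc_chart' (h𝒳 : FibCat.IsFibGrpd 𝒳.p) (h𝒴 : FibCat.IsFibGrpd 𝒴.p) (h𝒵 : FibCat.IsFibGrpd 𝒵.p)
    {f : 𝒳 ⥤ᵇ 𝒴} {z : 𝒵 ⥤ᵇ 𝒴} {c : Ch 𝒳} {d : Ch 𝒴} {e : Ch 𝒵} (h : (Ch.push f).obj c ⟶ d)
    (m : (Ch.push z).obj e ⟶ d) {E : AlgSp.Sp S} {q : E ⟶ c.F} {p : E ⟶ e.F}
    (sq : IsPullback q p h.a m.a) :
    ∃ (x' : ofSp E ⥤ᵇ FibCat.fp z f) (h' : (Ch.push (FibCat.fpFst z f)).obj ⟨E, x'⟩ ⟶ e)
      (k : (Ch.push (FibCat.fpSnd z f)).obj ⟨E, x'⟩ ⟶ c), h'.a = p ∧ k.a = q ∧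
      ∀ (Q : MorphismProperty (AlgSp.Sp S)) [Q.RespectsIso], K734.Rep.StableBC Q →
        AlgSp.IsLocalOnBase AlgSp.IsFppfCover Q → RpA (Cm.Φ f d) Q (CostructuredArrow.mk h) →
        RepByAlgSpWith Q (Cm.lift h𝒵 (FibCat.fpFst z f) e (CostructuredArrow.mk h')) := by
  obtain ⟨h₁, hp, hw⟩ := Cm.exists_base h𝒴 m (CostructuredArrow.mk h) sq
  let A' : Cm f ((Ch.push z).obj e) := CostructuredArrow.mk h₁
  refine ⟨(pObj h𝒴 f z e A').x, pHom h𝒴 f z e A', c.resHom q, hp, rfl, fun Q _ hQb hQ hk => ?_⟩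
  have h1 := Cm.rpA_base h𝒳 h𝒴 m hk sq hp hw
  exact (repByAlgSpWith_lift_iff h𝒳 h𝒴 h𝒵 Q f z e A').2 ((Cm.rpA_iff hQb hQ h𝒳 h𝒴 _ A').2 h1)

/-- S13039 -/
theorem locQ_fpFst {P : MorphismProperty (AlgSp.Sp S)} (hP : AlgSp.IsSmoothLocalST P) (hPb : K734.Rep.StableBC P)
    (h𝒳 : IsAlgStack Scheme.fppfPrecoverage 𝒳) (h𝒴 : IsAlgStack Scheme.fppfPrecoverage 𝒴)
    (h𝒵 : IsAlgStack Scheme.fppfPrecoverage 𝒵) (f : 𝒳 ⥤ᵇ 𝒴) (z : 𝒵 ⥤ᵇ 𝒴) (H : LocQ P f) :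
    LocQ P (FibCat.fpFst z f) := by
  have g𝒳 := h𝒳.isStack.1
  have g𝒴 := h𝒴.isStack.1
  have g𝒵 := h𝒵.isStack.1
  have gfp := K735.Fp.isFibGrpd_fp g𝒵 g𝒳 g𝒴 z f
  obtain ⟨V, y, hy, hy'⟩ := h𝒴.atlas
  obtain ⟨U, x, h, α, hx, hk, hx'⟩ := exists_chart h𝒳 h𝒴 f y hy
  obtain ⟨W, w, g, β, hw, ht, hw'⟩ := exists_chart h𝒵 h𝒴 z y hy
  have hPh : P ((AlgSp.yon S).map h) := prop_of_locQ hP g𝒳 g𝒴 H x y h α hy hk.smooth
  have sq : IsPullback ((AlgSp.yon S).map (pullback.fst h g)) ((AlgSp.yon S).map (pullback.snd h g))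
      (sqHom f x y h α).a (sqHom z w y g β).a := (IsPullback.of_hasPullback h g).map (AlgSp.yon S)
  obtain ⟨x', h', k, h'a, hka, hr⟩ := exists_bc_chart' g𝒳 g𝒴 g𝒵 (sqHom f x y h α) (sqHom z w y g β) sq
  have h1 := hr (AlgSp.LocP @Smooth) stableBC_smooth isLocalOnBase_smooth
    (rpA_sqHom g𝒳 g𝒴 stableBC_smooth isLocalOnBase_smooth f x y h α hk.smooth)
  have h2 := hr AlgSp.IsSurjectiveMor stableBC_surj isLocalOnBase_surj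
    (rpA_sqHom g𝒳 g𝒴 stableBC_surj isLocalOnBase_surj f x y h α hk.surj)
  have hws : SmSurj (BasedFunctor.comp (toOverCat W) w) :=
    ⟨(repByAlgSpWith_toOverCat _ _).1 hw, (repByAlgSpWith_toOverCat _ _).1 (hw' hy')⟩
  have hx's : SmSurj x' := SmSurj.comp (K735.Rep.isFibGrpd_ofSp _)
    (K735.Fp.isFibGrpd_fp gfp (K735.Rep.isFibGrpd_ofSp _) g𝒵 (FibCat.fpFst z f) (BasedFunctor.comp (toOverCat W) w))
    (⟨h1, h2⟩ : SmSurj _) (hws.fpFst (FibCat.fpFst z f))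
  refine locQ_of_sp hP gfp g𝒵 h' (AlgSp.IsAlgSpace.yon_obj _) (AlgSp.IsAlgSpace.yon_obj W) hx's hws.smooth ?_
  rw [h'a]
  exact hPb (AlgSp.IsAlgSpace.yon_obj U) (AlgSp.IsAlgSpace.yon_obj V) (AlgSp.IsAlgSpace.yon_obj _)
    (AlgSp.IsAlgSpace.yon_obj W) _ _ _ _ sq hPh

end K741
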