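import Groth.Prelude.Def_AlgSt4

/-!
# The category of sheaves over a category fibred in groupoids

`Ch 𝒳` : objects `(F, x)` with `F` an fppf sheaf and `x : ofSp F ⥤ᵇ 𝒳`; morphisms `(a, α)` with `a : F ⟶ G` and
`α : x ⟶ ofSpMap a ⋙ y` a 2-morphism.
-/

set_option autoImplicit false
set_option backward.isDefEq.respectTransparency false
set_option backward.isDefEq.respectTransparency.types false

universe w'' v'' w' v' w v u

open CategoryTheory CategoryTheory.Limits AlgebraicGeometry Opposite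
open AlgSt

namespace K741

variable {S : Scheme.{u}}

/-- a morphism of a category fibred in groupoids over an identity is an isomorphism -/
theorem isIso_of_isHomLift_id {𝒳 : BasedCategory.{v, w} (Over S)} (h𝒳 : FibCat.IsFibGrpd 𝒳.p) {T : Over S}
    {p q : 𝒳.obj} (φ : p ⟶ q) (h1 : 𝒳.p.IsHomLift (𝟙 T) φ) : IsIso φ := by
  have h2 := h𝒳.isStronglyCartesian φ
  have h3 : IsIso (𝒳.p.map φ) := by
    rw [IsHomLift.fac' 𝒳.p (𝟙 T) φ]
    infer_instance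
  exact Functor.IsStronglyCartesian.isIso_of_base_isIso 𝒳.p (𝒳.p.map φ) _

/-- components of morphisms of based functors into a category fibred in groupoids are isomorphisms -/
theorem isIso_two_cell_app {𝒲 : BasedCategory.{v', w'} (Over S)} {𝒳 : BasedCategory.{v, w} (Over S)}
    (h𝒳 : FibCat.IsFibGrpd 𝒳.p) {F G : 𝒲 ⥤ᵇ 𝒳} (α : F ⟶ G) (o : 𝒲.obj) : IsIso (α.toNatTrans.app o) :=
  isIso_of_isHomLift_id h𝒳 (α.toNatTrans.app o) (α.isHomLift' o)

/-- every morphism of based functors into a category fibred in groupoids is an isomorphism -/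
theorem isIso_two_cell {𝒲 : BasedCategory.{v', w'} (Over S)} {𝒳 : BasedCategory.{v, w} (Over S)}
    (h𝒳 : FibCat.IsFibGrpd 𝒳.p) {F G : 𝒲 ⥤ᵇ 𝒳} (α : F ⟶ G) : IsIso α := by
  have : ∀ o, IsIso (α.toNatTrans.app o) := isIso_two_cell_app h𝒳 α
  have : IsIso (X := F.toFunctor) α.toNatTrans := NatIso.isIso_of_isIso_app _
  exact BasedNatIso.isIso_of_toNatTrans_isIso α

/-- the category of sheaves over `𝒳` -/
structure Ch (𝒳 : BasedCategory.{v, w} (Over S)) where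
  /-- the underlying sheaf -/
  F : AlgSp.Sp S
  /-- the structure functor -/
  x : ofSp F ⥤ᵇ 𝒳

namespace Ch

variable {𝒳 : BasedCategory.{v, w} (Over S)} {𝒴 : BasedCategory.{v', w'} (Over S)}
  {𝒵 : BasedCategory.{v'', w''} (Over S)}

/-- morphisms of sheaves over `𝒳` -/
structure Hom (c d : Ch 𝒳) where
  /-- the map of sheaves -/
  a : c.F ⟶ d.F
  /-- the 2-cell -/
  α : c.x ⟶ BasedFunctor.comp (ofSpMap a) d.x

/-- the vertical morphism of `ofSp F` between equal sections -/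
def vert {F G : AlgSp.Sp S} {a b : F ⟶ G} (h : a = b) (o : (ofSp F).obj) :
    (ofSpMap a).obj o ⟶ (ofSpMap b).obj o :=
  ⟨𝟙 _, by subst h; simp⟩

theorem vert_rfl {F G : AlgSp.Sp S} (a : F ⟶ G) (o : (ofSp F).obj) : vert (rfl : a = a) o = 𝟙 _ := rfl

theorem Hom.ext' {c d : Ch 𝒳} {f g : Hom c d} (h : f.a = g.a)
    (h' : ∀ o, f.α.toNatTrans.app o ≫ d.x.map (vert h o) = g.α.toNatTrans.app o) : f = g := by
  obtain ⟨a, α⟩ := f
  obtain ⟨b, β⟩ := g
  obtain rfl : a = b := h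
  congr 1
  ext o
  have := h' o
  rw [vert_rfl] at this
  erw [d.x.toFunctor.map_id] at this
  erw [Category.comp_id] at this
  exact this

theorem Hom.congr {c d : Ch 𝒳} {f g : Hom c d} (h : f = g) (o : (ofSp c.F).obj) :
    f.α.toNatTrans.app o ≫ d.x.map (vert (congrArg Hom.a h) o) = g.α.toNatTrans.app o := by
  subst h
  rw [vert_rfl]
  erw [d.x.toFunctor.map_id]
  erw [Category.comp_id]

instance : Category (Ch 𝒳) where
  Hom := Hom
  id c := ⟨𝟙 c.F, 𝟙 c.x⟩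
  comp f g := ⟨f.a ≫ g.a, f.α ≫ BasedCategory.whiskerLeft (ofSpMap f.a) g.α⟩
  id_comp {c d} f := by
    refine Hom.ext' rfl fun o => ?_
    rw [vert_rfl]
    erw [d.x.toFunctor.map_id, Category.comp_id]
    exact Category.id_comp _
  comp_id {c d} f := by
    refine Hom.ext' rfl fun o => ?_
    rw [vert_rfl]
    erw [d.x.toFunctor.map_id, Category.comp_id]
    exact Category.comp_id _
  assoc {c d e e'} f g h := by
    refine Hom.ext' rfl fun o => ?_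
    rw [vert_rfl]
    erw [e'.x.toFunctor.map_id, Category.comp_id]
    exact Category.assoc _ _ _

@[simp] theorem id_a (c : Ch 𝒳) : (𝟙 c : c ⟶ c).a = 𝟙 c.F := rfl

@[simp] theorem comp_a {c d e : Ch 𝒳} (f : c ⟶ d) (g : d ⟶ e) : (f ≫ g).a = f.a ≫ g.a := rfl

theorem id_app (c : Ch 𝒳) (o : (ofSp c.F).obj) : (𝟙 c : c ⟶ c).α.toNatTrans.app o = 𝟙 _ := rfl

theorem comp_app {c d e : Ch 𝒳} (f : c ⟶ d) (g : d ⟶ e) (o : (ofSp c.F).obj) :
    (f ≫ g).α.toNatTrans.app o = f.α.toNatTrans.app o ≫ g.α.toNatTrans.app ((ofSpMap f.a).obj o) := rfl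

theorem hom_ext {c d : Ch 𝒳} {f g : c ⟶ d} (h : f.a = g.a)
    (h' : ∀ o, f.α.toNatTrans.app o ≫ d.x.map (vert h o) = g.α.toNatTrans.app o) : f = g :=
  Hom.ext' h h'

theorem hom_ext_mk {c d : Ch 𝒳} {a : c.F ⟶ d.F} {α β : c.x ⟶ BasedFunctor.comp (ofSpMap a) d.x}
    (h : ∀ o, α.toNatTrans.app o = β.toNatTrans.app o) : (⟨a, α⟩ : Hom c d) = ⟨a, β⟩ := by
  congr 1
  ext o
  exact h o

/-- the underlying sheaf -/
def forget (𝒳 : BasedCategory.{v, w} (Over S)) : Ch 𝒳 ⥤ AlgSp.Sp S where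
  obj c := c.F
  map f := f.a

/-- composition with a functor `f : 𝒳 ⥤ᵇ 𝒴` -/
def push (f : 𝒳 ⥤ᵇ 𝒴) : Ch 𝒳 ⥤ Ch 𝒴 where
  obj c := ⟨c.F, BasedFunctor.comp c.x f⟩
  map {c d} m := (⟨m.a, BasedCategory.whiskerRight m.α f⟩ : Hom (𝒳 := 𝒴) _ _)
  map_id c := by
    refine hom_ext rfl fun o => ?_
    rw [vert_rfl]
    change f.map (𝟙 _) ≫ f.map (c.x.map (𝟙 _)) = 𝟙 _
    erw [f.toFunctor.map_id, c.x.toFunctor.map_id, f.toFunctor.map_id]
    exact Category.comp_id _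
  map_comp {c d e} m n := by
    refine hom_ext rfl fun o => ?_
    rw [vert_rfl]
    change f.map (_ ≫ _) ≫ f.map (e.x.map (𝟙 _)) = f.map _ ≫ f.map _
    erw [e.x.toFunctor.map_id, f.toFunctor.map_id, Category.comp_id, f.toFunctor.map_comp]
    rfl

@[simp] theorem push_obj_F (f : 𝒳 ⥤ᵇ 𝒴) (c : Ch 𝒳) : ((push f).obj c).F = c.F := rfl

@[simp] theorem push_obj_x (f : 𝒳 ⥤ᵇ 𝒴) (c : Ch 𝒳) : ((push f).obj c).x = BasedFunctor.comp c.x f := rfl

@[simp] theorem push_map_a (f : 𝒳 ⥤ᵇ 𝒴) {c d : Ch 𝒳} (m : c ⟶ d) : ((push f).map m).a = m.a := rfl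

/-- change the structure functor by a 2-isomorphism -/
def isoOfIso (F : AlgSp.Sp S) {x y : ofSp F ⥤ᵇ 𝒳} (e : x ≅ y) : (⟨F, x⟩ : Ch 𝒳) ≅ ⟨F, y⟩ where
  hom := (⟨𝟙 F, e.hom⟩ : Hom _ _)
  inv := (⟨𝟙 F, e.inv⟩ : Hom _ _)
  hom_inv_id := by
    refine hom_ext rfl fun o => ?_
    rw [vert_rfl]
    erw [x.toFunctor.map_id, Category.comp_id]
    change (e.hom ≫ e.inv).toNatTrans.app o = _
    rw [e.hom_inv_id]
    rfl
  inv_hom_id := by
    refine hom_ext rfl fun o => ?_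
    rw [vert_rfl]
    erw [y.toFunctor.map_id, Category.comp_id]
    change (e.inv ≫ e.hom).toNatTrans.app o = _
    rw [e.inv_hom_id]
    rfl

section Lift

variable (h𝒳 : FibCat.IsFibGrpd 𝒳.p)

include h𝒳 in
/-- every morphism of `Ch 𝒳` is cartesian over `Sp S`, existence -/
theorem exists_lift {c d e : Ch 𝒳} (m : d ⟶ e) (n : c ⟶ e) (v : c.F ⟶ d.F) (hv : v ≫ m.a = n.a) :
    ∃ l : c ⟶ d, l.a = v ∧ l ≫ m = n := by
  obtain ⟨b, β⟩ := n
  obtain rfl : v ≫ m.a = b := hv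
  have := isIso_two_cell h𝒳 m.α
  have h2 := isIso_two_cell h𝒳 (BasedCategory.whiskerLeft (ofSpMap v) m.α)
  let l : c ⟶ d := (⟨v, β ≫ inv (BasedCategory.whiskerLeft (ofSpMap v) m.α)⟩ : Hom _ _)
  refine ⟨l, rfl, ?_⟩
  change (⟨v ≫ m.a, (β ≫ inv (BasedCategory.whiskerLeft (ofSpMap v) m.α)) ≫
    BasedCategory.whiskerLeft (ofSpMap v) m.α⟩ : Hom _ _) = ⟨v ≫ m.a, β⟩
  congr 1
  erw [Category.assoc, IsIso.inv_hom_id, Category.comp_id]

include h𝒳 in
/-- every morphism of `Ch 𝒳` is cartesian over `Sp S`, uniqueness -/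
theorem lift_unique {c d e : Ch 𝒳} (m : d ⟶ e) {l l' : c ⟶ d} (h : l.a = l'.a) (h' : l ≫ m = l' ≫ m) :
    l = l' := by
  obtain ⟨a, α⟩ := l
  obtain ⟨b, β⟩ := l'
  obtain rfl : a = b := h
  have h2 := isIso_two_cell h𝒳 (BasedCategory.whiskerLeft (ofSpMap a) m.α)
  congr 1
  rw [← cancel_mono (BasedCategory.whiskerLeft (ofSpMap a) m.α)]
  change (⟨a ≫ m.a, α ≫ BasedCategory.whiskerLeft (ofSpMap a) m.α⟩ : Hom _ _) =
    ⟨a ≫ m.a, β ≫ BasedCategory.whiskerLeft (ofSpMap a) m.α⟩ at h'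
  injection h'

include h𝒳 in
/-- a morphism of `Ch 𝒳` over an isomorphism is an isomorphism -/
theorem isIso_of_isIso_a {c d : Ch 𝒳} (m : c ⟶ d) [IsIso m.a] : IsIso m := by
  obtain ⟨l, hl, hl'⟩ := exists_lift h𝒳 m (𝟙 d) (inv m.a) (by simp)
  refine ⟨l, ?_, hl'⟩
  refine lift_unique h𝒳 m (by simp [hl]) ?_
  rw [Category.assoc, hl', Category.comp_id, Category.id_comp]

end Lift

/-- restriction of a sheaf over `𝒳` along a map of sheaves -/
def res (c : Ch 𝒳) {G : AlgSp.Sp S} (v : G ⟶ c.F) : Ch 𝒳 := ⟨G, BasedFunctor.comp (ofSpMap v) c.x⟩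

/-- the morphism from the restriction -/
def resHom (c : Ch 𝒳) {G : AlgSp.Sp S} (v : G ⟶ c.F) : c.res v ⟶ c := (⟨v, 𝟙 _⟩ : Hom _ _)

@[simp] theorem res_F (c : Ch 𝒳) {G : AlgSp.Sp S} (v : G ⟶ c.F) : (c.res v).F = G := rfl

@[simp] theorem resHom_a (c : Ch 𝒳) {G : AlgSp.Sp S} (v : G ⟶ c.F) : (c.resHom v).a = v := rfl

end Ch

end K741
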