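import Groth.Agent.AlgSt.K741.SpFib

/-!
# `Ch 𝒳` as a category fibred in groupoids over the category of sheaves; representability through products
-/

set_option autoImplicit false
set_option backward.isDefEq.respectTransparency false
set_option backward.isDefEq.respectTransparency.types false

universe w₄ v₄ w'' v'' w' v' w v u

open CategoryTheory CategoryTheory.Limits AlgebraicGeometry Opposite
open AlgSt

namespace K741

variable {S : Scheme.{u}}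

section

variable {𝒳 : BasedCategory.{v, w} (Over S)} {𝒴 : BasedCategory.{v', w'} (Over S)}

theorem Ch.spFib (h𝒳 : FibCat.IsFibGrpd 𝒳.p) : SpFib (Ch.forget 𝒳) where
  lift m n v hv := Ch.exists_lift h𝒳 m n v hv
  uniq m _ _ h h' := Ch.lift_unique h𝒳 m h h'
  res c _ v := ⟨c.res v, Iso.refl _, c.resHom v, Category.id_comp _⟩

@[simp] theorem Ch.forget_map {c d : Ch 𝒳} (m : c ⟶ d) : (Ch.forget 𝒳).map m = m.a := rfl

@[simp] theorem Ch.forget_obj (c : Ch 𝒳) : (Ch.forget 𝒳).obj c = c.F := rfl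

/-- the terminal object of `Ch (ofSp F)` -/
def Ch.top (F : AlgSp.Sp S) : Ch (ofSp F) := ⟨F, BasedFunctor.id _⟩

/-- the map to the terminal object -/
def Ch.toTop {F : AlgSp.Sp S} (c : Ch (ofSp F)) : c ⟶ Ch.top F := (⟨spMap c.x, (spMapIso c.x).hom⟩ : Ch.Hom _ _)

theorem Ch.top_unique {F : AlgSp.Sp S} {c : Ch (ofSp F)} (f g : c ⟶ Ch.top F) : f = g := by
  obtain ⟨a, α⟩ := f
  obtain ⟨b, β⟩ := g
  have hα := isIso_two_cell (K735.Rep.isFibGrpd_ofSp F) α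
  have hab : a = b := by
    have γ : ofSpMap a ⟶ ofSpMap b := (asIso α).inv ≫ β
    exact spMap_eq_of_hom γ
  obtain rfl := hab
  have : α = β := elt_hom_unique α β
  rw [this]

/-- the comparison between an object over `c` and the image of the corresponding object of `Ch (ofSp F)` -/
theorem Ch.exists_cmp (h𝒳 : FibCat.IsFibGrpd 𝒳.p) {F : AlgSp.Sp S} (x : ofSp F ⥤ᵇ 𝒳) {e : Ch 𝒳} (m : e ⟶ ⟨F, x⟩) :
    ∃ (c : Ch (ofSp F)) (j : e ≅ (Ch.push x).obj c), j.hom ≫ (Ch.push x).map c.toTop = m := by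
  let c : Ch (ofSp F) := ⟨e.F, ofSpMap m.a⟩
  let j : e ⟶ (Ch.push x).obj c := (⟨𝟙 e.F, m.α⟩ : Ch.Hom e ((Ch.push x).obj c))
  have hj : IsIso j.a := inferInstanceAs (IsIso (𝟙 e.F))
  have hj' : IsIso j := Ch.isIso_of_isIso_a h𝒳 j
  let t : c ⟶ Ch.top F := (⟨m.a, 𝟙 (ofSpMap m.a)⟩ : Ch.Hom c (Ch.top F))
  refine ⟨c, asIso j, ?_⟩
  rw [Ch.top_unique c.toTop t]
  refine Ch.hom_ext (Category.id_comp _) fun o => ?_
  change (m.α.toNatTrans.app o ≫ x.map (𝟙 _)) ≫ x.map (Ch.vert _ o) = m.α.toNatTrans.app o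
  have h1 : Ch.vert (Category.id_comp m.a) o = 𝟙 _ := Stk.EltObj.hom_ext rfl
  erw [h1, x.toFunctor.map_id, Category.comp_id, Category.comp_id]

/-- an `IsBC` square gives a product -/
theorem IsBC.isPr (h𝒳 : FibCat.IsFibGrpd 𝒳.p) {F : AlgSp.Sp S} {x : ofSp F ⥤ᵇ 𝒳} {c : Ch (ofSp F)} {t : Ch 𝒳}
    {h : (Ch.push x).obj c ⟶ t} (hh : IsBC x h) :
    IsPr h (show (Ch.push x).obj c ⟶ (⟨F, x⟩ : Ch 𝒳) from (Ch.push x).map c.toTop) := by
  intro e m₁ m₂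
  obtain ⟨c', j, hj⟩ := Ch.exists_cmp h𝒳 x m₂
  obtain ⟨l, hl, hl'⟩ := hh c' (j.inv ≫ m₁)
  refine ⟨j.hom ≫ (Ch.push x).map l, ⟨?_, ?_⟩, fun L hL => ?_⟩
  · rw [Category.assoc, hl, Iso.hom_inv_id_assoc]
  · have h1 : l ≫ c.toTop = c'.toTop := Ch.top_unique _ _
    have h2 : (Ch.push x).map l ≫ (Ch.push x).map c.toTop = (Ch.push x).map c'.toTop := by
      rw [← Functor.map_comp, h1]
    change (j.hom ≫ (Ch.push x).map l) ≫ (Ch.push x).map c.toTop = m₂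
    rw [Category.assoc, h2, hj]
  · obtain ⟨hL1, hL2⟩ := hL
    change L ≫ (Ch.push x).map c.toTop = m₂ at hL2
    have h3 : (j.inv ≫ L) ≫ (Ch.push x).map c.toTop = (Ch.push x).map c'.toTop := by
      rw [Category.assoc, hL2, ← hj, Iso.inv_hom_id_assoc]
    obtain ⟨l', hl1, hl2⟩ := Ch.exists_lift (K735.Rep.isFibGrpd_ofSp F) c.toTop c'.toTop (j.inv ≫ L).a
      (congrArg Ch.Hom.a h3)
    have h4 : (Ch.push x).map l' = j.inv ≫ L := by
      refine Ch.lift_unique h𝒳 ((Ch.push x).map c.toTop) hl1 ?_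
      rw [h3, ← Functor.map_comp, hl2]
    have h5 : l' = l := hl' l' (by
      change (Ch.push x).map l' ≫ h = _
      rw [h4, Category.assoc, hL1])
    rw [← h5, h4, Iso.hom_inv_id_assoc]

/-- a product gives an `IsBC` square -/
theorem IsPr.isBC (h𝒳 : FibCat.IsFibGrpd 𝒳.p) {F : AlgSp.Sp S} {x : ofSp F ⥤ᵇ 𝒳} {c : Ch (ofSp F)} {t : Ch 𝒳}
    {h : (Ch.push x).obj c ⟶ t}
    (hh : IsPr h (show (Ch.push x).obj c ⟶ (⟨F, x⟩ : Ch 𝒳) from (Ch.push x).map c.toTop)) : IsBC x h := by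
  intro c' k
  obtain ⟨L, ⟨hL1, hL2⟩, hL3⟩ := hh _ k (show (Ch.push x).obj c' ⟶ (⟨F, x⟩ : Ch 𝒳) from (Ch.push x).map c'.toTop)
  change L ≫ (Ch.push x).map c.toTop = (Ch.push x).map c'.toTop at hL2
  obtain ⟨l, hl1, hl2⟩ := Ch.exists_lift (K735.Rep.isFibGrpd_ofSp F) c.toTop c'.toTop L.a
    (congrArg Ch.Hom.a hL2)
  have h4 : (Ch.push x).map l = L := by
    refine Ch.lift_unique h𝒳 ((Ch.push x).map c.toTop) hl1 ?_
    rw [hL2, ← Functor.map_comp, hl2]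
  refine ⟨l, by change (Ch.push x).map l ≫ h = k; rw [h4, hL1], fun l' hl' => ?_⟩
  change (Ch.push x).map l' ≫ h = k at hl'
  have h6 : l' ≫ c.toTop = c'.toTop := Ch.top_unique _ _
  have h5 : (Ch.push x).map l' = L := hL3 _ ⟨hl', by
    change (Ch.push x).map l' ≫ (Ch.push x).map c.toTop = (Ch.push x).map c'.toTop
    rw [← Functor.map_comp, h6]⟩
  refine Ch.lift_unique (K735.Rep.isFibGrpd_ofSp F) c.toTop ?_ (h6.trans hl2.symm)
  rw [hl1, ← h5]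
  rfl

/-- representability of a sheaf over `𝒳` through products in `Ch 𝒳` -/
theorem repByAlgSpWith_iff_rp (h𝒳 : FibCat.IsFibGrpd 𝒳.p) {P : MorphismProperty (AlgSp.Sp S)} [P.RespectsIso]
    {F : AlgSp.Sp S} (x : ofSp F ⥤ᵇ 𝒳) : RepByAlgSpWith P x ↔ Rp (Ch.forget 𝒳) P ⟨F, x⟩ := by
  constructor
  · rintro hx t ⟨U, ⟨j⟩⟩
    obtain ⟨c, h, hc, hh, hP⟩ := exists_isBC (K735.Rep.isFibGrpd_ofSp F) h𝒳 hx (t.res j.hom).x
    have hj : IsIso (t.resHom j.hom).a := inferInstanceAs (IsIso j.hom)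
    have hj' : IsIso (t.resHom j.hom) := Ch.isIso_of_isIso_a h𝒳 _
    refine ⟨(Ch.push x).obj c, h ≫ t.resHom j.hom,
      (show (Ch.push x).obj c ⟶ (⟨F, x⟩ : Ch 𝒳) from (Ch.push x).map c.toTop), ?_, hc, ?_⟩
    · exact (hh.isPr h𝒳).of_iso (Iso.refl _) (asIso (t.resHom j.hom)) (Iso.refl _) (by simp) (by simp)
    · change P (h.a ≫ j.hom)
      exact (MorphismProperty.cancel_right_of_respectsIso P _ _).2 hP
  · intro hx
    refine repByAlgSpWith_of_isBC (K735.Rep.isFibGrpd_ofSp F) h𝒳 fun U y => ?_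
    obtain ⟨e, l₁, l₂, h1, h2, h3⟩ := hx ⟨(AlgSp.yon S).obj U, y⟩ (isSch_yon U)
    obtain ⟨c, j, hj⟩ := Ch.exists_cmp h𝒳 x l₂
    refine ⟨c, j.inv ≫ l₁, h2.of_iso ((Ch.forget 𝒳).mapIso j), ?_, ?_⟩
    · refine IsPr.isBC h𝒳 (h1.of_iso j (Iso.refl _) (Iso.refl _) (by simp) ?_)
      change j.hom ≫ (Ch.push x).map c.toTop = l₂ ≫ 𝟙 _
      rw [hj, Category.comp_id]
    · change P (((Ch.forget 𝒳).mapIso j).inv ≫ l₁.a)
      exact (MorphismProperty.cancel_left_of_respectsIso P _ _).2 h3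

end

end K741
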