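import Groth.Agent.AlgSt.K741.ChFib
import Mathlib.CategoryTheory.Comma.StructuredArrow.Basic

/-!
# Sheaves over a 2-fibre product `𝒳 ×_𝒴 G` as a comma category
-/

set_option autoImplicit false
set_option backward.isDefEq.respectTransparency false
set_option backward.isDefEq.respectTransparency.types false

universe w₄ v₄ w'' v'' w' v' w v u

open CategoryTheory CategoryTheory.Limits AlgebraicGeometry Opposite
open AlgSt

namespace K741

variable {S : Scheme.{u}}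

section

variable {𝒳 : BasedCategory.{v, w} (Over S)} {𝒴 : BasedCategory.{v', w'} (Over S)}
  {𝒵 : BasedCategory.{v'', w''} (Over S)} {𝒲 : BasedCategory.{v₄, w₄} (Over S)}

/-- 2-cells into a 2-fibre product -/
def cellFp {f : 𝒳 ⥤ᵇ 𝒴} {g : 𝒵 ⥤ᵇ 𝒴} {G H : 𝒲 ⥤ᵇ FibCat.fp f g}
    (α₁ : BasedFunctor.comp G (FibCat.fpFst f g) ⟶ BasedFunctor.comp H (FibCat.fpFst f g))
    (α₂ : BasedFunctor.comp G (FibCat.fpSnd f g) ⟶ BasedFunctor.comp H (FibCat.fpSnd f g))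
    (h : ∀ o, f.map (α₁.toNatTrans.app o) ≫ (H.obj o).obj.iso.hom =
      (G.obj o).obj.iso.hom ≫ g.map (α₂.toNatTrans.app o)) : G ⟶ H where
  toNatTrans :=
    { app := fun o => K735.Fp.homFp (α₁.toNatTrans.app o) (α₂.toNatTrans.app o) (h o)
      naturality := fun o o' φ => K735.Fp.fp_hom_ext (α₁.toNatTrans.naturality φ) (α₂.toNatTrans.naturality φ) }
  isHomLift' := fun o => by
    have h1 : 𝒳.p.IsHomLift (𝟙 (𝒲.p.obj o)) (α₁.toNatTrans.app o) := α₁.isHomLift' o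
    have h2 : 𝒳.p.IsHomLift (𝟙 (𝒲.p.obj o)) ((FibCat.fpFst f g).map
      (K735.Fp.homFp (α₁.toNatTrans.app o) (α₂.toNatTrans.app o) (h o) : G.obj o ⟶ H.obj o)) := h1
    exact BasedFunctor.isHomLift_map (FibCat.fpFst f g) (𝟙 (𝒲.p.obj o)) _

theorem cellFp_fst {f : 𝒳 ⥤ᵇ 𝒴} {g : 𝒵 ⥤ᵇ 𝒴} {G H : 𝒲 ⥤ᵇ FibCat.fp f g}
    (α₁ : BasedFunctor.comp G (FibCat.fpFst f g) ⟶ BasedFunctor.comp H (FibCat.fpFst f g))
    (α₂ : BasedFunctor.comp G (FibCat.fpSnd f g) ⟶ BasedFunctor.comp H (FibCat.fpSnd f g))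
    (h : ∀ o, f.map (α₁.toNatTrans.app o) ≫ (H.obj o).obj.iso.hom =
      (G.obj o).obj.iso.hom ≫ g.map (α₂.toNatTrans.app o)) (o : 𝒲.obj) :
    ((cellFp α₁ α₂ h).toNatTrans.app o).hom.fst = α₁.toNatTrans.app o := rfl

theorem cellFp_snd {f : 𝒳 ⥤ᵇ 𝒴} {g : 𝒵 ⥤ᵇ 𝒴} {G H : 𝒲 ⥤ᵇ FibCat.fp f g}
    (α₁ : BasedFunctor.comp G (FibCat.fpFst f g) ⟶ BasedFunctor.comp H (FibCat.fpFst f g))
    (α₂ : BasedFunctor.comp G (FibCat.fpSnd f g) ⟶ BasedFunctor.comp H (FibCat.fpSnd f g))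
    (h : ∀ o, f.map (α₁.toNatTrans.app o) ≫ (H.obj o).obj.iso.hom =
      (G.obj o).obj.iso.hom ≫ g.map (α₂.toNatTrans.app o)) (o : 𝒲.obj) :
    ((cellFp α₁ α₂ h).toNatTrans.app o).hom.snd = α₂.toNatTrans.app o := rfl

/-- the 2-cell of an equality of maps of sheaves -/
def vertCell {F G : AlgSp.Sp S} {a b : F ⟶ G} (h : a = b) : ofSpMap a ⟶ ofSpMap b := eqToHom (congrArg _ h)

theorem vertCell_app {F G : AlgSp.Sp S} {a b : F ⟶ G} (h : a = b) (o : (ofSp F).obj) :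
    (vertCell h).toNatTrans.app o = Ch.vert h o := by
  subst h
  rfl

theorem Ch.vert_comp {F G : AlgSp.Sp S} {a b c : F ⟶ G} (h : a = b) (h' : b = c) (o : (ofSp F).obj) :
    Ch.vert h o ≫ Ch.vert h' o = Ch.vert (h.trans h') o := Stk.EltObj.hom_ext (Category.comp_id _)

theorem Ch.vert_symm {F G : AlgSp.Sp S} {a b : F ⟶ G} (h : a = b) (o : (ofSp F).obj) :
    Ch.vert h o ≫ Ch.vert h.symm o = 𝟙 _ := Stk.EltObj.hom_ext (Category.comp_id _)

theorem elt_hom_base_unique {F : AlgSp.Sp S} {a b : (ofSp F).obj} {φ ψ : a ⟶ b}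
    (h1 : K735.Fib.Vert (ofSp F).p φ) (h2 : K735.Fib.Vert (ofSp F).p ψ) : φ = ψ :=
  K735.Rep.ofSp_hom_ext (h1.map_eq.trans h2.map_eq.symm)

end

section Comma

variable {𝒳 : BasedCategory.{v, w} (Over S)} {𝒴 : BasedCategory.{v', w'} (Over S)}

/-- the comma category -/
abbrev Cm (f : 𝒳 ⥤ᵇ 𝒴) (d : Ch 𝒴) := CostructuredArrow (Ch.push f) d

/-- the underlying sheaf -/
abbrev Cm.Φ (f : 𝒳 ⥤ᵇ 𝒴) (d : Ch 𝒴) : Cm f d ⥤ AlgSp.Sp S := CostructuredArrow.proj _ _ ⋙ Ch.forget 𝒳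

theorem Cm.spFib (h𝒳 : FibCat.IsFibGrpd 𝒳.p) (f : 𝒳 ⥤ᵇ 𝒴) (d : Ch 𝒴) : SpFib (Cm.Φ f d) where
  lift {A B C} m n v hv := by
    obtain ⟨l, hl, hl'⟩ := Ch.exists_lift h𝒳 m.left n.left v hv
    refine ⟨CostructuredArrow.homMk l ?_, hl, ?_⟩
    · rw [← CostructuredArrow.w m, ← Category.assoc, ← Functor.map_comp, hl']
      exact CostructuredArrow.w n
    · apply CostructuredArrow.hom_ext
      exact hl'
  uniq {A B C} m l l' h h' := by
    apply CostructuredArrow.hom_ext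
    exact Ch.lift_unique h𝒳 m.left h (congrArg CommaMorphism.left h')
  res A _ v := ⟨CostructuredArrow.mk ((Ch.push f).map (A.left.resHom v) ≫ A.hom), Iso.refl _,
    CostructuredArrow.homMk (A.left.resHom v) rfl, Category.id_comp _⟩

variable (h𝒴 : FibCat.IsFibGrpd 𝒴.p) (f : 𝒳 ⥤ᵇ 𝒴) (d : Ch 𝒴)

/-- the functor into the 2-fibre product -/
noncomputable def Cm.lift (A : Cm f d) : ofSp A.left.F ⥤ᵇ FibCat.fp f d.x :=
  have := isIso_two_cell h𝒴 A.hom.α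
  FibCat.fpLift A.left.x (ofSpMap A.hom.a) (asIso A.hom.α)

theorem Cm.lift_iso (A : Cm f d) (o : (ofSp A.left.F).obj) :
    ((Cm.lift h𝒴 f d A).obj o).obj.iso.hom = A.hom.α.toNatTrans.app o := rfl

theorem Cm.w_a {A B : Cm f d} (m : A ⟶ B) : A.hom.a = m.left.a ≫ B.hom.a :=
  (congrArg Ch.Hom.a (CostructuredArrow.w m)).symm

/-- the comparison functor on morphisms -/
noncomputable def Cm.liftMap {A B : Cm f d} (m : A ⟶ B) :
    Cm.lift h𝒴 f d A ⟶ BasedFunctor.comp (ofSpMap m.left.a) (Cm.lift h𝒴 f d B) :=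
  cellFp m.left.α (vertCell (Cm.w_a f d m)) (fun o => by
    have h1 := Ch.Hom.congr (CostructuredArrow.w m) o
    change (f.map (m.left.α.toNatTrans.app o) ≫ B.hom.α.toNatTrans.app ((ofSpMap m.left.a).obj o)) ≫
      d.x.map (Ch.vert (Cm.w_a f d m).symm o) = A.hom.α.toNatTrans.app o at h1
    change f.map (m.left.α.toNatTrans.app o) ≫ B.hom.α.toNatTrans.app ((ofSpMap m.left.a).obj o) =
      A.hom.α.toNatTrans.app o ≫ d.x.map ((vertCell (Cm.w_a f d m)).toNatTrans.app o)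
    rw [vertCell_app, ← h1, Category.assoc]
    erw [← d.x.toFunctor.map_comp]
    rw [Ch.vert_symm]
    erw [d.x.toFunctor.map_id, Category.comp_id])

/-- the comparison functor from the comma category -/
noncomputable def Cm.K : Cm f d ⥤ Ch (FibCat.fp f d.x) where
  obj A := ⟨A.left.F, Cm.lift h𝒴 f d A⟩
  map m := (⟨m.left.a, Cm.liftMap h𝒴 f d m⟩ : Ch.Hom (⟨_, Cm.lift h𝒴 f d _⟩ : Ch (FibCat.fp f d.x)) ⟨_, Cm.lift h𝒴 f d _⟩)
  map_id A := by
    refine Ch.hom_ext rfl fun o => ?_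
    rw [Ch.vert_rfl]
    apply K735.Fp.fp_hom_ext
    · change 𝟙 _ ≫ A.left.x.map (𝟙 _) = 𝟙 _
      erw [A.left.x.toFunctor.map_id, Category.comp_id]
    · change (vertCell (Cm.w_a f d (𝟙 A))).toNatTrans.app o ≫ (ofSpMap A.hom.a).map (𝟙 _) = 𝟙 _
      rw [vertCell_app]
      exact Stk.EltObj.hom_ext (Category.comp_id _)
  map_comp {A B C} m n := by
    refine Ch.hom_ext rfl fun o => ?_
    rw [Ch.vert_rfl]
    apply K735.Fp.fp_hom_ext
    · change (m ≫ n).left.α.toNatTrans.app o ≫ C.left.x.map (𝟙 ((ofSpMap (m ≫ n).left.a).obj o)) = m.left.α.toNatTrans.app o ≫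
        n.left.α.toNatTrans.app ((ofSpMap m.left.a).obj o)
      erw [C.left.x.toFunctor.map_id, Category.comp_id]
      rfl
    · apply Stk.EltObj.hom_ext
      change ((vertCell (Cm.w_a f d (m ≫ n))).toNatTrans.app o).hom ≫ 𝟙 _ =
        ((vertCell (Cm.w_a f d m)).toNatTrans.app o).hom ≫
        ((vertCell (Cm.w_a f d n)).toNatTrans.app ((ofSpMap m.left.a).obj o)).hom
      rw [vertCell_app, vertCell_app, vertCell_app]
      rfl

theorem Cm.K_faithful : (Cm.K h𝒴 f d).Faithful where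
  map_injective {A B} m n h := by
    apply CostructuredArrow.hom_ext
    have ha0 := congrArg (fun q => (Ch.forget (FibCat.fp f d.x)).map q) h
    have ha : m.left.a = n.left.a := ha0
    refine Ch.hom_ext ha fun o => ?_
    have h1 := Ch.Hom.congr h o
    have h2 := congrArg (fun q => (FibCat.fpFst f d.x).map q) h1
    exact h2

theorem Cm.K_full : (Cm.K h𝒴 f d).Full where
  map_surjective {A B} κ := by
    let l : A.left ⟶ B.left := (⟨κ.a, BasedCategory.whiskerRight κ.α (FibCat.fpFst f d.x)⟩ : Ch.Hom A.left B.left)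
    have ha : l.a ≫ B.hom.a = A.hom.a := by
      symm
      exact spMap_eq_of_hom (a := A.hom.a) (b := κ.a ≫ B.hom.a) (BasedCategory.whiskerRight κ.α (FibCat.fpSnd f d.x))
    have hw : (Ch.push f).map l ≫ B.hom = A.hom := by
      refine Ch.hom_ext ha fun o => ?_
      have h1 : f.map (κ.α.toNatTrans.app o).hom.fst ≫ B.hom.α.toNatTrans.app ((ofSpMap κ.a).obj o) =
        A.hom.α.toNatTrans.app o ≫ d.x.map (κ.α.toNatTrans.app o).hom.snd := (κ.α.toNatTrans.app o).hom.w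
      change (f.map (κ.α.toNatTrans.app o).hom.fst ≫ B.hom.α.toNatTrans.app ((ofSpMap κ.a).obj o)) ≫
        d.x.map (Ch.vert ha o) = A.hom.α.toNatTrans.app o
      rw [h1, Category.assoc]
      erw [← d.x.toFunctor.map_comp]
      have h2 : (κ.α.toNatTrans.app o).hom.snd ≫ Ch.vert ha o = 𝟙 _ := by
        refine elt_hom_base_unique (K735.Fib.Vert.comp ?_ ?_) (K735.Fib.vert_id _)
        · exact (K735.Fp.vert_fp_iff_snd _).1 (K735.Fib.vert_app κ.α o)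
        · exact K735.Fib.vert_of_map_eq rfl rfl
      erw [h2, d.x.toFunctor.map_id, Category.comp_id]
    refine ⟨CostructuredArrow.homMk l hw, ?_⟩
    refine Ch.hom_ext rfl fun o => ?_
    rw [Ch.vert_rfl]
    erw [(Cm.lift h𝒴 f d B).toFunctor.map_id, Category.comp_id]
    apply K735.Fp.fp_hom_ext
    · rfl
    · refine elt_hom_base_unique ?_ ?_
      · exact (K735.Fp.vert_fp_iff_snd _).1 (K735.Fib.vert_app (Cm.liftMap h𝒴 f d _) o)
      · exact (K735.Fp.vert_fp_iff_snd _).1 (K735.Fib.vert_app κ.α o)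

theorem Cm.K_essSurj (h𝒳 : FibCat.IsFibGrpd 𝒳.p) : (Cm.K h𝒴 f d).EssSurj where
  mem_essImage C := by
    obtain ⟨F, G⟩ := C
    let t := spMapIso (BasedFunctor.comp G (FibCat.fpSnd f d.x))
    let k : (Ch.push f).obj (⟨F, BasedFunctor.comp G (FibCat.fpFst f d.x)⟩ : Ch 𝒳) ⟶ d :=
      (⟨spMap (BasedFunctor.comp G (FibCat.fpSnd f d.x)), BasedCategory.whiskerLeft G (FibCat.fpIso f d.x).hom ≫
        BasedCategory.whiskerRight t.hom d.x⟩ : Ch.Hom _ _)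
    let A : Cm f d := CostructuredArrow.mk k
    have hcell : ∀ o : (ofSp F).obj, f.map (𝟙 _) ≫ (G.obj o).obj.iso.hom =
      ((Cm.lift h𝒴 f d A).obj o).obj.iso.hom ≫ d.x.map (t.inv.toNatTrans.app o) := by
      intro o
      erw [f.toFunctor.map_id, Category.id_comp]
      change (G.obj o).obj.iso.hom = ((G.obj o).obj.iso.hom ≫ d.x.map (t.hom.toNatTrans.app o)) ≫ d.x.map (t.inv.toNatTrans.app o)
      rw [Category.assoc]
      erw [← d.x.toFunctor.map_comp]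
      have h1 : t.hom.toNatTrans.app o ≫ t.inv.toNatTrans.app o = 𝟙 _ :=
        congrArg (fun q => q.toNatTrans.app o) t.hom_inv_id
      erw [h1, d.x.toFunctor.map_id, Category.comp_id]
    let κ : (Cm.K h𝒴 f d).obj A ⟶ ⟨F, G⟩ := (⟨𝟙 F, cellFp (𝟙 _) t.inv hcell⟩ :
      Ch.Hom (⟨F, Cm.lift h𝒴 f d A⟩ : Ch (FibCat.fp f d.x)) ⟨F, G⟩)
    have hκ : IsIso κ.a := inferInstanceAs (IsIso (𝟙 F))
    have hκ' : IsIso κ := Ch.isIso_of_isIso_a (K735.Fp.isFibGrpd_fp h𝒳 (K735.Rep.isFibGrpd_ofSp d.F) h𝒴 f d.x) κ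
    exact ⟨A, ⟨asIso κ⟩⟩

theorem Cm.rp_iff (h𝒳 : FibCat.IsFibGrpd 𝒳.p) {P : MorphismProperty (AlgSp.Sp S)} [P.RespectsIso] (A : Cm f d) :
    RepByAlgSpWith P (Cm.lift h𝒴 f d A) ↔ Rp (Cm.Φ f d) P A := by
  have h1 := Cm.K_faithful h𝒴 f d
  have h2 := Cm.K_full h𝒴 f d
  have h3 := Cm.K_essSurj h𝒴 f d h𝒳
  rw [repByAlgSpWith_iff_rp (K735.Fp.isFibGrpd_fp h𝒳 (K735.Rep.isFibGrpd_ofSp d.F) h𝒴 f d.x)]
  exact ⟨fun h => Rp.of_map (Cm.K h𝒴 f d) (Iso.refl _) h, fun h => Rp.map (Cm.K h𝒴 f d) (Iso.refl _) h⟩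

end Comma

end K741
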