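import Groth.Agent.AlgSt.K741.Paste

/-!
# Composition in the categories `Cm f d`
-/

set_option autoImplicit false
set_option backward.isDefEq.respectTransparency false
set_option backward.isDefEq.respectTransparency.types false

universe w₄ v₄ w'' v'' w' v' w v u

open CategoryTheory CategoryTheory.Limits AlgebraicGeometry Opposite
open AlgSt

namespace K741

variable {S : Scheme.{u}} {𝒳 : BasedCategory.{v, w} (Over S)} {𝒴 : BasedCategory.{v', w'} (Over S)}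
  {𝒵 : BasedCategory.{v'', w''} (Over S)}

theorem Ch.push_comp_eq (f : 𝒳 ⥤ᵇ 𝒴) (g : 𝒴 ⥤ᵇ 𝒵) : Ch.push (BasedFunctor.comp f g) = Ch.push f ⋙ Ch.push g := rfl

/-- the composite of objects of comma categories -/
def Cm.cmp {f : 𝒳 ⥤ᵇ 𝒴} {g : 𝒴 ⥤ᵇ 𝒵} {e : Ch 𝒵} (B : Cm g e) (A : Cm f B.left) : Cm (BasedFunctor.comp f g) e :=
  CostructuredArrow.mk (S := Ch.push (BasedFunctor.comp f g)) (Y := A.left) ((Ch.push g).map A.hom ≫ B.hom)

theorem Cm.rpA_comp (h𝒳 : FibCat.IsFibGrpd 𝒳.p) (h𝒴 : FibCat.IsFibGrpd 𝒴.p) {f : 𝒳 ⥤ᵇ 𝒴} {g : 𝒴 ⥤ᵇ 𝒵} {e : Ch 𝒵}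
    {P Q R : MorphismProperty (AlgSp.Sp S)} {B : Cm g e} {A : Cm f B.left} (hA : RpA (Cm.Φ f B.left) P A)
    (hB : RpA (Cm.Φ g e) Q B)
    (hR : ∀ ⦃E F G : AlgSp.Sp S⦄ (a : E ⟶ F) (b : F ⟶ G), AlgSp.IsAlgSpace E → AlgSp.IsAlgSpace F →
      AlgSp.IsAlgSpace G → P a → Q b → R (a ≫ b)) : RpA (Cm.Φ (BasedFunctor.comp f g) e) R (Cm.cmp B A) := by
  intro t ht
  let t₁ : Cm g e := CostructuredArrow.mk (S := Ch.push g) (Y := (Ch.push f).obj t.left) t.hom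
  obtain ⟨E, m₁', m₂', hE, hEa, hQ⟩ := hB t₁ ht
  have w₁ : (Ch.push g).map m₁'.left ≫ t.hom = E.hom := CostructuredArrow.w m₁'
  have w₂ : (Ch.push g).map m₂'.left ≫ B.hom = E.hom := CostructuredArrow.w m₂'
  let m₁ : E.left ⟶ (Ch.push f).obj t.left := m₁'.left
  let m₂ : E.left ⟶ B.left := m₂'.left
  let c₁ : Ch 𝒳 := t.left.res m₁.a
  obtain ⟨s, hs, hs'⟩ := Ch.exists_lift h𝒴 m₁ ((Ch.push f).map (t.left.resHom m₁.a)) (𝟙 _) (Category.id_comp _)
  let A₂ : Cm f B.left := CostructuredArrow.mk (S := Ch.push f) (Y := c₁) (s ≫ m₂)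
  obtain ⟨e₂, l₁', l₂', he₂, he₂a, hP⟩ := hA A₂ hEa
  have v₁ : (Ch.push f).map l₁'.left ≫ s ≫ m₂ = e₂.hom := CostructuredArrow.w l₁'
  have v₂ : (Ch.push f).map l₂'.left ≫ A.hom = e₂.hom := CostructuredArrow.w l₂'
  let l₁ : e₂.left ⟶ c₁ := l₁'.left
  let l₂ : e₂.left ⟶ A.left := l₂'.left
  let e₃ : Cm (BasedFunctor.comp f g) e := CostructuredArrow.mk (S := Ch.push (BasedFunctor.comp f g)) (Y := e₂.left)
    ((Ch.push g).map e₂.hom ≫ B.hom)
  have ht3 : (Ch.push g).map ((Ch.push f).map (l₁ ≫ t.left.resHom m₁.a)) ≫ t.hom = (Ch.push g).map e₂.hom ≫ B.hom := by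
    rw [Functor.map_comp, ← hs', ← Category.assoc, Functor.map_comp, Category.assoc, w₁, ← w₂, ← v₁]
    simp only [Functor.map_comp, Category.assoc]
    rfl
  have hc3 : (Ch.push g).map ((Ch.push f).map l₂) ≫ (Ch.push g).map A.hom ≫ B.hom =
      (Ch.push g).map e₂.hom ≫ B.hom := by
    rw [← v₂, Functor.map_comp, Category.assoc]
  let p₁ : e₃ ⟶ t := CostructuredArrow.homMk (l₁ ≫ t.left.resHom m₁.a) ht3
  let p₂ : e₃ ⟶ Cm.cmp B A := CostructuredArrow.homMk l₂ hc3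
  refine ⟨e₃, p₁, p₂, fun x n₁ n₂ => ?_, he₂a, hR _ _ he₂a hEa ht hP hQ⟩
  have y₁ : (Ch.push g).map ((Ch.push f).map n₁.left) ≫ t.hom = x.hom := CostructuredArrow.w n₁
  have y₂ : (Ch.push g).map ((Ch.push f).map n₂.left) ≫ (Ch.push g).map A.hom ≫ B.hom = x.hom := CostructuredArrow.w n₂
  let x₁ : Cm g e := CostructuredArrow.mk (S := Ch.push g) (Y := (Ch.push f).obj x.left) x.hom
  let k₁ : x₁ ⟶ t₁ := CostructuredArrow.homMk ((Ch.push f).map n₁.left) y₁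
  let k₂ : x₁ ⟶ B := CostructuredArrow.homMk ((Ch.push f).map n₂.left ≫ A.hom) (by
    change (Ch.push g).map ((Ch.push f).map n₂.left ≫ A.hom) ≫ B.hom = x.hom
    rw [Functor.map_comp, Category.assoc, y₂])
  obtain ⟨u', ⟨hu1', hu2'⟩, hu3'⟩ := hE x₁ k₁ k₂
  let u : (Ch.push f).obj x.left ⟶ E.left := u'.left
  have hu1 : u ≫ m₁ = (Ch.push f).map n₁.left := congrArg (fun m : x₁ ⟶ t₁ => m.left) hu1'
  have hu2 : u ≫ m₂ = (Ch.push f).map n₂.left ≫ A.hom := congrArg (fun m : x₁ ⟶ B => m.left) hu2'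
  have hu3 : ∀ u₂ : (Ch.push f).obj x.left ⟶ E.left, u₂ ≫ m₁ = (Ch.push f).map n₁.left →
      u₂ ≫ m₂ = (Ch.push f).map n₂.left ≫ A.hom → u₂ = u := fun u₂ h1 h2 => by
    let u₂' : x₁ ⟶ E := CostructuredArrow.homMk u₂ (by
      change (Ch.push g).map u₂ ≫ E.hom = x.hom
      rw [← w₁, ← y₁, ← h1, Functor.map_comp, Category.assoc])
    have h3 : u₂' = u' := hu3' u₂' ⟨by
      apply CostructuredArrow.hom_ext
      exact h1, by
      apply CostructuredArrow.hom_ext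
      exact h2⟩
    exact congrArg (fun m : x₁ ⟶ E => m.left) h3
  obtain ⟨v, hv, hv'⟩ := Ch.exists_lift h𝒳 (t.left.resHom m₁.a) n₁.left u.a (congrArg Ch.Hom.a hu1)
  have hvs : (Ch.push f).map v ≫ s = u := by
    refine Ch.lift_unique h𝒴 m₁ ?_ ?_
    · change v.a ≫ s.a = u.a
      rw [hs, hv]
      exact Category.comp_id _
    · rw [Category.assoc, hs', ← Functor.map_comp, hv', hu1]
  let x₂ : Cm f B.left := CostructuredArrow.mk (S := Ch.push f) (Y := x.left) (u ≫ m₂)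
  let j₁ : x₂ ⟶ A₂ := CostructuredArrow.homMk v (by
    change (Ch.push f).map v ≫ s ≫ m₂ = u ≫ m₂
    rw [← Category.assoc, hvs])
  let j₂ : x₂ ⟶ A := CostructuredArrow.homMk n₂.left (by
    change (Ch.push f).map n₂.left ≫ A.hom = u ≫ m₂
    rw [hu2])
  obtain ⟨q', ⟨hq1', hq2'⟩, hq3'⟩ := he₂ x₂ j₁ j₂
  let q : x.left ⟶ e₂.left := q'.left
  have hq1 : q ≫ l₁ = v := congrArg (fun m : x₂ ⟶ A₂ => m.left) hq1'
  have hq2 : q ≫ l₂ = n₂.left := congrArg (fun m : x₂ ⟶ A => m.left) hq2'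
  have hq0 : (Ch.push f).map q ≫ e₂.hom = u ≫ m₂ := CostructuredArrow.w q'
  refine ⟨CostructuredArrow.homMk q ?_, ⟨?_, ?_⟩, fun r' hr' => ?_⟩
  · change (Ch.push g).map ((Ch.push f).map q) ≫ (Ch.push g).map e₂.hom ≫ B.hom = x.hom
    rw [← Category.assoc, ← Functor.map_comp, hq0, hu2, ← y₂, Functor.map_comp, Category.assoc]
  · apply CostructuredArrow.hom_ext
    change q ≫ l₁ ≫ t.left.resHom m₁.a = n₁.left
    rw [← Category.assoc, hq1, hv']
  · apply CostructuredArrow.hom_ext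
    exact hq2
  · obtain ⟨h1, h2⟩ := hr'
    let r : x.left ⟶ e₂.left := r'.left
    have h1' : r ≫ l₁ ≫ t.left.resHom m₁.a = n₁.left := congrArg (fun m : x ⟶ t => m.left) h1
    have h2' : r ≫ l₂ = n₂.left := congrArg (fun m : x ⟶ Cm.cmp B A => m.left) h2
    have h3 : (Ch.push f).map (r ≫ l₁) ≫ s = u := by
      apply hu3
      · rw [Category.assoc, hs', ← Functor.map_comp, Category.assoc, h1']
      · rw [Category.assoc, Functor.map_comp, Category.assoc, v₁, ← h2', Functor.map_comp, Category.assoc, v₂]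
    have h4 : r ≫ l₁ = v := by
      refine Ch.lift_unique h𝒳 (t.left.resHom m₁.a) ?_ ?_
      · have h5 := congrArg Ch.Hom.a h3
        change (r ≫ l₁).a ≫ s.a = u.a at h5
        rw [hs] at h5
        rw [hv, ← h5]
        exact (Category.comp_id _).symm
      · rw [Category.assoc, h1', hv']
    let r₂ : x₂ ⟶ e₂ := CostructuredArrow.homMk r (by
      change (Ch.push f).map r ≫ e₂.hom = u ≫ m₂
      rw [← v₂, ← Category.assoc, ← Functor.map_comp, h2', hu2])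
    have h6 : r₂ = q' := hq3' r₂ ⟨by
      apply CostructuredArrow.hom_ext
      exact h4, by
      apply CostructuredArrow.hom_ext
      exact h2'⟩
    apply CostructuredArrow.hom_ext
    exact congrArg (fun m : x₂ ⟶ e₂ => m.left) h6

end K741
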