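import Groth.Agent.AlgSt.K741.CompCm
import Groth.Agent.AlgSt.K735.PtsSp
import Groth.Agent.AlgSt.K735.Top
import Groth.Agent.Gerb.K894.SmST

/-!
# Base change and fppf descent of `LocQ`
-/

set_option autoImplicit false
set_option backward.isDefEq.respectTransparency false
set_option backward.isDefEq.respectTransparency.types false

universe w₄ v₄ w'' v'' w' v' w v u

open CategoryTheory CategoryTheory.Limits AlgebraicGeometry Opposite
open AlgSt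

namespace K741

variable {S : Scheme.{u}}

section Surj

variable {𝒳 : BasedCategory.{v, w} (Over S)} {𝒴 : BasedCategory.{v', w'} (Over S)}
  {𝒵 : BasedCategory.{v'', w''} (Over S)}

theorem surjective_fpSnd (h𝒳 : FibCat.IsFibGrpd 𝒳.p) (h𝒵 : FibCat.IsFibGrpd 𝒵.p) (h𝒴 : FibCat.IsFibGrpd 𝒴.p)
    (g : 𝒵 ⥤ᵇ 𝒴) (f : 𝒳 ⥤ᵇ 𝒴) (hg : Function.Surjective (Points.map g)) :
    Function.Surjective (Points.map (FibCat.fpSnd g f)) := by
  intro x
  obtain ⟨z, hz⟩ := hg (Points.map f x)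
  obtain ⟨w, -, h1⟩ := K735.Pts.exists_fp h𝒳 h𝒵 h𝒴 g f z x hz
  exact ⟨w, h1⟩

theorem isSurjectiveMor_yon_iff {U V : Over S} (h : U ⟶ V) :
    AlgSp.IsSurjectiveMor ((AlgSp.yon S).map h) ↔ Function.Surjective (Points.map (overMap h)) := by
  have hU := K735.Pts.map_bijective_of_isEquivOver (K735.Rep.isEquivOver_toOverCat U)
  have hV := K735.Pts.map_bijective_of_isEquivOver (K735.Rep.isEquivOver_toOverCat V)
  have key : Points.map (overMap h) ∘ Points.map (toOverCat U) =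
      Points.map (toOverCat V) ∘ Points.map (ofSpMap ((AlgSp.yon S).map h)) := by
    funext x
    exact (K735.Pts.map_comp (toOverCat U) (overMap h) x).symm.trans
      (K735.Pts.map_comp (ofSpMap ((AlgSp.yon S).map h)) (toOverCat V) x)
  have key2 : K735.PtsSp.ptsEquiv ((AlgSp.yon S).obj V) ∘ Points.map (ofSpMap ((AlgSp.yon S).map h)) =
      AlgSp.Points.map ((AlgSp.yon S).map h) ∘ K735.PtsSp.ptsEquiv ((AlgSp.yon S).obj U) := by
    funext x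
    exact K735.PtsSp.ptsEquiv_map _ x
  have e1 : Function.Surjective (Points.map (overMap h)) ↔
      Function.Surjective (Points.map (ofSpMap ((AlgSp.yon S).map h))) := by
    constructor
    · intro h1
      have h2 : Function.Surjective (Points.map (toOverCat V) ∘ Points.map (ofSpMap ((AlgSp.yon S).map h))) := by
        rw [← key]
        exact h1.comp hU.2
      exact Function.Surjective.of_comp_left h2 hV.1
    · intro h1
      have h2 : Function.Surjective (Points.map (overMap h) ∘ Points.map (toOverCat U)) := by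
        rw [key]
        exact hV.2.comp h1
      exact h2.of_comp
  rw [e1]
  constructor
  · intro h1
    have h2 : Function.Surjective (K735.PtsSp.ptsEquiv ((AlgSp.yon S).obj V) ∘
        Points.map (ofSpMap ((AlgSp.yon S).map h))) := by
      rw [key2]
      exact Function.Surjective.comp h1 (K735.PtsSp.ptsEquiv _).surjective
    exact Function.Surjective.of_comp_left h2 (K735.PtsSp.ptsEquiv _).injective
  · intro h1
    have h2 : Function.Surjective (AlgSp.Points.map ((AlgSp.yon S).map h) ∘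
        K735.PtsSp.ptsEquiv ((AlgSp.yon S).obj U)) := by
      rw [← key2]
      exact (K735.PtsSp.ptsEquiv _).surjective.comp h1
    exact Function.Surjective.of_comp h2

/-- the map of charts of a surjective morphism is surjective -/
theorem isSurjectiveMor_chart (h𝒴 : FibCat.IsFibGrpd 𝒴.p) (h𝒵 : FibCat.IsFibGrpd 𝒵.p) {z : 𝒵 ⥤ᵇ 𝒴}
    (hz : IsSurjective z) {W V : Over S} {w : FibCat.overCat W ⥤ᵇ 𝒵} {y : FibCat.overCat V ⥤ᵇ 𝒴} {g : W ⟶ V}
    (β : BasedFunctor.comp w z ≅ BasedFunctor.comp (overMap g) y)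
    (ht : RepByAlgSpWith AlgSp.IsSurjectiveMor (FibCat.fpLift w (overMap g) β)) :
    AlgSp.IsSurjectiveMor ((AlgSp.yon S).map g) := by
  rw [isSurjectiveMor_yon_iff]
  have h1 := K735.Top.surjective_of_repByAlgSpWith
    (K735.Fp.isFibGrpd_fp h𝒵 (K735.Fp.isFibGrpd_overCat V) h𝒴 z y) (K735.Fp.isFibGrpd_overCat W) ht
  have h2 := surjective_fpSnd (K735.Fp.isFibGrpd_overCat V) h𝒵 h𝒴 z y hz
  have h3 : Points.map (overMap g) = Points.map (FibCat.fpSnd z y) ∘ Points.map (FibCat.fpLift w (overMap g) β) := by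
    funext x
    exact K735.Pts.map_comp (FibCat.fpLift w (overMap g) β) (FibCat.fpSnd z y) x
  rw [h3]
  exact h2.comp h1

end Surj

section BC

variable {𝒳 𝒴 𝒵 : AlgSt.Cat S}

/-- base change of a chart square along a chart square of `z`, on the comma category of `fpFst z f` -/
theorem exists_bc_chart (h𝒳 : FibCat.IsFibGrpd 𝒳.p) (h𝒴 : FibCat.IsFibGrpd 𝒴.p) (h𝒵 : FibCat.IsFibGrpd 𝒵.p)
    {f : 𝒳 ⥤ᵇ 𝒴} {z : 𝒵 ⥤ᵇ 𝒴} {c : Ch 𝒳} {d : Ch 𝒴} {e : Ch 𝒵} (h : (Ch.push f).obj c ⟶ d)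
    (m : (Ch.push z).obj e ⟶ d) {Q : MorphismProperty (AlgSp.Sp S)} [Q.RespectsIso] (hQb : K734.Rep.StableBC Q)
    (hQ : AlgSp.IsLocalOnBase AlgSp.IsFppfCover Q)
    (hk : RpA (Cm.Φ f d) Q (CostructuredArrow.mk h)) {E : AlgSp.Sp S} {q : E ⟶ c.F} {p : E ⟶ e.F}
    (sq : IsPullback q p h.a m.a) :
    ∃ (c' : Ch (FibCat.fp z f)) (h' : (Ch.push (FibCat.fpFst z f)).obj c' ⟶ e) (k : (Ch.push (FibCat.fpSnd z f)).obj c' ⟶ c)
      (hc : c'.F = E), h'.a = eqToHom hc ≫ p ∧ k.a = eqToHom hc ≫ q ∧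
      RpA (Cm.Φ (FibCat.fpFst z f) e) Q (CostructuredArrow.mk h') := by
  obtain ⟨h₁, hp, hw⟩ := Cm.exists_base h𝒴 m (CostructuredArrow.mk h) sq
  have h1 := Cm.rpA_base h𝒳 h𝒴 m hk sq hp hw
  let A' : Cm f ((Ch.push z).obj e) := CostructuredArrow.mk h₁
  refine ⟨pObj h𝒴 f z e A', pHom h𝒴 f z e A', c.resHom q, rfl, ?_, ?_, ?_⟩
  · rw [eqToHom_refl, Category.id_comp]
    exact hp
  · rw [eqToHom_refl, Category.id_comp]
    rfl
  · rw [← Cm.rpA_iff hQb hQ (K735.Fp.isFibGrpd_fp h𝒵 h𝒳 h𝒴 z f) h𝒵, repByAlgSpWith_lift_iff h𝒳 h𝒴 h𝒵,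
      Cm.rpA_iff hQb hQ h𝒳 h𝒴]
    exact h1

/-- the chart square as an object of the comma category, tested on algebraic spaces -/
theorem rpA_sqHom (h𝒳 : FibCat.IsFibGrpd 𝒳.p) (h𝒴 : FibCat.IsFibGrpd 𝒴.p) {Q : MorphismProperty (AlgSp.Sp S)}
    [Q.RespectsIso] (hQb : K734.Rep.StableBC Q) (hQ : AlgSp.IsLocalOnBase AlgSp.IsFppfCover Q) (f : 𝒳 ⥤ᵇ 𝒴)
    {U V : Over S} (x : FibCat.overCat U ⥤ᵇ 𝒳) (y : FibCat.overCat V ⥤ᵇ 𝒴) (h : U ⟶ V)
    (α : BasedFunctor.comp x f ≅ BasedFunctor.comp (overMap h) y)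
    (hk : RepByAlgSpWith Q (FibCat.fpLift x (overMap h) α)) :
    RpA (Cm.Φ f (ofChart y)) Q (CostructuredArrow.mk (sqHom f x y h α)) := by
  rw [← Cm.rpA_iff hQb hQ h𝒳 h𝒴, Cm.rp_iff h𝒴 f (ofChart y) h𝒳]
  exact (rp_sqHom_iff h𝒳 h𝒴 Q f x y h α).1 hk

theorem locQ_of_locQ_fpFst {P : MorphismProperty (AlgSp.Sp S)} (hP : AlgSp.IsSmoothLocalST P)
    (hP₂ : AlgSp.IsLocalOnBase AlgSp.IsFppfCover P) (h𝒳 : IsAlgStack Scheme.fppfPrecoverage 𝒳)
    (h𝒴 : IsAlgStack Scheme.fppfPrecoverage 𝒴) (h𝒵 : IsAlgStack Scheme.fppfPrecoverage 𝒵) (f : 𝒳 ⥤ᵇ 𝒴) (z : 𝒵 ⥤ᵇ 𝒴)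
    (hz₁ : LocQ (AlgSp.LocP @Flat) z) (hz₂ : LocQ (AlgSp.LocP @LocallyOfFinitePresentation) z) (hz₃ : IsSurjective z)
    (H : LocQ P (FibCat.fpFst z f)) : LocQ P f := by
  have g𝒳 := h𝒳.isStack.1
  have g𝒴 := h𝒴.isStack.1
  have g𝒵 := h𝒵.isStack.1
  obtain ⟨V, y, hy, hy'⟩ := h𝒴.atlas
  obtain ⟨U, x, h, α, hx, hk, hx'⟩ := exists_chart h𝒳 h𝒴 f y hy
  obtain ⟨W, w, g, β, hw, ht, hw'⟩ := exists_chart h𝒵 h𝒴 z y hy
  refine ⟨U, V, x, y, h, α, hx, hx' hy', hy, ?_⟩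
  have hg₁ : AlgSp.LocP @Flat ((AlgSp.yon S).map g) :=
    prop_of_locQ K894.SmST.isSmoothLocalST_flat g𝒵 g𝒴 hz₁ w y g β hy ht.smooth
  have hg₂ : AlgSp.LocP @LocallyOfFinitePresentation ((AlgSp.yon S).map g) :=
    prop_of_locQ K894.SmST.isSmoothLocalST_lfp g𝒵 g𝒴 hz₂ w y g β hy ht.smooth
  have hg₃ := isSurjectiveMor_chart g𝒴 g𝒵 hz₃ β ht.surj
  have sq : IsPullback ((AlgSp.yon S).map (pullback.fst h g)) ((AlgSp.yon S).map (pullback.snd h g))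
      (sqHom f x y h α).a (sqHom z w y g β).a := (IsPullback.of_hasPullback h g).map (AlgSp.yon S)
  obtain ⟨c', h', k, hc, h'a, hka, hr⟩ := exists_bc_chart g𝒳 g𝒴 g𝒵 (sqHom f x y h α) (sqHom z w y g β)
    stableBC_smooth isLocalOnBase_smooth (rpA_sqHom g𝒳 g𝒴 stableBC_smooth isLocalOnBase_smooth f x y h α hk.smooth) sq
  have hPp : P h'.a := prop_of_locQ_ch hP (K735.Fp.isFibGrpd_fp g𝒵 g𝒳 g𝒴 z f) g𝒵 H h' (hc ▸ isSch_yon _)
    (isSch_ofChart w) ((rp_ofChart_iff g𝒵 _ _).1 hw) hr.rp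
  exact (hP₂ (fun _ : PUnit.{u + 1} => (AlgSp.yon S).obj W) (fun _ => (AlgSp.yon S).map g) (AlgSp.IsAlgSpace.yon_obj V)
    (fun _ => AlgSp.IsAlgSpace.yon_obj W) (isFppfCover_single hg₁ hg₂ hg₃) ((AlgSp.yon S).map h)
    (AlgSp.IsAlgSpace.yon_obj U) (fun _ => c'.F) (fun _ => h'.a) (fun _ => k.a)
    (fun _ => hc ▸ AlgSp.IsAlgSpace.yon_obj _) (fun _ => by
      rw [h'a, hka]
      exact IsPullback.of_iso sq (eqToIso hc.symm) (Iso.refl _) (Iso.refl _) (Iso.refl _) (by simp) (by simp) (by simp)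
        (by simp))).2 fun _ => hPp

end BC

end K741
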