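import Groth.Agent.AlgSt.K741.Desc

/-!
# fppf lifts along flat, locally finitely presented, surjective morphisms of algebraic stacks
-/

set_option autoImplicit false
set_option backward.isDefEq.respectTransparency false
set_option backward.isDefEq.respectTransparency.types false

universe w₄ v₄ w'' v'' w' v' w v u

open CategoryTheory CategoryTheory.Limits AlgebraicGeometry Opposite
open AlgSt

namespace K741

variable {S : Scheme.{u}} {𝒳 𝒴 𝒵 : AlgSt.Cat S}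

theorem surj_bc' {X Y Y' X' : AlgSp.Sp S} {f : X ⟶ Y} {g : Y' ⟶ Y} {f' : X' ⟶ Y'} {g' : X' ⟶ X}
    (sq : IsPullback g' f' f g) (hf : AlgSp.IsSurjectiveMor f) : AlgSp.IsSurjectiveMor f' := surj_bc sq.flip hf

/-- sheaves over `𝒴` lift to `𝒵` after a flat surjective base change -/
theorem exists_lift_of_flat (h𝒴 : IsAlgStack Scheme.fppfPrecoverage 𝒴) (h𝒵 : IsAlgStack Scheme.fppfPrecoverage 𝒵)
    (z : 𝒵 ⥤ᵇ 𝒴) (hz₃ : IsSurjective z) (d : Ch 𝒴) (hd : AlgSp.IsAlgSpace d.F) :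
    ∃ (e : Ch 𝒵) (m : (Ch.push z).obj e ⟶ d), AlgSp.IsAlgSpace e.F ∧ AlgSp.IsSurjectiveMor m.a ∧
      (∀ {P : MorphismProperty Scheme.{u}}, AlgSp.IsSmoothLocalST (AlgSp.LocP (S := S) P) →
        K734.Rep.StableBC (AlgSp.LocP (S := S) P) → K734.Rep.StableComp (AlgSp.LocP (S := S) P) →
        @Smooth ≤ P → LocQ (AlgSp.LocP P) z → AlgSp.LocP P m.a) := by
  have g𝒴 := h𝒴.isStack.1
  have g𝒵 := h𝒵.isStack.1
  obtain ⟨V, y, hy, hy'⟩ := h𝒴.atlas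
  obtain ⟨W, w, g, β, hw, ht, hw'⟩ := exists_chart h𝒵 h𝒴 z y hy
  obtain ⟨E, l₁, l₂, hE, hEa, hEs⟩ := rpA_of_repByAlgSpWith stableBC_smooth isLocalOnBase_smooth g𝒴
    ((repByAlgSpWith_toOverCat _ _).1 hy) d hd
  have hEs' := ((rpA_of_repByAlgSpWith stableBC_surj isLocalOnBase_surj g𝒴
    ((repByAlgSpWith_toOverCat _ _).1 hy')).prop hE hd).2
  have sq : IsPullback (pullback.fst l₂.a ((AlgSp.yon S).map g)) (pullback.snd l₂.a ((AlgSp.yon S).map g)) l₂.a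
    ((AlgSp.yon S).map g) := IsPullback.of_hasPullback _ _
  have hE' : AlgSp.IsAlgSpace (pullback l₂.a ((AlgSp.yon S).map g)) :=
    isAlgSpace_bc hEa (AlgSp.IsAlgSpace.yon_obj W) (AlgSp.IsAlgSpace.yon_obj V) sq
  obtain ⟨m₀, hm₀, -⟩ := Ch.exists_lift g𝒴 l₂ ((Ch.push z).map ((ofChart w).resHom
    (pullback.snd l₂.a ((AlgSp.yon S).map g))) ≫ sqHom z w y g β) (pullback.fst l₂.a ((AlgSp.yon S).map g)) sq.w
  refine ⟨_, m₀ ≫ l₁, hE', ?_, ?_⟩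
  · change AlgSp.IsSurjectiveMor (m₀.a ≫ l₁.a)
    rw [hm₀]
    exact surj_comp (surj_bc' sq.flip (isSurjectiveMor_chart g𝒴 g𝒵 hz₃ β ht.surj)) hEs'
  · intro P hP hPb hPc hs hz
    change AlgSp.LocP P (m₀.a ≫ l₁.a)
    rw [hm₀]
    have h1 : AlgSp.LocP P ((AlgSp.yon S).map g) := prop_of_locQ hP g𝒵 g𝒴 hz w y g β hy ht.smooth
    exact hPc hE' hEa hd _ _ (hPb (AlgSp.IsAlgSpace.yon_obj W) (AlgSp.IsAlgSpace.yon_obj V) hE' hEa _ _ _ _ sq.flip h1)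
      (K597.locP_mono hs hEs)

/-- descent of a property of a representable morphism along a flat, locally finitely presented, surjective morphism -/
theorem repByAlgSpWith_of_fpFst_flat {P : MorphismProperty (AlgSp.Sp S)} (hPb : K734.Rep.StableBC P)
    (hPl : AlgSp.IsLocalOnBase AlgSp.IsFppfCover P) (h𝒳 : IsAlgStack Scheme.fppfPrecoverage 𝒳)
    (h𝒴 : IsAlgStack Scheme.fppfPrecoverage 𝒴) (h𝒵 : IsAlgStack Scheme.fppfPrecoverage 𝒵) (f : 𝒳 ⥤ᵇ 𝒴)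
    (hf : RepByAlgSp1 f) (z : 𝒵 ⥤ᵇ 𝒴)
    (hz₁ : LocQ (AlgSp.LocP @Flat) z) (hz₂ : LocQ (AlgSp.LocP @LocallyOfFinitePresentation) z) (hz₃ : IsSurjective z)
    (H : RepByAlgSpWith P (FibCat.fpFst z f)) : RepByAlgSpWith P f := by
  have g𝒳 := h𝒳.isStack.1
  have g𝒴 := h𝒴.isStack.1
  have g𝒵 := h𝒵.isStack.1
  refine repByAlgSpWith_of_isBC g𝒳 g𝒴 fun U t => ?_
  obtain ⟨c, h, hca, hbc, -⟩ := exists_isBC_sp g𝒳 g𝒴 hf (d := ⟨(AlgSp.yon S).obj U, t⟩) (AlgSp.IsAlgSpace.yon_obj U)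
  obtain ⟨e, m, he, hms, hmP⟩ := exists_lift_of_flat h𝒴 h𝒵 z hz₃ ⟨(AlgSp.yon S).obj U, t⟩ (AlgSp.IsAlgSpace.yon_obj U)
  obtain ⟨c', h', hca', hbc', hrep⟩ := exists_isBC_sp g𝒳 g𝒴 hf (d := (Ch.push z).obj e) he
  have h1 : P h'.a := ((K734.Rep.isRep_fpFst_iff (z := e.x)).2 hrep).prop hPb hPl H he
  exact ⟨c, h, hca, hbc, prop_of_isBC_cover hPl g𝒳 g𝒴 hbc hbc' hca (AlgSp.IsAlgSpace.yon_obj U) hca' he m
    (hmP K894.SmST.isSmoothLocalST_flat (K894.GoodP.good_flat S).bc (K894.GoodP.good_flat S).comp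
      (K894.GoodP.good_flat S).smooth hz₁)
    (hmP K894.SmST.isSmoothLocalST_lfp (K894.GoodP.good_lfp S).bc (K894.GoodP.good_lfp S).comp
      (K894.GoodP.good_lfp S).smooth hz₂) hms h1⟩

end K741
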