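import Groth.Agent.AlgSt.K741.Desc2

/-!
# Sheaves over 2-fibre products and base change squares of diagonals

`IsEq f γ k₁ k₂` : `(e, k₁, k₂)` is universal with `push f k₁ ≫ γ = push f k₂` (the Isom sheaf of two objects).
-/

set_option autoImplicit false
set_option backward.isDefEq.respectTransparency false
set_option backward.isDefEq.respectTransparency.types false

universe w₄ v₄ w'' v'' w' v' w v u

open CategoryTheory CategoryTheory.Limits AlgebraicGeometry Opposite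
open AlgSt

namespace K741

variable {S : Scheme.{u}}

section Fp

variable {𝒳 : BasedCategory.{v, w} (Over S)} {𝒴 : BasedCategory.{v', w'} (Over S)}
  {𝒵 : BasedCategory.{v'', w''} (Over S)} {f : 𝒳 ⥤ᵇ 𝒴} {g : 𝒵 ⥤ᵇ 𝒴}

/-- the gluing morphism of a sheaf over a 2-fibre product -/
def Ch.fpγ (d : Ch (FibCat.fp f g)) :
    (Ch.push f).obj ((Ch.push (FibCat.fpFst f g)).obj d) ⟶ (Ch.push g).obj ((Ch.push (FibCat.fpSnd f g)).obj d) :=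
  (⟨𝟙 d.F, BasedCategory.whiskerLeft d.x (FibCat.fpIso f g).hom⟩ :
    Ch.Hom ((Ch.push f).obj ((Ch.push (FibCat.fpFst f g)).obj d)) ((Ch.push g).obj ((Ch.push (FibCat.fpSnd f g)).obj d)))

@[simp] theorem Ch.fpγ_a (d : Ch (FibCat.fp f g)) : (Ch.fpγ d).a = 𝟙 d.F := rfl

theorem Ch.fpγ_app (d : Ch (FibCat.fp f g)) (o : (ofSp d.F).obj) :
    (Ch.fpγ d).α.toNatTrans.app o = (d.x.obj o).obj.iso.hom := rfl

theorem Ch.fp_w {c d : Ch (FibCat.fp f g)} (h : c ⟶ d) :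
    (Ch.push f).map ((Ch.push (FibCat.fpFst f g)).map h) ≫ Ch.fpγ d =
      Ch.fpγ c ≫ (Ch.push g).map ((Ch.push (FibCat.fpSnd f g)).map h) := by
  refine Ch.hom_ext ((Category.comp_id _).trans (Category.id_comp _).symm) fun o => ?_
  have h1 : Ch.vert ((Category.comp_id h.a).trans (Category.id_comp h.a).symm) o = 𝟙 _ := by
    apply Stk.EltObj.hom_ext
    rfl
  have h2 := (h.α.toNatTrans.app o).hom.w
  change (f.map (h.α.toNatTrans.app o).hom.fst ≫ (d.x.obj ((ofSpMap h.a).obj o)).obj.iso.hom) ≫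
    g.map ((FibCat.fpSnd f g).map (d.x.map (Ch.vert _ o))) =
      (c.x.obj o).obj.iso.hom ≫ g.map (h.α.toNatTrans.app o).hom.snd
  rw [h1]
  erw [d.x.toFunctor.map_id, (FibCat.fpSnd f g).toFunctor.map_id, g.toFunctor.map_id, Category.comp_id]
  exact h2

theorem Ch.fp_ext {c d : Ch (FibCat.fp f g)} {h h' : c ⟶ d}
    (h1 : (Ch.push (FibCat.fpFst f g)).map h = (Ch.push (FibCat.fpFst f g)).map h')
    (h2 : (Ch.push (FibCat.fpSnd f g)).map h = (Ch.push (FibCat.fpSnd f g)).map h') : h = h' := by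
  obtain ⟨a, α⟩ := h
  obtain ⟨b, β⟩ := h'
  obtain rfl : a = b := congrArg Ch.Hom.a h1
  refine Ch.hom_ext_mk fun o => ?_
  change (⟨a, BasedCategory.whiskerRight α (FibCat.fpFst f g)⟩ : Ch.Hom ((Ch.push (FibCat.fpFst f g)).obj c)
    ((Ch.push (FibCat.fpFst f g)).obj d)) = ⟨a, BasedCategory.whiskerRight β (FibCat.fpFst f g)⟩ at h1
  change (⟨a, BasedCategory.whiskerRight α (FibCat.fpSnd f g)⟩ : Ch.Hom ((Ch.push (FibCat.fpSnd f g)).obj c)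
    ((Ch.push (FibCat.fpSnd f g)).obj d)) = ⟨a, BasedCategory.whiskerRight β (FibCat.fpSnd f g)⟩ at h2
  injection h1 with _ h1
  injection h2 with _ h2
  apply K735.Fp.fp_hom_ext
  · exact congrArg (fun q => q.toNatTrans.app o) h1
  · exact congrArg (fun q => q.toNatTrans.app o) h2

theorem Ch.fp_exists {c d : Ch (FibCat.fp f g)}
    (m₁ : (Ch.push (FibCat.fpFst f g)).obj c ⟶ (Ch.push (FibCat.fpFst f g)).obj d)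
    (m₂ : (Ch.push (FibCat.fpSnd f g)).obj c ⟶ (Ch.push (FibCat.fpSnd f g)).obj d)
    (w : (Ch.push f).map m₁ ≫ Ch.fpγ d = Ch.fpγ c ≫ (Ch.push g).map m₂) :
    ∃ h : c ⟶ d, (Ch.push (FibCat.fpFst f g)).map h = m₁ ∧ (Ch.push (FibCat.fpSnd f g)).map h = m₂ := by
  obtain ⟨a, α⟩ := m₁
  obtain ⟨b, β⟩ := m₂
  have hab : a = b := by
    have h1 : a ≫ 𝟙 d.F = 𝟙 c.F ≫ b := congrArg Ch.Hom.a w
    exact (Category.comp_id a).symm.trans (h1.trans (Category.id_comp b))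
  obtain rfl : a = b := hab
  have hw : ∀ o, f.map (α.toNatTrans.app o) ≫ ((BasedFunctor.comp (ofSpMap a) d.x).obj o).obj.iso.hom =
      (c.x.obj o).obj.iso.hom ≫ g.map (β.toNatTrans.app o) := fun o => by
    have h2 := Ch.Hom.congr w o
    have h1 : Ch.vert (congrArg Ch.Hom.a w) o = 𝟙 _ := by
      apply Stk.EltObj.hom_ext
      rfl
    rw [h1] at h2
    erw [((Ch.push g).obj ((Ch.push (FibCat.fpSnd f g)).obj d)).x.toFunctor.map_id, Category.comp_id] at h2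
    exact h2
  exact ⟨(⟨a, cellFp (G := c.x) (H := BasedFunctor.comp (ofSpMap a) d.x) α β hw⟩ : Ch.Hom c d), rfl, rfl⟩

/-- the sheaf over a 2-fibre product given by two sheaves and a gluing morphism -/
noncomputable def Ch.fpMk (h𝒴 : FibCat.IsFibGrpd 𝒴.p) {c₁ : Ch 𝒳} {c₂ : Ch 𝒵}
    (γ : (Ch.push f).obj c₁ ⟶ (Ch.push g).obj c₂) : Ch (FibCat.fp f g) :=
  have := isIso_two_cell h𝒴 γ.α
  ⟨c₁.F, FibCat.fpLift c₁.x (BasedFunctor.comp (ofSpMap γ.a) c₂.x) (asIso γ.α)⟩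

theorem Ch.fpMk_fst (h𝒴 : FibCat.IsFibGrpd 𝒴.p) {c₁ : Ch 𝒳} {c₂ : Ch 𝒵}
    (γ : (Ch.push f).obj c₁ ⟶ (Ch.push g).obj c₂) : (Ch.push (FibCat.fpFst f g)).obj (Ch.fpMk h𝒴 γ) = c₁ := rfl

theorem Ch.fpMk_snd (h𝒴 : FibCat.IsFibGrpd 𝒴.p) {c₁ : Ch 𝒳} {c₂ : Ch 𝒵}
    (γ : (Ch.push f).obj c₁ ⟶ (Ch.push g).obj c₂) : (Ch.push (FibCat.fpSnd f g)).obj (Ch.fpMk h𝒴 γ) = c₂.res γ.a := rfl

theorem Ch.fpγ_fpMk (h𝒴 : FibCat.IsFibGrpd 𝒴.p) {c₁ : Ch 𝒳} {c₂ : Ch 𝒵}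
    (γ : (Ch.push f).obj c₁ ⟶ (Ch.push g).obj c₂) :
    Ch.fpγ (Ch.fpMk h𝒴 γ) ≫ (Ch.push g).map (c₂.resHom γ.a) = γ := by
  refine Ch.hom_ext (Category.id_comp _) fun o => ?_
  have h1 : Ch.vert (Category.id_comp γ.a) o = 𝟙 _ := by
    apply Stk.EltObj.hom_ext
    rfl
  change (γ.α.toNatTrans.app o ≫ g.map (𝟙 _)) ≫ g.map (c₂.x.map (Ch.vert _ o)) = γ.α.toNatTrans.app o
  rw [h1]
  erw [c₂.x.toFunctor.map_id, g.toFunctor.map_id, Category.comp_id, Category.comp_id]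

end Fp

section Diag

variable {𝒳 : BasedCategory.{v, w} (Over S)} {𝒴 : BasedCategory.{v', w'} (Over S)}
  {𝒵 : BasedCategory.{v'', w''} (Over S)} {f : 𝒳 ⥤ᵇ 𝒴} {g : 𝒴 ⥤ᵇ 𝒵}

/-- `(e, k₁, k₂)` is universal with `push f k₁ ≫ γ = push f k₂` -/
structure IsEq (f : 𝒳 ⥤ᵇ 𝒴) {d₁ d₂ : Ch 𝒳} (γ : (Ch.push f).obj d₁ ⟶ (Ch.push f).obj d₂) {e : Ch 𝒳}
    (k₁ : e ⟶ d₁) (k₂ : e ⟶ d₂) : Prop where
  w : (Ch.push f).map k₁ ≫ γ = (Ch.push f).map k₂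
  hom_ext : ∀ {t : Ch 𝒳} {u v : t ⟶ e}, u ≫ k₁ = v ≫ k₁ → u ≫ k₂ = v ≫ k₂ → u = v
  exists_lift : ∀ {t : Ch 𝒳} (l₁ : t ⟶ d₁) (l₂ : t ⟶ d₂), (Ch.push f).map l₁ ≫ γ = (Ch.push f).map l₂ →
    ∃ u : t ⟶ e, u ≫ k₁ = l₁ ∧ u ≫ k₂ = l₂

theorem Ch.fpγ_diag (c : Ch 𝒳) : Ch.fpγ ((Ch.push (FibCat.diag f)).obj c) = 𝟙 ((Ch.push f).obj c) := rfl

theorem isEq_of_isBC {c : Ch 𝒳} {d : Ch (FibCat.fp f f)} {h : (Ch.push (FibCat.diag f)).obj c ⟶ d}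
    (hh : IsBC (FibCat.diag f) h) :
    IsEq f (Ch.fpγ d) (e := c) ((Ch.push (FibCat.fpFst f f)).map h) ((Ch.push (FibCat.fpSnd f f)).map h) where
  w := by
    refine (Ch.fp_w h).trans ?_
    rw [Ch.fpγ_diag]
    exact Category.id_comp _
  hom_ext {t u v} h1 h2 := by
    have h3 : (Ch.push (FibCat.diag f)).map u ≫ h = (Ch.push (FibCat.diag f)).map v ≫ h := by
      apply Ch.fp_ext
      · rw [Functor.map_comp, Functor.map_comp]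
        exact h1
      · rw [Functor.map_comp, Functor.map_comp]
        exact h2
    exact hh.hom_ext h3
  exists_lift {t} l₁ l₂ hl := by
    obtain ⟨k, hk₁, hk₂⟩ := Ch.fp_exists (c := (Ch.push (FibCat.diag f)).obj t) (d := d) l₁ l₂ (by
      rw [Ch.fpγ_diag]
      exact hl.trans (Category.id_comp _).symm)
    obtain ⟨u, hu, -⟩ := hh t k
    change (Ch.push (FibCat.diag f)).map u ≫ h = k at hu
    refine ⟨u, ?_, ?_⟩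
    · rw [← hk₁, ← hu, Functor.map_comp]
      rfl
    · rw [← hk₂, ← hu, Functor.map_comp]
      rfl

namespace IsEq

variable {d₁ d₂ : Ch 𝒳} {γ : (Ch.push f).obj d₁ ⟶ (Ch.push f).obj d₂} {e : Ch 𝒳} {k₁ : e ⟶ d₁} {k₂ : e ⟶ d₂}

theorem w_a (h : IsEq f γ k₁ k₂) : k₁.a ≫ γ.a = k₂.a := congrArg Ch.Hom.a h.w

theorem hom_ext' (h : IsEq f γ k₁ k₂) {t : Ch 𝒴} {u v : t ⟶ (Ch.push f).obj e} (h1 : u ≫ (Ch.push f).map k₁ = v ≫ (Ch.push f).map k₁) :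
    u ≫ (Ch.push f).map k₂ = v ≫ (Ch.push f).map k₂ := by
  rw [← h.w, ← Category.assoc, h1, Category.assoc]

/-- postcomposition of the gluing morphism -/
theorem post (h𝒳 : FibCat.IsFibGrpd 𝒳.p) (h𝒴 : FibCat.IsFibGrpd 𝒴.p) (h : IsEq f γ k₁ k₂) {d₂' : Ch 𝒳} (n : d₂ ⟶ d₂') :
    IsEq f (γ ≫ (Ch.push f).map n) k₁ (k₂ ≫ n) where
  w := by rw [← Category.assoc, h.w, Functor.map_comp]
  hom_ext {t u v} h1 h2 := by
    refine h.hom_ext h1 (Ch.lift_unique h𝒳 n ?_ (by rw [Category.assoc, Category.assoc, h2]))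
    change u.a ≫ k₂.a = v.a ≫ k₂.a
    have h3 : u.a ≫ k₁.a = v.a ≫ k₁.a := congrArg Ch.Hom.a h1
    rw [← h.w_a, ← Category.assoc, h3, Category.assoc]
  exists_lift {t} l₁ l₂ hl := by
    have ha : (l₁.a ≫ γ.a) ≫ n.a = l₂.a := (Category.assoc _ _ _).trans (congrArg Ch.Hom.a hl)
    obtain ⟨l₂', h1, h2⟩ := Ch.exists_lift h𝒳 n l₂ (l₁.a ≫ γ.a) ha
    obtain ⟨u, hu₁, hu₂⟩ := h.exists_lift l₁ l₂' (by
      refine Ch.lift_unique h𝒴 ((Ch.push f).map n) ?_ ?_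
      · exact h1.symm
      · rw [Category.assoc, hl, ← Functor.map_comp, h2])
    exact ⟨u, hu₁, by rw [← Category.assoc, hu₂, h2]⟩

theorem exists_iso (h : IsEq f γ k₁ k₂) {e' : Ch 𝒳} {k₁' : e' ⟶ d₁} {k₂' : e' ⟶ d₂} (h' : IsEq f γ k₁' k₂') :
    ∃ i : e ≅ e', i.hom ≫ k₁' = k₁ ∧ i.hom ≫ k₂' = k₂ := by
  obtain ⟨a, ha₁, ha₂⟩ := h'.exists_lift k₁ k₂ h.w
  obtain ⟨b, hb₁, hb₂⟩ := h.exists_lift k₁' k₂' h'.w
  refine ⟨⟨a, b, ?_, ?_⟩, ha₁, ha₂⟩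
  · apply h.hom_ext
    · rw [Category.assoc, hb₁, ha₁, Category.id_comp]
    · rw [Category.assoc, hb₂, ha₂, Category.id_comp]
  · apply h'.hom_ext
    · rw [Category.assoc, ha₁, hb₁, Category.id_comp]
    · rw [Category.assoc, ha₂, hb₂, Category.id_comp]

/-- base change along `n : d₁' ⟶ d₁` -/
theorem isPullback (h𝒳 : FibCat.IsFibGrpd 𝒳.p) (h : IsEq f γ k₁ k₂) {d₁' : Ch 𝒳} (n : d₁' ⟶ d₁) {e' : Ch 𝒳}
    {k₁' : e' ⟶ d₁'} {k₂' : e' ⟶ d₂} (h' : IsEq f ((Ch.push f).map n ≫ γ) k₁' k₂') :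
    ∃ u : e' ⟶ e, u ≫ k₁ = k₁' ≫ n ∧ u ≫ k₂ = k₂' ∧ IsPullback u.a k₁'.a k₁.a n.a := by
  obtain ⟨u, hu₁, hu₂⟩ := h.exists_lift (k₁' ≫ n) k₂' (by rw [Functor.map_comp, Category.assoc, h'.w])
  have key : ∀ {T : AlgSp.Sp S} (p : T ⟶ e.F) (q : T ⟶ d₁'.F), p ≫ k₁.a = q ≫ n.a →
      ∃! m : T ⟶ e'.F, m ≫ u.a = p ∧ m ≫ k₁'.a = q := by
    intro T p q hpq
    obtain ⟨l, hl, hl'⟩ := Ch.exists_lift h𝒳 n (e.resHom p ≫ k₁) q hpq.symm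
    obtain ⟨m, hm₁, hm₂⟩ := h'.exists_lift l (e.resHom p ≫ k₂) (by
      rw [← Category.assoc, ← Functor.map_comp, hl', Functor.map_comp, Category.assoc, h.w, Functor.map_comp])
    have hmu : m ≫ u = e.resHom p := by
      apply h.hom_ext
      · rw [Category.assoc, hu₁, ← Category.assoc, hm₁, hl']
      · rw [Category.assoc, hu₂, hm₂]
    refine ⟨m.a, ⟨congrArg Ch.Hom.a hmu, ?_⟩, fun m' hm' => ?_⟩
    · rw [← hl]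
      exact congrArg Ch.Hom.a hm₁
    · obtain ⟨v, hv, hv'⟩ := Ch.exists_lift h𝒳 u (e.resHom p) m' hm'.1
      have hvl : v ≫ k₁' = l := by
        refine Ch.lift_unique h𝒳 n ?_ ?_
        · change v.a ≫ k₁'.a = l.a
          rw [hv, hl, hm'.2]
        · rw [Category.assoc, ← hu₁, ← Category.assoc, hv', hl']
      have hvm : v = m := by
        apply h'.hom_ext
        · rw [hvl, hm₁]
        · rw [← hu₂, ← Category.assoc, hv', ← hm₂, hu₂]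
      rw [← hv, hvm]
  refine ⟨u, hu₁, hu₂, ⟨congrArg Ch.Hom.a hu₁⟩, ⟨PullbackCone.IsLimit.mk _
    (fun s => (key s.fst s.snd s.condition).choose) (fun s => (key s.fst s.snd s.condition).choose_spec.1.1)
    (fun s => (key s.fst s.snd s.condition).choose_spec.1.2) fun s m h1 h2 =>
      (key s.fst s.snd s.condition).choose_spec.2 m ⟨h1, h2⟩⟩⟩

end IsEq

/-- existence of the Isom sheaf, for a representable diagonal -/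
theorem exists_isEq {𝒳 𝒴 : AlgSt.Cat S} {f : 𝒳 ⥤ᵇ 𝒴} {P : MorphismProperty (AlgSp.Sp S)} (hPb : K734.Rep.StableBC P)
    (hP : AlgSp.IsLocalOnBase AlgSp.IsFppfCover P) (h𝒳 : FibCat.IsFibGrpd 𝒳.p) (h𝒴 : FibCat.IsFibGrpd 𝒴.p)
    (hf : RepByAlgSpWith P (FibCat.diag f)) {d₁ d₂ : Ch 𝒳} (γ : (Ch.push f).obj d₁ ⟶ (Ch.push f).obj d₂)
    (hd : AlgSp.IsAlgSpace d₁.F) :
    ∃ (e : Ch 𝒳) (k₁ : e ⟶ d₁) (k₂ : e ⟶ d₂), IsEq f γ k₁ k₂ ∧ AlgSp.IsAlgSpace e.F ∧ P k₁.a := by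
  obtain ⟨c, h, h1, h2, h3⟩ := exists_isBC_sp' hPb hP h𝒳 (K735.Fp.isFibGrpd_fp h𝒳 h𝒳 h𝒴 f f) hf
    (d := Ch.fpMk h𝒴 γ) hd
  have h4 := (isEq_of_isBC h2).post h𝒳 h𝒴 (d₂.resHom γ.a)
  rw [Ch.fpγ_fpMk] at h4
  exact ⟨c, _, _, h4, h1, h3⟩

theorem exists_isEq₁ {𝒳 𝒴 : AlgSt.Cat S} {f : 𝒳 ⥤ᵇ 𝒴} (h𝒳 : FibCat.IsFibGrpd 𝒳.p) (h𝒴 : FibCat.IsFibGrpd 𝒴.p)
    (hf : RepByAlgSp1 (FibCat.diag f)) {d₁ d₂ : Ch 𝒳} (γ : (Ch.push f).obj d₁ ⟶ (Ch.push f).obj d₂)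
    (hd : AlgSp.IsAlgSpace d₁.F) :
    ∃ (e : Ch 𝒳) (k₁ : e ⟶ d₁) (k₂ : e ⟶ d₂), IsEq f γ k₁ k₂ ∧ AlgSp.IsAlgSpace e.F := by
  obtain ⟨c, h, h1, h2, -⟩ := exists_isBC_sp h𝒳 (K735.Fp.isFibGrpd_fp h𝒳 h𝒳 h𝒴 f f) hf
    (d := Ch.fpMk h𝒴 γ) hd
  have h4 := (isEq_of_isBC h2).post h𝒳 h𝒴 (d₂.resHom γ.a)
  rw [Ch.fpγ_fpMk] at h4
  exact ⟨c, _, _, h4, h1⟩

/-- descent of a property of the Isom sheaf -/
theorem prop_of_isEq_cover {𝒳 𝒴 : AlgSt.Cat S} {f : 𝒳 ⥤ᵇ 𝒴} {τ : AlgSp.CovNotion S} {P : MorphismProperty (AlgSp.Sp S)}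
    (hP : AlgSp.IsLocalOnBase τ P) (h𝒳 : FibCat.IsFibGrpd 𝒳.p) (h𝒴 : FibCat.IsFibGrpd 𝒴.p) {d₁ d₂ : Ch 𝒳}
    {γ : (Ch.push f).obj d₁ ⟶ (Ch.push f).obj d₂} {e : Ch 𝒳} {k₁ : e ⟶ d₁} {k₂ : e ⟶ d₂} (h : IsEq f γ k₁ k₂)
    {d₁' d₂' : Ch 𝒳} {γ' : (Ch.push f).obj d₁' ⟶ (Ch.push f).obj d₂'} {e' : Ch 𝒳} {k₁' : e' ⟶ d₁'} {k₂' : e' ⟶ d₂'}
    (h' : IsEq f γ' k₁' k₂') (n₁ : d₁' ⟶ d₁) (n₂ : d₂' ⟶ d₂)
    (hγ : γ' ≫ (Ch.push f).map n₂ = (Ch.push f).map n₁ ≫ γ) (he : AlgSp.IsAlgSpace e.F) (hd : AlgSp.IsAlgSpace d₁.F)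
    (he' : AlgSp.IsAlgSpace e'.F) (hd' : AlgSp.IsAlgSpace d₁'.F)
    (hτ : τ (fun _ : PUnit.{u + 1} => d₁'.F) (fun _ => n₁.a)) (hk : P k₁'.a) : P k₁.a := by
  have hp' := h'.post h𝒳 h𝒴 n₂
  rw [hγ] at hp'
  obtain ⟨u, -, -, sq⟩ := h.isPullback h𝒳 n₁ hp'
  exact (hP (fun _ : PUnit.{u + 1} => d₁'.F) (fun _ => n₁.a) hd (fun _ => hd') hτ k₁.a he (fun _ => e'.F)
    (fun _ => k₁'.a) (fun _ => u.a) (fun _ => he') (fun _ => sq)).2 fun _ => hk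

theorem IsEq.prop {𝒳 𝒴 : AlgSt.Cat S} {f : 𝒳 ⥤ᵇ 𝒴} {P : MorphismProperty (AlgSp.Sp S)} [P.RespectsIso]
    (hPb : K734.Rep.StableBC P)
    (hP : AlgSp.IsLocalOnBase AlgSp.IsFppfCover P) (h𝒳 : FibCat.IsFibGrpd 𝒳.p) (h𝒴 : FibCat.IsFibGrpd 𝒴.p)
    (hf : RepByAlgSpWith P (FibCat.diag f)) {d₁ d₂ : Ch 𝒳} {γ : (Ch.push f).obj d₁ ⟶ (Ch.push f).obj d₂}
    {e : Ch 𝒳} {k₁ : e ⟶ d₁} {k₂ : e ⟶ d₂} (h : IsEq f γ k₁ k₂) (hd : AlgSp.IsAlgSpace d₁.F) :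
    AlgSp.IsAlgSpace e.F ∧ P k₁.a := by
  obtain ⟨e', k₁', k₂', h', he', hk'⟩ := exists_isEq hPb hP h𝒳 h𝒴 hf γ hd
  obtain ⟨i, hi₁, hi₂⟩ := h.exists_iso h'
  refine ⟨he'.of_iso ((Ch.forget 𝒳).mapIso i).symm, ?_⟩
  rw [← hi₁]
  exact (MorphismProperty.cancel_left_of_respectsIso P ((Ch.forget 𝒳).mapIso i).hom _).2 hk'

/-- the Isom sheaf of `g ∘ f` over the Isom sheaf of `g` is the Isom sheaf of `f` -/
theorem IsEq.comp (h𝒳 : FibCat.IsFibGrpd 𝒳.p) (h𝒴 : FibCat.IsFibGrpd 𝒴.p) {d₁ d₂ : Ch 𝒳}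
    {γ : (Ch.push g).obj ((Ch.push f).obj d₁) ⟶ (Ch.push g).obj ((Ch.push f).obj d₂)} {p : Ch 𝒴}
    {k₁ : p ⟶ (Ch.push f).obj d₁} {k₂ : p ⟶ (Ch.push f).obj d₂} (hp : IsEq g γ k₁ k₂) {q : Ch 𝒳} {l₁ : q ⟶ d₁}
    {l₂ : q ⟶ d₂} (hq : IsEq (BasedFunctor.comp f g) γ l₁ l₂) :
    ∃ (r : (Ch.push f).obj q ⟶ p) (γ' : (Ch.push f).obj (d₁.res (G := p.F) k₁.a) ⟶ (Ch.push f).obj d₂)
      (l₁' : q ⟶ d₁.res (G := p.F) k₁.a), r ≫ k₁ = (Ch.push f).map l₁ ∧ r ≫ k₂ = (Ch.push f).map l₂ ∧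
        IsEq f γ' l₁' l₂ ∧ l₁'.a = r.a := by
  obtain ⟨r, hr₁, hr₂⟩ := hp.exists_lift ((Ch.push f).map l₁) ((Ch.push f).map l₂) hq.w
  let ρ : d₁.res k₁.a ⟶ d₁ := d₁.resHom k₁.a
  obtain ⟨s, hs, hs'⟩ := Ch.exists_lift h𝒴 ((Ch.push f).map ρ) k₁ (𝟙 _) (Category.id_comp _)
  have hsa : IsIso s.a := by
    rw [hs]
    exact inferInstanceAs (IsIso (𝟙 p.F))
  have hsi : IsIso s := Ch.isIso_of_isIso_a h𝒴 s
  have hsia : (inv s).a = 𝟙 p.F := by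
    have h1 := congrArg Ch.Hom.a (IsIso.hom_inv_id s)
    change s.a ≫ (inv s).a = 𝟙 p.F at h1
    rw [hs] at h1
    exact (Category.id_comp _).symm.trans h1
  obtain ⟨l₁', hl₁, hl₁'⟩ := Ch.exists_lift h𝒳 ρ l₁ r.a (congrArg Ch.Hom.a hr₁)
  have e1 : r ≫ s = (Ch.push f).map l₁' := by
    refine Ch.lift_unique h𝒴 ((Ch.push f).map ρ) ?_ ?_
    · change r.a ≫ s.a = l₁'.a
      rw [hs, hl₁]
      exact Category.comp_id _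
    · rw [Category.assoc, hs', hr₁, ← Functor.map_comp, hl₁']
  have e0 : inv s ≫ k₁ = (Ch.push f).map ρ := (IsIso.inv_comp_eq s).2 hs'.symm
  refine ⟨r, inv s ≫ k₂, l₁', hr₁, hr₂, ⟨?_, fun {t u v} h1 h2 => ?_, fun {t} n₁ n₂ hn => ?_⟩, hl₁⟩
  · rw [← e1, Category.assoc, IsIso.hom_inv_id_assoc, hr₂]
  · refine hq.hom_ext ?_ h2
    rw [← hl₁', ← Category.assoc, h1, Category.assoc]
  · obtain ⟨u, hu₁, hu₂⟩ := hq.exists_lift (n₁ ≫ ρ) n₂ (by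
      change (Ch.push g).map ((Ch.push f).map (n₁ ≫ ρ)) ≫ γ = (Ch.push g).map ((Ch.push f).map n₂)
      rw [← hn, Functor.map_comp, Functor.map_comp, Category.assoc, Functor.map_comp (Ch.push g) ((Ch.push f).map n₁),
        Functor.map_comp (Ch.push g) (inv s), ← hp.w, ← e0, Functor.map_comp (Ch.push g) (inv s), Category.assoc])
    have e2 : (Ch.push f).map u ≫ r = (Ch.push f).map n₁ ≫ inv s := by
      apply hp.hom_ext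
      · rw [Category.assoc, hr₁, ← Functor.map_comp, hu₁, Category.assoc, e0, Functor.map_comp]
      · rw [Category.assoc, hr₂, ← Functor.map_comp, hu₂, Category.assoc, hn]
    refine ⟨u, Ch.lift_unique h𝒳 ρ ?_ ?_, hu₂⟩
    · have h3 := congrArg Ch.Hom.a e2
      change u.a ≫ r.a = n₁.a ≫ (inv s).a at h3
      change u.a ≫ l₁'.a = n₁.a
      rw [hl₁, h3, hsia]
      exact Category.comp_id _
    · rw [Category.assoc, hl₁', hu₁]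

end Diag

end K741
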