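import Groth.Agent.AlgSt.K741.Ch

/-!
# Functors between categories of sheaves, and the link between 2-fibre products and `Ch`
-/

set_option autoImplicit false
set_option backward.isDefEq.respectTransparency false
set_option backward.isDefEq.respectTransparency.types false

universe w'' v'' w' v' w v u

open CategoryTheory CategoryTheory.Limits AlgebraicGeometry Opposite
open AlgSt

namespace K741

variable {S : Scheme.{u}}

theorem two_cell_fac {W : BasedCategory.{v', w'} (Over S)} {𝒳 : BasedCategory.{v, w} (Over S)} {Φ Ψ : W ⥤ᵇ 𝒳}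
    (α : Φ ⟶ Ψ) (o : W.obj) :
    𝒳.p.map (α.toNatTrans.app o) = eqToHom ((Φ.w_obj o).trans (Ψ.w_obj o).symm) := by
  have h : 𝒳.p.IsHomLift (𝟙 (W.p.obj o)) (α.toNatTrans.app o) := α.isHomLift' o
  have := IsHomLift.fac' 𝒳.p (𝟙 (W.p.obj o)) (α.toNatTrans.app o)
  rw [this]
  simp

theorem functor_fac {W : BasedCategory.{v', w'} (Over S)} {𝒳 : BasedCategory.{v, w} (Over S)} (Φ : W ⥤ᵇ 𝒳)
    {o o' : W.obj} (ψ : o ⟶ o') :
    𝒳.p.map (Φ.map ψ) = eqToHom (Φ.w_obj o) ≫ W.p.map ψ ≫ eqToHom (Φ.w_obj o').symm := by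
  have h : 𝒳.p.IsHomLift (W.p.map ψ) (Φ.map ψ) := BasedFunctor.preserves_isHomLift Φ _ _
  exact IsHomLift.fac' 𝒳.p (W.p.map ψ) (Φ.map ψ)

section SpMap

variable {F G : AlgSp.Sp S}

/-- isomorphisms in `ofSp G` over equal bases -/
def eltIso {a b : (ofSp G).obj} (e : a.base = b.base) (h : G.obj.map (eqToHom e).op b.sec = a.sec) : a ≅ b where
  hom := ⟨eqToHom e, h⟩
  inv := ⟨eqToHom e.symm, by
    rw [← h, ← Functor.map_comp_apply, ← op_comp]
    simp⟩
  hom_inv_id := by ext; simp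
  inv_hom_id := by ext; simp

theorem elt_hom_unique {W : BasedCategory.{v, w} (Over S)} {Φ Ψ : W ⥤ᵇ ofSp G} (α β : Φ ⟶ Ψ) : α = β := by
  apply BasedNatTrans.homCategory.ext
  ext1
  funext o
  exact Stk.EltObj.hom_ext ((two_cell_fac α o).trans (two_cell_fac β o).symm)

theorem map_eqToHom_symm {T T' : Over S} (h : T = T') (s : G.obj.obj (op T)) :
    G.obj.map (eqToHom h).op (G.obj.map (eqToHom h.symm).op s) = s := by
  subst h
  simp

/-- the section attached to a functor -/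
def secOf (Φ : ofSp F ⥤ᵇ ofSp G) (o : (ofSp F).obj) : G.obj.obj (op o.base) :=
  G.obj.map (eqToHom (Φ.w_obj o).symm : o.base ⟶ (Φ.obj o).base).op (Φ.obj o).sec

theorem secOf_map (Φ : ofSp F ⥤ᵇ ofSp G) {o o' : (ofSp F).obj} (ψ : o ⟶ o') :
    G.obj.map ψ.hom.op (secOf Φ o') = secOf Φ o := by
  have h2 : (Φ.map ψ).hom = eqToHom (Φ.w_obj o) ≫ ψ.hom ≫ eqToHom (Φ.w_obj o').symm := functor_fac Φ ψ
  have h1 := (Φ.map ψ).map_sec
  unfold secOf
  rw [← h1, ← Functor.map_comp_apply, ← Functor.map_comp_apply, ← op_comp, ← op_comp, h2]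
  congr 3
  simp

/-- the map of sheaves determined by a functor between their categories -/
def spMap (Φ : ofSp F ⥤ᵇ ofSp G) : F ⟶ G :=
  ObjectProperty.homMk
    { app := fun T => ↾fun x => secOf Φ ⟨T.unop, x⟩
      naturality := fun T T' g => by
        ext x
        exact (secOf_map Φ (⟨g.unop, rfl⟩ : (⟨T'.unop, F.obj.map g x⟩ : (ofSp F).obj) ⟶ ⟨T.unop, x⟩)).symm }

theorem ofSpMap_spMap_sec (Φ : ofSp F ⥤ᵇ ofSp G) (o : (ofSp F).obj) :
    ((ofSpMap (spMap Φ)).obj o).sec = secOf Φ o := rfl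

/-- every functor is `ofSpMap` of a map of sheaves -/
def spMapIso (Φ : ofSp F ⥤ᵇ ofSp G) : Φ ≅ ofSpMap (spMap Φ) :=
  BasedNatIso.mkNatIso
    (NatIso.ofComponents (fun o => eltIso (Φ.w_obj o)
      (map_eqToHom_symm (Φ.w_obj o : (Φ.obj o).base = o.base) (Φ.obj o).sec)) (fun {o o'} ψ => by
        apply Stk.EltObj.hom_ext
        have h2 : (Φ.map ψ).hom = eqToHom (Φ.w_obj o) ≫ ψ.hom ≫ eqToHom (Φ.w_obj o').symm := functor_fac Φ ψ
        refine Eq.trans (b := (Φ.map ψ).hom ≫ eqToHom (Φ.w_obj o')) rfl ?_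
        refine Eq.trans ?_ (b := eqToHom (Φ.w_obj o) ≫ ψ.hom) rfl
        rw [h2]
        simp))
    (fun o => by
      refine IsHomLift.of_fac' _ _ _ (Φ.w_obj o) rfl ?_
      refine Eq.trans (b := eqToHom (Φ.w_obj o)) rfl ?_
      simp)

theorem spMap_eq_of_hom {a b : F ⟶ G} (α : ofSpMap a ⟶ ofSpMap b) : a = b := by
  apply ObjectProperty.hom_ext
  ext T x
  have h := (α.toNatTrans.app ⟨T.unop, x⟩).map_sec
  have h2 : (α.toNatTrans.app ⟨T.unop, x⟩).hom = 𝟙 _ := two_cell_fac α ⟨T.unop, x⟩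
  rw [h2] at h
  refine h.symm.trans ?_
  erw [op_id, G.obj.map_id]
  rfl

end SpMap

end K741
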