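import Groth.Agent.AlgSt.K741.SpProp

/-!
# Independence of the chart square for smooth local properties
-/

set_option autoImplicit false
set_option backward.isDefEq.respectTransparency false
set_option backward.isDefEq.respectTransparency.types false

universe w₄ v₄ w'' v'' w' v' w v u

open CategoryTheory CategoryTheory.Limits AlgebraicGeometry Opposite
open AlgSt

namespace K741

variable {S : Scheme.{u}} {𝒳 : BasedCategory.{v, w} (Over S)} {𝒴 : BasedCategory.{v', w'} (Over S)}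

theorem lemmaA {P : MorphismProperty (AlgSp.Sp S)} (hP : AlgSp.IsSmoothLocalST P) (h𝒳 : FibCat.IsFibGrpd 𝒳.p)
    (h𝒴 : FibCat.IsFibGrpd 𝒴.p) (f : 𝒳 ⥤ᵇ 𝒴)
    {c₀ : Ch 𝒳} {d₀ : Ch 𝒴} (h₀ : (Ch.push f).obj c₀ ⟶ d₀) (hc₀ : IsSch c₀.F) (hd₀ : IsSch d₀.F)
    (hx : Rp (Ch.forget 𝒳) (AlgSp.LocP @Smooth) c₀) (hx' : Rp (Ch.forget 𝒳) AlgSp.IsSurjectiveMor c₀)
    (hy : Rp (Ch.forget 𝒴) (AlgSp.LocP @Smooth) d₀) (hP₀ : P h₀.a)
    {c : Ch 𝒳} {d : Ch 𝒴} (h : (Ch.push f).obj c ⟶ d) (hc : IsSch c.F) (hd : IsSch d.F)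
    (hy' : Rp (Ch.forget 𝒴) (AlgSp.LocP @Smooth) d)
    (hk : Rp (Cm.Φ f d) (AlgSp.LocP @Smooth) (CostructuredArrow.mk h)) : P h.a := by
  have hc₀a := hc₀.isAlgSpace
  have hd₀a := hd₀.isAlgSpace
  have hca := hc.isAlgSpace
  have hda := hd.isAlgSpace
  -- `E = d₀ × d`
  obtain ⟨E, e, e₀, hE, hEa, hes⟩ := hy d hd
  have he₀s : AlgSp.LocP @Smooth e₀.a := (hy'.prop hE.symm hd₀).2
  -- `D = c₀ ×_{d₀} E`
  have sq : IsPullback (pullback.fst h₀.a e₀.a) (pullback.snd h₀.a e₀.a) h₀.a e₀.a := IsPullback.of_hasPullback _ _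
  let D : Ch 𝒳 := c₀.res (pullback.fst h₀.a e₀.a)
  let ρ : D ⟶ c₀ := c₀.resHom (pullback.fst h₀.a e₀.a)
  obtain ⟨hD, hDa, hDw⟩ := Ch.exists_lift h𝒴 e₀ ((Ch.push f).map ρ ≫ h₀) (pullback.snd h₀.a e₀.a) sq.w.symm
  have hDalg : AlgSp.IsAlgSpace (pullback h₀.a e₀.a) := isAlgSpace_bc hc₀a hEa hd₀a sq
  have hPD : P (pullback.snd h₀.a e₀.a) := hP.baseChange hc₀a hd₀a hDalg hEa _ _ _ _ sq he₀s hP₀
  -- a scheme chart of `D`
  obtain ⟨U', p', hp'⟩ := K613.Chart.exists_ch hDalg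
  let D' : Ch 𝒳 := D.res p'
  let m' : D' ⟶ D := D.resHom p'
  have hD'alg : AlgSp.IsAlgSpace D'.F := AlgSp.IsAlgSpace.yon_obj U'
  let A : Cm f d := CostructuredArrow.mk ((Ch.push f).map m' ≫ hD ≫ e)
  obtain ⟨C', l₁, l₂, hC', hC'a, hC's⟩ := hk A (isSch_yon U')
  have hPC' : P (l₁.left.a ≫ p' ≫ pullback.snd h₀.a e₀.a) :=
    hP.precomp hC'a hD'alg hEa _ _ hC's (hP.precomp hD'alg hDalg hEa _ _ (smooth_of_etale hp'.et) hPD)
  -- `C = c₀ × c`
  obtain ⟨C, r, r₀, hC, hCa, hCs⟩ := hx c hc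
  have hCsurj : AlgSp.IsSurjectiveMor r.a := (hx'.prop hC hc).2
  obtain ⟨s, ⟨hs1, hs2⟩, -⟩ := hE _ ((Ch.push f).map r ≫ h) ((Ch.push f).map r₀ ≫ h₀)
  have hq : r₀.a ≫ h₀.a = s.a ≫ e₀.a := (congrArg Ch.Hom.a hs2).symm
  obtain ⟨n, hn, hn'⟩ := Ch.exists_lift h𝒳 ρ r₀ (sq.lift r₀.a s.a hq) (sq.lift_fst _ _ _)
  have hns : (Ch.push f).map n ≫ hD = s := by
    refine Ch.lift_unique h𝒴 e₀ ?_ ?_
    · change n.a ≫ hD.a = s.a
      rw [hn, hDa, sq.lift_snd]
    · rw [Category.assoc, hDw, ← Category.assoc, ← Functor.map_comp, hn', hs2]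
  -- `C' → C`
  obtain ⟨k, ⟨hk1, hk2⟩, -⟩ := hC _ l₂.left (l₁.left ≫ m' ≫ ρ)
  have hw1 : (Ch.push f).map l₁.left ≫ (Ch.push f).map m' ≫ hD ≫ e = C'.hom := CostructuredArrow.w l₁
  have hw2 : (Ch.push f).map l₂.left ≫ h = C'.hom := CostructuredArrow.w l₂
  have hks : (Ch.push f).map k ≫ s = (Ch.push f).map l₁.left ≫ (Ch.push f).map m' ≫ hD := by
    apply hE.hom_ext
    · rw [Category.assoc, hs1, ← Category.assoc, ← Functor.map_comp, hk1, hw2, ← hw1, Category.assoc, Category.assoc]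
    · rw [Category.assoc, hs2, ← Category.assoc, ← Functor.map_comp, hk2, Category.assoc, Category.assoc, hDw,
        Functor.map_comp, Functor.map_comp]
      simp only [Category.assoc]
  have hkn : k ≫ n = l₁.left ≫ m' := by
    refine Ch.lift_unique h𝒳 ρ ?_ ?_
    · change k.a ≫ n.a = l₁.left.a ≫ p'
      rw [hn]
      apply sq.hom_ext
      · rw [Category.assoc, sq.lift_fst]
        exact congrArg Ch.Hom.a hk2
      · rw [Category.assoc, sq.lift_snd]
        have h1 := congrArg Ch.Hom.a hks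
        change k.a ≫ s.a = l₁.left.a ≫ p' ≫ hD.a at h1
        rw [h1, hDa, Category.assoc]
    · rw [Category.assoc, hn', hk2, Category.assoc]
  have hpb : IsPullback k.a l₁.left.a n.a p' := by
    refine K613.Basic.isPullback_of_yon (congrArg Ch.Hom.a hkn) fun T a b hab => ?_
    let t : Ch 𝒳 := C.res a
    obtain ⟨u, hu, hu'⟩ := Ch.exists_lift h𝒳 m' (C.resHom a ≫ n) b hab.symm
    let tc : Cm f d := CostructuredArrow.mk ((Ch.push f).map (C.resHom a) ≫ (Ch.push f).map r ≫ h)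
    let ν₂ : tc ⟶ CostructuredArrow.mk h := CostructuredArrow.homMk (C.resHom a ≫ r) (by
      change (Ch.push f).map (C.resHom a ≫ r) ≫ h = (Ch.push f).map (C.resHom a) ≫ (Ch.push f).map r ≫ h
      rw [Functor.map_comp, Category.assoc])
    let ν₁ : tc ⟶ A := CostructuredArrow.homMk u (by
      change (Ch.push f).map u ≫ (Ch.push f).map m' ≫ hD ≫ e = (Ch.push f).map (C.resHom a) ≫ (Ch.push f).map r ≫ h
      rw [← Category.assoc, ← Functor.map_comp, hu', Functor.map_comp, Category.assoc, ← Category.assoc ((Ch.push f).map n),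
        hns, hs1])
    obtain ⟨v, ⟨hv1, hv2⟩, hv3⟩ := hC' tc ν₁ ν₂
    have hv1' : v.left ≫ l₁.left = u := congrArg CommaMorphism.left hv1
    have hv2' : v.left ≫ l₂.left = C.resHom a ≫ r := congrArg CommaMorphism.left hv2
    refine ⟨v.left.a, ⟨?_, ?_⟩, ?_⟩
    · have h1 : v.left ≫ k = C.resHom a := by
        apply hC.hom_ext
        · rw [Category.assoc, hk1, hv2']
        · rw [Category.assoc, hk2, reassoc_of% hv1', reassoc_of% hu', hn']
      exact congrArg Ch.Hom.a h1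
    · have h1 := congrArg Ch.Hom.a hv1'
      exact h1.trans hu
    · rintro v' ⟨hv'1, hv'2⟩
      obtain ⟨V', hV', hV''⟩ := Ch.exists_lift h𝒳 k (C.resHom a) v' hv'1
      let ω : tc ⟶ C' := CostructuredArrow.homMk V' (by
        change (Ch.push f).map V' ≫ C'.hom = (Ch.push f).map (C.resHom a) ≫ (Ch.push f).map r ≫ h
        rw [← hw2, ← hk1, ← Category.assoc, ← Functor.map_comp, ← Category.assoc, hV'', Functor.map_comp, Category.assoc])
      have hω : ω = v := hv3 ω ⟨by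
        apply CostructuredArrow.hom_ext
        change V' ≫ l₁.left = u
        refine Ch.lift_unique h𝒳 m' ?_ ?_
        · change V'.a ≫ l₁.left.a = u.a
          rw [hV', hu]
          exact hv'2
        · rw [Category.assoc, ← hkn, reassoc_of% hV'', hu'], by
        apply CostructuredArrow.hom_ext
        change V' ≫ l₂.left = C.resHom a ≫ r
        rw [← hk1, reassoc_of% hV'']⟩
      rw [← hω]
      exact hV'.symm
  have hket : AlgSp.RepWith @Etale k.a := MorphismProperty.of_isPullback hpb.flip hp'.et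
  have hksurj : AlgSp.RepWith @Surjective k.a := MorphismProperty.of_isPullback hpb.flip hp'.surj
  have hl₂ : l₂.left.a = k.a ≫ r.a := (congrArg Ch.Hom.a hk1).symm
  have hl₂s : AlgSp.LocP @Smooth l₂.left.a := by
    rw [hl₂]
    exact smooth_comp hC'a hCa hca (smooth_of_etale hket) hCs
  have hl₂surj : AlgSp.IsSurjectiveMor l₂.left.a := by
    rw [hl₂]
    exact surj_comp (surj_of_repWith hksurj) hCsurj
  have hcomm : l₂.left.a ≫ h.a = (l₁.left.a ≫ p' ≫ pullback.snd h₀.a e₀.a) ≫ e.a := by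
    have h1 := congrArg Ch.Hom.a (hw2.trans hw1.symm)
    change l₂.left.a ≫ h.a = l₁.left.a ≫ p' ≫ hD.a ≫ e.a at h1
    rw [h1, hDa]
    simp only [Category.assoc]
  refine (hP.locality hca hda h.a).2 fun x => ?_
  obtain ⟨v, hv⟩ := hl₂surj x
  exact ⟨_, _, l₂.left.a, e.a, _, v, hC'a, hEa, hl₂s, hes, hcomm, hv, hPC'⟩

end K741
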