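import Groth.Agent.AlgSt.K741.Dict

/-!
# The link between 2-fibre products over the base and the 1-category `Ch`
-/

set_option autoImplicit false
set_option backward.isDefEq.respectTransparency false
set_option backward.isDefEq.respectTransparency.types false

universe w₄ v₄ w'' v'' w' v' w v u

open CategoryTheory CategoryTheory.Limits AlgebraicGeometry Opposite
open AlgSt

namespace K741

variable {S : Scheme.{u}}

section

variable {𝒳 : BasedCategory.{v, w} (Over S)} {𝒴 : BasedCategory.{v', w'} (Over S)}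
  {ℬ : BasedCategory.{v'', w''} (Over S)}

/-- the 1-categorical universal property of a 2-cartesian square -/
def IsBC (f : 𝒳 ⥤ᵇ 𝒴) {c : Ch 𝒳} {d : Ch 𝒴} (h : (Ch.push f).obj c ⟶ d) : Prop :=
  ∀ (e : Ch 𝒳) (k : (Ch.push f).obj e ⟶ d), ∃! l : e ⟶ c, (Ch.push f).map l ≫ h = k

theorem isEquivOver_full_faithful {𝒜 : BasedCategory.{v, w} (Over S)} {ℬ : BasedCategory.{v', w'} (Over S)}
    {e : 𝒜 ⥤ᵇ ℬ} (he : FibCat.IsEquivOver e) : e.toFunctor.IsEquivalence := by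
  obtain ⟨g, ⟨η⟩, ⟨ε⟩⟩ := he
  exact (CategoryTheory.Equivalence.mk e.toFunctor g.toFunctor
    ((BasedNatTrans.forgetful _ _).mapIso η).symm ((BasedNatTrans.forgetful _ _).mapIso ε)).isEquivalence_functor

/-- left whiskering of 2-isomorphisms -/
def wL {𝒲 : BasedCategory.{v₄, w₄} (Over S)} (F : 𝒲 ⥤ᵇ 𝒳) {G H : 𝒳 ⥤ᵇ 𝒴} (α : G ≅ H) :
    BasedFunctor.comp F G ≅ BasedFunctor.comp F H where
  hom := BasedCategory.whiskerLeft F α.hom
  inv := BasedCategory.whiskerLeft F α.inv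
  hom_inv_id := by
    have h := congrArg (BasedCategory.whiskerLeft F) α.hom_inv_id
    exact h
  inv_hom_id := by
    have h := congrArg (BasedCategory.whiskerLeft F) α.inv_hom_id
    exact h

/-- right whiskering of 2-isomorphisms -/
def wR {𝒲 : BasedCategory.{v₄, w₄} (Over S)} {F G : 𝒲 ⥤ᵇ 𝒳} (α : F ≅ G) (H : 𝒳 ⥤ᵇ 𝒴) :
    BasedFunctor.comp F H ≅ BasedFunctor.comp G H where
  hom := BasedCategory.whiskerRight α.hom H
  inv := BasedCategory.whiskerRight α.inv H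
  hom_inv_id := by
    apply BasedNatTrans.homCategory.ext
    ext o
    have h := congrArg (fun β : F ⟶ F => H.map (β.toNatTrans.app o)) α.hom_inv_id
    exact (H.toFunctor.map_comp _ _).symm.trans (h.trans (H.toFunctor.map_id _))
  inv_hom_id := by
    apply BasedNatTrans.homCategory.ext
    ext o
    have h := congrArg (fun β : G ⟶ G => H.map (β.toNatTrans.app o)) α.inv_hom_id
    exact (H.toFunctor.map_comp _ _).symm.trans (h.trans (H.toFunctor.map_id _))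

theorem link_aux {C : Type*} [Category C] {p q q' r r' s s' : C} (fl : p ⟶ q) [IsIso fl] (fl' : p ⟶ q')
    (m : r ≅ q) (m' : r' ≅ q') (t : r ⟶ s) (iv : s ⟶ s') (t' : r' ⟶ s') (ti : s' ⟶ r') (ht : t' ≫ ti = 𝟙 _)
    (E : (fl ≫ m.inv ≫ t) ≫ iv = fl' ≫ m'.inv ≫ t') :
    (t ≫ iv ≫ ti) ≫ m'.hom = m.hom ≫ inv fl ≫ fl' := by
  have h : fl' = fl ≫ m.inv ≫ t ≫ iv ≫ ti ≫ m'.hom := by
    have := congrArg (fun q => q ≫ ti ≫ m'.hom) E
    simp only [Category.assoc, reassoc_of% ht, Iso.inv_hom_id, Category.comp_id] at this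
    exact this.symm
  rw [h]
  simp

theorem a_eq_of_sections {E G : AlgSp.Sp S} {a b : E ⟶ G}
    (h : ∀ o : (ofSp E).obj, ∃ m : (ofSpMap a).obj o ⟶ (ofSpMap b).obj o, m.hom = 𝟙 o.base) : a = b := by
  apply ObjectProperty.hom_ext
  ext T x
  obtain ⟨m, hm⟩ := h ⟨T.unop, x⟩
  have h' := m.map_sec
  rw [hm] at h'
  refine h'.symm.trans ?_
  erw [op_id, G.obj.map_id]
  rfl

variable (f : 𝒳 ⥤ᵇ 𝒴) (y : ℬ ⥤ᵇ 𝒴) {B : AlgSp.Sp S} (i : ofSp B ⥤ᵇ ℬ)
  {F : AlgSp.Sp S} (e : ofSp F ⥤ᵇ FibCat.fp y f) (a : F ⟶ B)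
  (θ : BasedFunctor.comp e (FibCat.fpFst y f) ≅ BasedFunctor.comp (ofSpMap a) i)

/-- the canonical morphism attached to a functor into the 2-fibre product -/
def linkHom : (Ch.push f).obj (⟨F, BasedFunctor.comp e (FibCat.fpSnd y f)⟩ : Ch 𝒳) ⟶ ⟨B, BasedFunctor.comp i y⟩ :=
  (⟨a, BasedCategory.whiskerLeft e (FibCat.fpIso y f).inv ≫ BasedCategory.whiskerRight θ.hom y⟩ : Ch.Hom _ _)

theorem linkHom_a : (linkHom f y i e a θ).a = a := rfl

variable {f y i e a θ} in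
theorem linkHom_exists (h𝒴 : FibCat.IsFibGrpd 𝒴.p) [i.toFunctor.Full] [i.toFunctor.Faithful]
    (he : FibCat.IsEquivOver e) (e' : Ch 𝒳) (k : (Ch.push f).obj e' ⟶ ⟨B, BasedFunctor.comp i y⟩) :
    ∃ l : e' ⟶ ⟨F, BasedFunctor.comp e (FibCat.fpSnd y f)⟩, (Ch.push f).map l ≫ linkHom f y i e a θ = k := by
  have hk := isIso_two_cell h𝒴 k.α
  obtain ⟨g, ⟨η⟩, ⟨ε⟩⟩ := he
  let κ : BasedFunctor.comp (BasedFunctor.comp (ofSpMap k.a) i) y ≅ BasedFunctor.comp e'.x f := (asIso k.α).symm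
  let L : ofSp e'.F ⥤ᵇ FibCat.fp y f := FibCat.fpLift (BasedFunctor.comp (ofSpMap k.a) i) e'.x κ
  let Φ : ofSp e'.F ⥤ᵇ ofSp F := BasedFunctor.comp L g
  let Λ : L ≅ BasedFunctor.comp (ofSpMap (spMap Φ)) e := (wL L ε).symm ≪≫ wR (spMapIso Φ) e
  let l : e' ⟶ (⟨F, BasedFunctor.comp e (FibCat.fpSnd y f)⟩ : Ch 𝒳) :=
    (⟨spMap Φ, BasedCategory.whiskerRight Λ.hom (FibCat.fpSnd y f)⟩ : Ch.Hom _ _)
  refine ⟨l, ?_⟩
  -- the comparison morphism at an object
  have key : ∀ o : (ofSp e'.F).obj, ∃ m : (ofSpMap k.a).obj o ⟶ (ofSpMap (spMap Φ ≫ a)).obj o, m.hom = 𝟙 o.base ∧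
      i.map m = (Λ.hom.toNatTrans.app o).hom.fst ≫ θ.hom.toNatTrans.app ((ofSpMap (spMap Φ)).obj o) := by
    intro o
    obtain ⟨m, hm⟩ := i.toFunctor.map_surjective
      (show i.obj ((ofSpMap k.a).obj o) ⟶ i.obj ((ofSpMap (spMap Φ ≫ a)).obj o) from
        (Λ.hom.toNatTrans.app o).hom.fst ≫ θ.hom.toNatTrans.app ((ofSpMap (spMap Φ)).obj o))
    refine ⟨m, ?_, hm⟩
    have h1 : ℬ.p.IsHomLift (𝟙 o.base) (Λ.hom.toNatTrans.app o).hom.fst := by
      have h0 : (FibCat.fp y f).p.IsHomLift (𝟙 o.base) (Λ.hom.toNatTrans.app o) := Λ.hom.isHomLift' o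
      exact BasedFunctor.preserves_isHomLift (FibCat.fpFst y f) (𝟙 o.base) (Λ.hom.toNatTrans.app o)
    have h2 : ℬ.p.IsHomLift (𝟙 o.base) (θ.hom.toNatTrans.app ((ofSpMap (spMap Φ)).obj o)) :=
      θ.hom.isHomLift' ((ofSpMap (spMap Φ)).obj o)
    have h3 : ℬ.p.IsHomLift (𝟙 o.base) (i.map m) := by
      rw [hm]
      infer_instance
    have h4 : (ofSp B).p.IsHomLift (𝟙 o.base) m := BasedFunctor.isHomLift_map i (𝟙 o.base) m
    exact (IsHomLift.eq_of_isHomLift (ofSp B).p (a := (ofSpMap k.a).obj o)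
      (b := (ofSpMap (spMap Φ ≫ a)).obj o) (𝟙 o.base) m).symm
  have ha : k.a = spMap Φ ≫ a := a_eq_of_sections fun o => ⟨(key o).choose, (key o).choose_spec.1⟩
  symm
  refine Ch.hom_ext ha fun o => ?_
  obtain ⟨m, hm, hm'⟩ := key o
  have hv : Ch.vert ha o = m := Stk.EltObj.hom_ext hm.symm
  rw [hv]
  change k.α.toNatTrans.app o ≫ y.map (i.map m) = f.map (Λ.hom.toNatTrans.app o).hom.snd ≫
    (e.obj ((ofSpMap (spMap Φ)).obj o)).obj.iso.inv ≫ y.map (θ.hom.toNatTrans.app _)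
  rw [hm', y.toFunctor.map_comp, ← Category.assoc, ← Category.assoc]
  congr 1
  exact ((Λ.hom.toNatTrans.app o).hom.w').symm

variable {f y i e a θ} in
theorem linkHom_unique (h𝒳 : FibCat.IsFibGrpd 𝒳.p)
    (he : FibCat.IsEquivOver e) (e' : Ch 𝒳) (l l' : e' ⟶ (⟨F, BasedFunctor.comp e (FibCat.fpSnd y f)⟩ : Ch 𝒳))
    (H : (Ch.push f).map l ≫ linkHom f y i e a θ = (Ch.push f).map l' ≫ linkHom f y i e a θ) : l = l' := by
  have hea : e.toFunctor.IsEquivalence := isEquivOver_full_faithful he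
  have hlo : ∀ o, IsIso (l.α.toNatTrans.app o) := isIso_two_cell_app h𝒳 l.α
  have ha : l.a ≫ a = l'.a ≫ a := congrArg Ch.Hom.a H
  have key : ∀ o : (ofSp e'.F).obj, ∃ m : (ofSpMap l.a).obj o ⟶ (ofSpMap l'.a).obj o, m.hom = 𝟙 o.base ∧
      (e.map m).hom.snd = inv (l.α.toNatTrans.app o) ≫ l'.α.toNatTrans.app o := by
    intro o
    have E := Ch.Hom.congr H o
    change (f.map (l.α.toNatTrans.app o) ≫ (e.obj ((ofSpMap l.a).obj o)).obj.iso.inv ≫
      y.map (θ.hom.toNatTrans.app ((ofSpMap l.a).obj o))) ≫ y.map (i.map (Ch.vert ha o)) =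
      f.map (l'.α.toNatTrans.app o) ≫ (e.obj ((ofSpMap l'.a).obj o)).obj.iso.inv ≫
      y.map (θ.hom.toNatTrans.app ((ofSpMap l'.a).obj o)) at E
    let φ : e.obj ((ofSpMap l.a).obj o) ⟶ e.obj ((ofSpMap l'.a).obj o) := ObjectProperty.homMk
      { fst := (θ.hom.toNatTrans.app ((ofSpMap l.a).obj o)) ≫ i.map (Ch.vert ha o) ≫
          (θ.inv.toNatTrans.app ((ofSpMap l'.a).obj o))
        snd := inv (l.α.toNatTrans.app o) ≫ l'.α.toNatTrans.app o
        w := by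
          have h1 := link_aux (f.map (l.α.toNatTrans.app o)) (f.map (l'.α.toNatTrans.app o))
            (e.obj ((ofSpMap l.a).obj o)).obj.iso (e.obj ((ofSpMap l'.a).obj o)).obj.iso
            (y.map (θ.hom.toNatTrans.app ((ofSpMap l.a).obj o))) (y.map (i.map (Ch.vert ha o)))
            (y.map (θ.hom.toNatTrans.app ((ofSpMap l'.a).obj o)))
            (y.map (θ.inv.toNatTrans.app ((ofSpMap l'.a).obj o))) (by
              have h := congrArg (fun q => y.map (q.toNatTrans.app ((ofSpMap l'.a).obj o))) θ.hom_inv_id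
              exact (y.toFunctor.map_comp _ _).symm.trans (h.trans (y.toFunctor.map_id _))) E
          rw [y.toFunctor.map_comp, y.toFunctor.map_comp, f.toFunctor.map_comp, f.toFunctor.map_inv]
          exact h1 }
    have hφ : (FibCat.fp y f).p.IsHomLift (𝟙 o.base) φ := by
      have h1 : ℬ.p.IsHomLift (𝟙 o.base) (θ.hom.toNatTrans.app ((ofSpMap l.a).obj o)) :=
        θ.hom.isHomLift' ((ofSpMap l.a).obj o)
      have h2 : ℬ.p.IsHomLift (𝟙 o.base) (θ.inv.toNatTrans.app ((ofSpMap l'.a).obj o)) :=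
        θ.inv.isHomLift' ((ofSpMap l'.a).obj o)
      have h3 : ℬ.p.IsHomLift (𝟙 o.base) (i.map (Ch.vert ha o)) := by
        have : (ofSp B).p.IsHomLift (𝟙 o.base) (Ch.vert ha o) :=
          IsHomLift.map (ofSp B).p (Ch.vert ha o)
        exact BasedFunctor.preserves_isHomLift i _ _
      have h4 : ℬ.p.IsHomLift (𝟙 o.base) ((FibCat.fpFst y f).map φ) := by
        change ℬ.p.IsHomLift (𝟙 o.base) ((θ.hom.toNatTrans.app ((ofSpMap l.a).obj o)) ≫ i.map (Ch.vert ha o) ≫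
          (θ.inv.toNatTrans.app ((ofSpMap l'.a).obj o)))
        infer_instance
      exact BasedFunctor.isHomLift_map (FibCat.fpFst y f) (𝟙 o.base) φ
    obtain ⟨m, hm⟩ := e.toFunctor.map_surjective φ
    refine ⟨m, ?_, ?_⟩
    · have h3 : (FibCat.fp y f).p.IsHomLift (𝟙 o.base) (e.map m) := by
        rw [hm]
        exact hφ
      have h4 : (ofSp F).p.IsHomLift (𝟙 o.base) m := BasedFunctor.isHomLift_map e (𝟙 o.base) m
      exact (IsHomLift.eq_of_isHomLift (ofSp F).p (a := (ofSpMap l.a).obj o)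
        (b := (ofSpMap l'.a).obj o) (𝟙 o.base) m).symm
    · exact congrArg (fun q => q.hom.snd) hm
  obtain ⟨a₁, α₁⟩ := l
  obtain ⟨a₂, α₂⟩ := l'
  have h12 : a₁ = a₂ := a_eq_of_sections fun o => ⟨(key o).choose, (key o).choose_spec.1⟩
  obtain rfl : a₁ = a₂ := h12
  refine Ch.hom_ext_mk fun o => ?_
  obtain ⟨m, hm, hm'⟩ := key o
  obtain rfl : m = 𝟙 _ := Stk.EltObj.hom_ext hm
  erw [e.toFunctor.map_id] at hm'
  have := hlo o
  have h5 : 𝟙 _ = inv (α₁.toNatTrans.app o) ≫ α₂.toNatTrans.app o := hm'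
  rw [IsIso.eq_inv_comp] at h5
  exact (Category.comp_id _).symm.trans h5

variable {f y i e a θ} in
/-- an equivalence `ofSp F ⥤ᵇ fp y f` gives a base change square in `Ch` -/
theorem isBC_linkHom (h𝒳 : FibCat.IsFibGrpd 𝒳.p) (h𝒴 : FibCat.IsFibGrpd 𝒴.p) [i.toFunctor.Full]
    [i.toFunctor.Faithful] (he : FibCat.IsEquivOver e) : IsBC f (linkHom f y i e a θ) := by
  intro e' k
  obtain ⟨l, hl⟩ := linkHom_exists (a := a) (θ := θ) h𝒴 he e' k
  exact ⟨l, hl, fun l' hl' => linkHom_unique (a := a) (θ := θ) h𝒳 he e' l' l (hl'.trans hl.symm)⟩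

theorem linkHom_app (o : (ofSp F).obj) : (linkHom f y i e a θ).α.toNatTrans.app o =
    (e.obj o).obj.iso.inv ≫ y.map (θ.hom.toNatTrans.app o) := rfl

end

end K741
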