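import Groth.Agent.AlgSt.K741.Conv
import Groth.Agent.AlgSt.K734.RepSp2
import Groth.Agent.AlgSp.K627.FpqcLocPInst
import Groth.Agent.S10505

/-!
# Composition and atlases
-/

set_option autoImplicit false
set_option backward.isDefEq.respectTransparency false
set_option backward.isDefEq.respectTransparency.types false

universe w₄ v₄ w'' v'' w' v' w v u

open CategoryTheory CategoryTheory.Limits AlgebraicGeometry Opposite
open AlgSt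

namespace K741

variable {S : Scheme.{u}}

theorem isLocalOnBase_fppf_of_fpqc {P : MorphismProperty (AlgSp.Sp S)}
    (h : AlgSp.IsLocalOnBase (AlgSp.IsFpqcCover (S := S)) P) : AlgSp.IsLocalOnBase AlgSp.IsFppfCover P := by
  intro ι Y Yi g hY hYi hg
  exact h Yi g hY hYi (Groth.Agent.S10505.result ⟨Y, hY⟩ (fun i => ⟨Yi i, hYi i⟩)
    (fun i => ObjectProperty.homMk (g i)) hg)

theorem isLocalOnBase_smooth : AlgSp.IsLocalOnBase AlgSp.IsFppfCover (AlgSp.LocP (S := S) @Smooth) :=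
  isLocalOnBase_fppf_of_fpqc (K627.FpqcLocPInst.smooth S)

theorem isLocalOnBase_flat : AlgSp.IsLocalOnBase AlgSp.IsFppfCover (AlgSp.LocP (S := S) @Flat) :=
  isLocalOnBase_fppf_of_fpqc (K627.FpqcLocPInst.flat S)

theorem isLocalOnBase_lfp : AlgSp.IsLocalOnBase AlgSp.IsFppfCover (AlgSp.LocP (S := S) @LocallyOfFinitePresentation) :=
  isLocalOnBase_fppf_of_fpqc (K627.FpqcLocPInst.lfp S)

theorem isLocalOnBase_lft : AlgSp.IsLocalOnBase AlgSp.IsFppfCover (AlgSp.LocP (S := S) @LocallyOfFiniteType) :=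
  isLocalOnBase_fppf_of_fpqc (K627.FpqcLocPInst.lft S)

theorem isLocalOnBase_surj : AlgSp.IsLocalOnBase AlgSp.IsFppfCover (AlgSp.IsSurjectiveMor (S := S)) := by
  intro ι Y Yi g hY hYi hg X f hX Xi p q hXi sq
  constructor
  · intro hf i
    exact surj_bc (sq i).flip hf
  · intro H y
    obtain ⟨i, yi, rfl⟩ := hg.2 y
    obtain ⟨xi, rfl⟩ := H i yi
    refine ⟨AlgSp.Points.map (q i) xi, ?_⟩
    rw [← AlgSp.Points.map_comp, (sq i).w, AlgSp.Points.map_comp]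

theorem stableBC_smooth : K734.Rep.StableBC (AlgSp.LocP (S := S) @Smooth) :=
  fun _ _ _ _ h₁ h₂ _ h₄ _ _ _ _ sq h => smooth_bc sq h₁ h₂ h₄ h

theorem stableBC_surj : K734.Rep.StableBC (AlgSp.IsSurjectiveMor (S := S)) :=
  fun _ _ _ _ _ _ _ _ _ _ _ _ sq h => surj_bc sq.flip h

theorem stableComp_smooth : K734.Rep.StableComp (AlgSp.LocP (S := S) @Smooth) :=
  fun _ _ _ h₁ h₂ h₃ _ _ ha hb => smooth_comp h₁ h₂ h₃ ha hb

theorem stableComp_surj : K734.Rep.StableComp (AlgSp.IsSurjectiveMor (S := S)) :=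
  fun _ _ _ _ _ _ _ _ ha hb => surj_comp ha hb

variable {𝒳 𝒴 𝒵 : AlgSt.Cat S}

/-- smooth surjective representable -/
structure SmSurj {𝒳 : BasedCategory.{v, w} (Over S)} {𝒴 : BasedCategory.{v', w'} (Over S)} (f : 𝒳 ⥤ᵇ 𝒴) : Prop where
  smooth : RepByAlgSpWith (AlgSp.LocP @Smooth) f
  surj : RepByAlgSpWith AlgSp.IsSurjectiveMor f

theorem smooth_comp_st (h𝒳 : FibCat.IsFibGrpd 𝒳.p) (h𝒴 : FibCat.IsFibGrpd 𝒴.p) {f : 𝒳 ⥤ᵇ 𝒴} {g : 𝒴 ⥤ᵇ 𝒵}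
    (hf : RepByAlgSpWith (AlgSp.LocP @Smooth) f) (hg : RepByAlgSpWith (AlgSp.LocP @Smooth) g) :
    RepByAlgSpWith (AlgSp.LocP @Smooth) (BasedFunctor.comp f g) :=
  K734.Rep.repByAlgSpWith_comp h𝒳 h𝒴 stableBC_smooth stableComp_smooth isLocalOnBase_smooth hf hg

theorem surj_comp_st (h𝒳 : FibCat.IsFibGrpd 𝒳.p) (h𝒴 : FibCat.IsFibGrpd 𝒴.p) {f : 𝒳 ⥤ᵇ 𝒴} {g : 𝒴 ⥤ᵇ 𝒵}
    (hf : RepByAlgSpWith AlgSp.IsSurjectiveMor f) (hg : RepByAlgSpWith AlgSp.IsSurjectiveMor g) :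
    RepByAlgSpWith AlgSp.IsSurjectiveMor (BasedFunctor.comp f g) :=
  K734.Rep.repByAlgSpWith_comp h𝒳 h𝒴 stableBC_surj stableComp_surj isLocalOnBase_surj hf hg

theorem SmSurj.comp (h𝒳 : FibCat.IsFibGrpd 𝒳.p) (h𝒴 : FibCat.IsFibGrpd 𝒴.p) {f : 𝒳 ⥤ᵇ 𝒴} {g : 𝒴 ⥤ᵇ 𝒵}
    (hf : SmSurj f) (hg : SmSurj g) : SmSurj (BasedFunctor.comp f g) :=
  ⟨smooth_comp_st h𝒳 h𝒴 hf.smooth hg.smooth, surj_comp_st h𝒳 h𝒴 hf.surj hg.surj⟩

theorem SmSurj.fpFst {f : 𝒳 ⥤ᵇ 𝒴} (hf : SmSurj f) (g : 𝒵 ⥤ᵇ 𝒴) : SmSurj (FibCat.fpFst g f) :=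
  ⟨K734.Rep.repByAlgSpWith_fpFst _ f g hf.smooth, K734.Rep.repByAlgSpWith_fpFst _ f g hf.surj⟩

theorem SmSurj.fpSnd {f : 𝒳 ⥤ᵇ 𝒴} (hf : SmSurj f) (g : 𝒵 ⥤ᵇ 𝒴) : SmSurj (FibCat.fpSnd f g) :=
  ⟨K734.Rep.repByAlgSpWith_fpSnd _ f g hf.smooth, K734.Rep.repByAlgSpWith_fpSnd _ f g hf.surj⟩

theorem SmSurj.of_iso {f g : 𝒳 ⥤ᵇ 𝒴} (e : f ≅ g) (h : SmSurj f) : SmSurj g :=
  ⟨K735.Rep.repByAlgSpWith_of_iso _ e h.smooth, K735.Rep.repByAlgSpWith_of_iso _ e h.surj⟩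

/-- restriction to an étale chart -/
theorem rp_chart (h𝒳 : FibCat.IsFibGrpd 𝒳.p) {c : Ch 𝒳} (hc : AlgSp.IsAlgSpace c.F) {U : Over S}
    {p : (AlgSp.yon S).obj U ⟶ c.F} (hp : K613.Chart.Ch p) (h : SmSurj c.x) :
    SmSurj (BasedFunctor.comp (ofSpMap p) c.x) := by
  have h1 := (repByAlgSpWith_iff_rp h𝒳 c.x).1 h.smooth
  have h2 := (repByAlgSpWith_iff_rp h𝒳 c.x).1 h.surj
  constructor
  · refine (repByAlgSpWith_iff_rp h𝒳 _).2 (Rp.precomp (P := AlgSp.LocP @Smooth) (Q := AlgSp.LocP @Smooth)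
      (Ch.spFib h𝒳) h1 (c.resHom p) ?_ ?_)
    · intro E G a g q hE sq
      exact ⟨isAlgSpace_bc (AlgSp.IsAlgSpace.yon_obj U) hE hc sq,
        smooth_of_etale (MorphismProperty.of_isPullback sq hp.et)⟩
    · intro E F G a b hE hF hG ha hb
      exact smooth_comp hE hF hG ha hb
  · refine (repByAlgSpWith_iff_rp h𝒳 _).2 (Rp.precomp (P := AlgSp.IsSurjectiveMor) (Q := AlgSp.IsSurjectiveMor)
      (Ch.spFib h𝒳) h2 (c.resHom p) ?_ ?_)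
    · intro E G a g q hE sq
      exact ⟨isAlgSpace_bc (AlgSp.IsAlgSpace.yon_obj U) hE hc sq,
        surj_of_repWith (MorphismProperty.of_isPullback sq hp.surj)⟩
    · intro E F G a b hE hF hG ha hb
      exact surj_comp ha hb

/-- the source of a representable morphism to a stack with an atlas has an atlas -/
theorem exists_atlas_of_rep {𝒲 : AlgSt.Cat S} (h𝒲 : FibCat.IsFibGrpd 𝒲.p) {g : 𝒲 ⥤ᵇ 𝒳}
    (hg : RepByAlgSp1 g) {U₀ : Over S} {x₀ : FibCat.overCat U₀ ⥤ᵇ 𝒳} (hx : SmSurj x₀) :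
    ∃ (U : Over S) (w : FibCat.overCat U ⥤ᵇ 𝒲), SmSurj w := by
  obtain ⟨G, e, he⟩ := hg U₀ x₀
  have h1 : SmSurj (BasedFunctor.comp e (FibCat.fpSnd x₀ g)) := by
    have h2 := hx.fpSnd g
    exact ⟨K735.Rep.repByAlgSpWith_of_sq _ (FibCat.fpSnd x₀ g) (BasedFunctor.comp e (FibCat.fpSnd x₀ g)) e
      (BasedFunctor.id _) he K735.Fib.isEquivOver_id (Iso.refl _) h2.smooth,
      K735.Rep.repByAlgSpWith_of_sq _ (FibCat.fpSnd x₀ g) (BasedFunctor.comp e (FibCat.fpSnd x₀ g)) e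
      (BasedFunctor.id _) he K735.Fib.isEquivOver_id (Iso.refl _) h2.surj⟩
  obtain ⟨U, p, hp⟩ := K613.Chart.exists_ch G.property
  have h2 := rp_chart h𝒲 (c := ⟨G.obj, BasedFunctor.comp e (FibCat.fpSnd x₀ g)⟩) G.property hp h1
  exact ⟨U, _, (repByAlgSpWith_ofOverCat _ _).1 h2.smooth, (repByAlgSpWith_ofOverCat _ _).1 h2.surj⟩

end K741
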