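import Groth.Agent.AlgSt.K741.RepQ

/-!
# Pasting: sheaves over `(𝒵 ×_𝒴 𝒳) ×_𝒵 G` versus sheaves over `𝒳 ×_𝒴 G`
-/

set_option autoImplicit false
set_option backward.isDefEq.respectTransparency false
set_option backward.isDefEq.respectTransparency.types false

universe w₄ v₄ w'' v'' w' v' w v u

open CategoryTheory CategoryTheory.Limits AlgebraicGeometry Opposite
open AlgSt

namespace K741

variable {S : Scheme.{u}} {𝒳 : BasedCategory.{v, w} (Over S)} {𝒴 : BasedCategory.{v', w'} (Over S)}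
  {𝒵 : BasedCategory.{v'', w''} (Over S)}

/-- the sheaf over `𝒵 ×_𝒴 𝒳` attached to a sheaf `c` over `𝒳`, a sheaf `e` over `𝒵` and a morphism `f c ⟶ z e` -/
noncomputable def pObj (h𝒴 : FibCat.IsFibGrpd 𝒴.p) (f : 𝒳 ⥤ᵇ 𝒴) (z : 𝒵 ⥤ᵇ 𝒴) (e : Ch 𝒵)
    (A : Cm f ((Ch.push z).obj e)) : Ch (FibCat.fp z f) :=
  ⟨A.left.F, have := isIso_two_cell h𝒴 A.hom.α
    FibCat.fpLift (BasedFunctor.comp (ofSpMap A.hom.a) e.x) A.left.x (asIso A.hom.α).symm⟩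

/-- its image in `Ch 𝒵` maps to `e` -/
noncomputable def pHom (h𝒴 : FibCat.IsFibGrpd 𝒴.p) (f : 𝒳 ⥤ᵇ 𝒴) (z : 𝒵 ⥤ᵇ 𝒴) (e : Ch 𝒵)
    (A : Cm f ((Ch.push z).obj e)) : (Ch.push (FibCat.fpFst z f)).obj (pObj h𝒴 f z e A) ⟶ e :=
  (⟨A.hom.a, 𝟙 (BasedFunctor.comp (ofSpMap A.hom.a) e.x)⟩ :
    Ch.Hom ((Ch.push (FibCat.fpFst z f)).obj (pObj h𝒴 f z e A)) e)

@[simp] theorem pHom_a (h𝒴 : FibCat.IsFibGrpd 𝒴.p) (f : 𝒳 ⥤ᵇ 𝒴) (z : 𝒵 ⥤ᵇ 𝒴) (e : Ch 𝒵)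
    (A : Cm f ((Ch.push z).obj e)) : (pHom h𝒴 f z e A).a = A.hom.a := rfl

/-- the comparison functor -/
noncomputable def pR (f : 𝒳 ⥤ᵇ 𝒴) (z : 𝒵 ⥤ᵇ 𝒴) (e : Ch 𝒵) :
    FibCat.fp f (BasedFunctor.comp e.x z) ⥤ᵇ FibCat.fp (FibCat.fpFst z f) e.x :=
  BasedFunctor.comp (BasedFunctor.comp (K734.Fib.fpSwap f (BasedFunctor.comp e.x z)) (K734.Fib.fpPaste e.x z f))
    (K734.Fib.fpSwap e.x (FibCat.fpFst z f))

theorem isEquivOver_pR (f : 𝒳 ⥤ᵇ 𝒴) (z : 𝒵 ⥤ᵇ 𝒴) (e : Ch 𝒵) : FibCat.IsEquivOver (pR f z e) :=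
  K734.Fib.isEquivOver_comp (K734.Fib.isEquivOver_comp (K734.Fib.isEquivOver_fpSwap _ _)
    (K734.Fib.isEquivOver_fpPaste _ _ _)) (K734.Fib.isEquivOver_fpSwap _ _)

theorem nonempty_pIso (h𝒳 : FibCat.IsFibGrpd 𝒳.p) (h𝒴 : FibCat.IsFibGrpd 𝒴.p) (h𝒵 : FibCat.IsFibGrpd 𝒵.p)
    (f : 𝒳 ⥤ᵇ 𝒴) (z : 𝒵 ⥤ᵇ 𝒴) (e : Ch 𝒵) (A : Cm f ((Ch.push z).obj e)) :
    Nonempty (BasedFunctor.comp (Cm.lift h𝒴 f ((Ch.push z).obj e) A) (pR f z e) ≅
      Cm.lift h𝒵 (FibCat.fpFst z f) e (CostructuredArrow.mk (pHom h𝒴 f z e A))) := by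
  have := isIso_two_cell h𝒴 A.hom.α
  refine nonempty_iso_fp (K735.Fp.isFibGrpd_fp h𝒵 h𝒳 h𝒴 z f) h𝒵 (K735.Rep.isFibGrpd_ofSp e.F)
    (cellFp (𝟙 (BasedFunctor.comp (ofSpMap A.hom.a) e.x)) (𝟙 A.left.x) fun o => ?_)
    (𝟙 (ofSpMap A.hom.a)) fun o => ?_
  · change z.map (𝟙 _) ≫ (asIso A.hom.α).inv.toNatTrans.app o = (asIso A.hom.α).inv.toNatTrans.app o ≫ f.map (𝟙 _)
    erw [z.toFunctor.map_id, f.toFunctor.map_id, Category.id_comp, Category.comp_id]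
  · change 𝟙 _ ≫ 𝟙 _ = 𝟙 _ ≫ e.x.map (𝟙 _)
    erw [e.x.toFunctor.map_id, Category.comp_id]

theorem repByAlgSpWith_lift_iff (h𝒳 : FibCat.IsFibGrpd 𝒳.p) (h𝒴 : FibCat.IsFibGrpd 𝒴.p) (h𝒵 : FibCat.IsFibGrpd 𝒵.p)
    (P : MorphismProperty (AlgSp.Sp S)) (f : 𝒳 ⥤ᵇ 𝒴) (z : 𝒵 ⥤ᵇ 𝒴) (e : Ch 𝒵) (A : Cm f ((Ch.push z).obj e)) :
    RepByAlgSpWith P (Cm.lift h𝒵 (FibCat.fpFst z f) e (CostructuredArrow.mk (pHom h𝒴 f z e A))) ↔
      RepByAlgSpWith P (Cm.lift h𝒴 f ((Ch.push z).obj e) A) := by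
  obtain ⟨i⟩ := nonempty_pIso h𝒳 h𝒴 h𝒵 f z e A
  exact K735.Rep.repByAlgSpWith_iff_of_sq P _ _ (BasedFunctor.id _) (pR f z e) K735.Fib.isEquivOver_id
    (isEquivOver_pR f z e) i

/-- base change of an object of a comma category -/
theorem Cm.exists_base (h𝒴 : FibCat.IsFibGrpd 𝒴.p) {f : 𝒳 ⥤ᵇ 𝒴} {d d' : Ch 𝒴} (m : d' ⟶ d) (A : Cm f d)
    {E : AlgSp.Sp S} {q : E ⟶ A.left.F} {p : E ⟶ d'.F} (sq : IsPullback q p A.hom.a m.a) :
    ∃ h' : (Ch.push f).obj (A.left.res q) ⟶ d', h'.a = p ∧ h' ≫ m = (Ch.push f).map (A.left.resHom q) ≫ A.hom :=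
  Ch.exists_lift h𝒴 m ((Ch.push f).map (A.left.resHom q) ≫ A.hom) p sq.w.symm

/-- base change keeps representability -/
theorem Cm.rpA_base (h𝒳 : FibCat.IsFibGrpd 𝒳.p) (h𝒴 : FibCat.IsFibGrpd 𝒴.p) {f : 𝒳 ⥤ᵇ 𝒴} {d d' : Ch 𝒴} (m : d' ⟶ d)
    {A : Cm f d} {P : MorphismProperty (AlgSp.Sp S)}
    (hA : RpA (Cm.Φ f d) P A) {E : AlgSp.Sp S} {q : E ⟶ A.left.F} {p : E ⟶ d'.F} (sq : IsPullback q p A.hom.a m.a)
    {h' : (Ch.push f).obj (A.left.res q) ⟶ d'} (hp : h'.a = p)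
    (hw : h' ≫ m = (Ch.push f).map (A.left.resHom q) ≫ A.hom) :
    RpA (Cm.Φ f d') P (CostructuredArrow.mk h') := by
  intro t ht
  let t₀ : Cm f d := CostructuredArrow.mk (t.hom ≫ m)
  obtain ⟨e, l₁, l₂, he, hea, hP⟩ := hA t₀ ht
  have w₁ : (Ch.push f).map l₁.left ≫ t.hom ≫ m = e.hom := CostructuredArrow.w l₁
  have w₂ : (Ch.push f).map l₂.left ≫ A.hom = e.hom := CostructuredArrow.w l₂
  let e' : Cm f d' := CostructuredArrow.mk ((Ch.push f).map l₁.left ≫ t.hom)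
  let l₁' : e' ⟶ t := CostructuredArrow.homMk l₁.left rfl
  have hwa : l₂.left.a ≫ A.hom.a = (l₁.left.a ≫ t.hom.a) ≫ m.a := by
    have h1 := congrArg Ch.Hom.a (w₂.trans w₁.symm)
    change l₂.left.a ≫ A.hom.a = l₁.left.a ≫ t.hom.a ≫ m.a at h1
    rw [h1, Category.assoc]
  obtain ⟨r, hr, hr'⟩ := Ch.exists_lift h𝒳 (A.left.resHom q) l₂.left (sq.lift l₂.left.a (l₁.left.a ≫ t.hom.a) hwa)
    (sq.lift_fst _ _ _)
  let l₂' : e' ⟶ CostructuredArrow.mk h' := CostructuredArrow.homMk r (by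
    change (Ch.push f).map r ≫ h' = (Ch.push f).map l₁.left ≫ t.hom
    refine Ch.lift_unique h𝒴 m ?_ ?_
    · change r.a ≫ h'.a = l₁.left.a ≫ t.hom.a
      rw [hr, hp, sq.lift_snd]
    · rw [Category.assoc, hw, ← Category.assoc, ← Functor.map_comp, hr', w₂, Category.assoc, w₁])
  refine ⟨e', l₁', l₂', fun s m₁ m₂ => ?_, hea, hP⟩
  have v₁ : (Ch.push f).map m₁.left ≫ t.hom = s.hom := CostructuredArrow.w m₁
  have v₂ : (Ch.push f).map m₂.left ≫ h' = s.hom := CostructuredArrow.w m₂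
  let s₀ : Cm f d := CostructuredArrow.mk (s.hom ≫ m)
  let n₁ : s₀ ⟶ t₀ := CostructuredArrow.homMk m₁.left (by
    change (Ch.push f).map m₁.left ≫ t.hom ≫ m = s.hom ≫ m
    rw [← Category.assoc, v₁])
  let n₂ : s₀ ⟶ A := CostructuredArrow.homMk (m₂.left ≫ A.left.resHom q) (by
    change (Ch.push f).map (m₂.left ≫ A.left.resHom q) ≫ A.hom = s.hom ≫ m
    rw [Functor.map_comp, Category.assoc, ← hw, ← Category.assoc, v₂])
  obtain ⟨l, ⟨hl1, hl2⟩, hl3⟩ := he s₀ n₁ n₂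
  have hl1' : l.left ≫ l₁.left = m₁.left := congrArg CommaMorphism.left hl1
  have hl2' : l.left ≫ l₂.left = m₂.left ≫ A.left.resHom q := congrArg CommaMorphism.left hl2
  refine ⟨CostructuredArrow.homMk l.left ?_, ⟨?_, ?_⟩, fun l' hl' => ?_⟩
  · change (Ch.push f).map l.left ≫ (Ch.push f).map l₁.left ≫ t.hom = s.hom
    rw [← Category.assoc, ← Functor.map_comp, hl1', v₁]
  · apply CostructuredArrow.hom_ext
    exact hl1'
  · apply CostructuredArrow.hom_ext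
    change l.left ≫ r = m₂.left
    refine Ch.lift_unique h𝒳 (A.left.resHom q) ?_ ?_
    · apply sq.hom_ext
      · have h1 := congrArg Ch.Hom.a hl2'
        change l.left.a ≫ l₂.left.a = m₂.left.a ≫ q at h1
        change (l.left.a ≫ r.a) ≫ q = m₂.left.a ≫ q
        rw [Category.assoc, hr, sq.lift_fst, h1]
      · have h1 := congrArg Ch.Hom.a v₁
        have h2 := congrArg Ch.Hom.a v₂
        have h3 := congrArg Ch.Hom.a hl1'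
        change m₁.left.a ≫ t.hom.a = s.hom.a at h1
        change m₂.left.a ≫ h'.a = s.hom.a at h2
        change l.left.a ≫ l₁.left.a = m₁.left.a at h3
        change (l.left.a ≫ r.a) ≫ p = m₂.left.a ≫ p
        rw [Category.assoc, hr, sq.lift_snd, ← Category.assoc, h3, h1, ← hp, h2]
    · rw [Category.assoc, hr', hl2']
  · obtain ⟨h1, h2⟩ := hl'
    have h1' : l'.left ≫ l₁.left = m₁.left := congrArg CommaMorphism.left h1
    have h2' : l'.left ≫ r = m₂.left := congrArg CommaMorphism.left h2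
    have w' : (Ch.push f).map l'.left ≫ (Ch.push f).map l₁.left ≫ t.hom = s.hom := CostructuredArrow.w l'
    let l'' : s₀ ⟶ e := CostructuredArrow.homMk l'.left (by
      change (Ch.push f).map l'.left ≫ e.hom = s.hom ≫ m
      rw [← w₁, ← w']
      simp only [Category.assoc])
    have h3 : l'' = l := hl3 l'' ⟨by
      apply CostructuredArrow.hom_ext
      exact h1', by
      apply CostructuredArrow.hom_ext
      change l'.left ≫ l₂.left = m₂.left ≫ A.left.resHom q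
      rw [← hr', ← Category.assoc, h2']⟩
    apply CostructuredArrow.hom_ext
    have h4 : l'.left = l.left := congrArg (fun m : s₀ ⟶ e => m.left) h3
    exact h4

end K741
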