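import Groth.Agent.AlgSt.K741.RpA

/-!
# `LocQ` versus `RepByAlgSpWith` for representable morphisms
-/

set_option autoImplicit false
set_option backward.isDefEq.respectTransparency false
set_option backward.isDefEq.respectTransparency.types false

universe w₄ v₄ w'' v'' w' v' w v u

open CategoryTheory CategoryTheory.Limits AlgebraicGeometry Opposite
open AlgSt

namespace K741

variable {S : Scheme.{u}}

section

variable {𝒳 : BasedCategory.{v, w} (Over S)} {𝒴 : BasedCategory.{v', w'} (Over S)} {f : 𝒳 ⥤ᵇ 𝒴}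

/-- `lemmaA` with the data of `LocQ` -/
theorem prop_of_locQ_ch {P : MorphismProperty (AlgSp.Sp S)} (hP : AlgSp.IsSmoothLocalST P) (h𝒳 : FibCat.IsFibGrpd 𝒳.p)
    (h𝒴 : FibCat.IsFibGrpd 𝒴.p) (hf : LocQ P f) {c : Ch 𝒳} {d : Ch 𝒴} (h : (Ch.push f).obj c ⟶ d) (hc : IsSch c.F)
    (hd : IsSch d.F) (hy : Rp (Ch.forget 𝒴) (AlgSp.LocP @Smooth) d)
    (hk : Rp (Cm.Φ f d) (AlgSp.LocP @Smooth) (CostructuredArrow.mk h)) : P h.a := by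
  obtain ⟨U₀, V₀, x₀, y₀, h₀, α₀, hx₀, hx₀', hy₀, hP₀⟩ := hf
  exact lemmaA hP h𝒳 h𝒴 f (sqHom f x₀ y₀ h₀ α₀) (isSch_ofChart _) (isSch_ofChart _)
    ((rp_ofChart_iff h𝒳 _ _).1 hx₀) ((rp_ofChart_iff h𝒳 _ _).1 hx₀') ((rp_ofChart_iff h𝒴 _ _).1 hy₀) hP₀ h hc hd hy hk

/-- the object of the comma category of a base change square is terminal -/
theorem IsBC.isTerminal {c : Ch 𝒳} {d : Ch 𝒴} {h : (Ch.push f).obj c ⟶ d} (hh : IsBC f h) (t : Cm f d) :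
    ∃! _m : t ⟶ CostructuredArrow.mk h, True := by
  obtain ⟨l, hl, hl'⟩ := hh t.left t.hom
  refine ⟨CostructuredArrow.homMk l hl, trivial, fun m _ => ?_⟩
  apply CostructuredArrow.hom_ext
  exact hl' m.left (CostructuredArrow.w m)

/-- a chart of the total space of a base change square is smooth over the comma category -/
theorem IsBC.rp_chart (h𝒳 : FibCat.IsFibGrpd 𝒳.p) {c : Ch 𝒳} {d : Ch 𝒴} {h : (Ch.push f).obj c ⟶ d} (hh : IsBC f h)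
    (hc : AlgSp.IsAlgSpace c.F) {G : AlgSp.Sp S} (hG : AlgSp.IsAlgSpace G) {p : G ⟶ c.F} (hp : AlgSp.LocP @Smooth p) :
    RpA (Cm.Φ f d) (AlgSp.LocP @Smooth) (CostructuredArrow.mk ((Ch.push f).map (c.resHom p) ≫ h)) := by
  have h0 : RpA (Cm.Φ f d) (AlgSp.LocP @Smooth) (CostructuredArrow.mk h) :=
    rpA_of_isTerminal (fun F _ => smooth_of_isIso (𝟙 F)) hh.isTerminal
  let n : (CostructuredArrow.mk ((Ch.push f).map (c.resHom p) ≫ h) : Cm f d) ⟶ CostructuredArrow.mk h :=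
    CostructuredArrow.homMk (c.resHom p) rfl
  refine RpA.precomp (P := AlgSp.LocP @Smooth) (Q := AlgSp.LocP @Smooth) (Cm.spFib h𝒳 f d) h0 n ?_ ?_
  · intro E G' a g q hE sq
    exact ⟨isAlgSpace_bc hG hE hc sq, smooth_bc sq hG hc hE hp⟩
  · intro E F G a b hE hF hG ha hb
    exact smooth_comp hE hF hG ha hb

/-- base change of a morphism with `LocQ P` to a smooth chart -/
theorem prop_of_isBC_smooth {P : MorphismProperty (AlgSp.Sp S)} (hP : AlgSp.IsSmoothLocalST P)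
    (h𝒳 : FibCat.IsFibGrpd 𝒳.p) (h𝒴 : FibCat.IsFibGrpd 𝒴.p) (hf : LocQ P f) {c : Ch 𝒳} {d : Ch 𝒴}
    {h : (Ch.push f).obj c ⟶ d} (hh : IsBC f h) (hc : AlgSp.IsAlgSpace c.F) (hd : IsSch d.F)
    (hy : Rp (Ch.forget 𝒴) (AlgSp.LocP @Smooth) d) : P h.a := by
  obtain ⟨U, p, hp⟩ := K613.Chart.exists_ch hc
  have h1 : P (p ≫ h.a) := prop_of_locQ_ch hP h𝒳 h𝒴 hf ((Ch.push f).map (c.resHom p) ≫ h) (isSch_yon U) hd hy
    (hh.rp_chart h𝒳 hc (AlgSp.IsAlgSpace.yon_obj U) (smooth_of_etale hp.et)).rp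
  refine (hP.locality hc hd.isAlgSpace h.a).2 fun x => ?_
  obtain ⟨v, hv⟩ := surj_of_repWith hp.surj x
  exact ⟨_, _, p, 𝟙 _, p ≫ h.a, v, AlgSp.IsAlgSpace.yon_obj U, hd.isAlgSpace, smooth_of_etale hp.et,
    smooth_of_isIso _, (Category.comp_id _).symm, hv, h1⟩

end

section Cat

variable {𝒳 𝒴 : AlgSt.Cat S} {f : 𝒳 ⥤ᵇ 𝒴}

theorem isFppfCover_single {E G : AlgSp.Sp S} {p : E ⟶ G} (h1 : AlgSp.LocP @Flat p)
    (h2 : AlgSp.LocP @LocallyOfFinitePresentation p) (h3 : AlgSp.IsSurjectiveMor p) :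
    AlgSp.IsFppfCover (fun _ : PUnit.{u + 1} => E) (fun _ => p) :=
  ⟨fun _ => ⟨h1, h2⟩, fun x => ⟨PUnit.unit, h3 x⟩⟩

/-- fppf descent of a property from a base change square -/
theorem prop_of_isBC_cover {P : MorphismProperty (AlgSp.Sp S)} (hPl : AlgSp.IsLocalOnBase AlgSp.IsFppfCover P)
    (h𝒳 : FibCat.IsFibGrpd 𝒳.p) (h𝒴 : FibCat.IsFibGrpd 𝒴.p) {c c' : Ch 𝒳} {d d' : Ch 𝒴} {h : (Ch.push f).obj c ⟶ d}
    (hh : IsBC f h) {h' : (Ch.push f).obj c' ⟶ d'} (hh' : IsBC f h') (hc : AlgSp.IsAlgSpace c.F)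
    (hd : AlgSp.IsAlgSpace d.F) (hc' : AlgSp.IsAlgSpace c'.F) (hd' : AlgSp.IsAlgSpace d'.F) (m : d' ⟶ d)
    (h1 : AlgSp.LocP @Flat m.a) (h2 : AlgSp.LocP @LocallyOfFinitePresentation m.a) (h3 : AlgSp.IsSurjectiveMor m.a)
    (hP : P h'.a) : P h.a := by
  obtain ⟨k, hk, -⟩ := hh c' (h' ≫ m)
  have hk' : h' ≫ m = (Ch.push f).map k ≫ h := hk.symm
  exact (hPl (fun _ : PUnit.{u + 1} => d'.F) (fun _ => m.a) hd (fun _ => hd') (isFppfCover_single h1 h2 h3) h.a hc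
    (fun _ => c'.F) (fun _ => h'.a) (fun _ => k.a) (fun _ => hc') (fun _ => hh.isPullback h𝒳 h𝒴 hh' hk')).2 fun _ => hP

theorem prop_of_isBC_base {P : MorphismProperty (AlgSp.Sp S)} (hPb : K734.Rep.StableBC P)
    (h𝒳 : FibCat.IsFibGrpd 𝒳.p) (h𝒴 : FibCat.IsFibGrpd 𝒴.p) {c c' : Ch 𝒳} {d d' : Ch 𝒴} {h : (Ch.push f).obj c ⟶ d}
    (hh : IsBC f h) {h' : (Ch.push f).obj c' ⟶ d'} (hh' : IsBC f h') (hc : AlgSp.IsAlgSpace c.F)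
    (hd : AlgSp.IsAlgSpace d.F) (hc' : AlgSp.IsAlgSpace c'.F) (hd' : AlgSp.IsAlgSpace d'.F) (m : d' ⟶ d)
    (hP : P h.a) : P h'.a := by
  obtain ⟨k, hk, -⟩ := hh c' (h' ≫ m)
  have hk' : h' ≫ m = (Ch.push f).map k ≫ h := hk.symm
  exact hPb hc hd hc' hd' _ _ _ _ (hh.isPullback h𝒳 h𝒴 hh' hk') hP

theorem repByAlgSpWith_of_locQ {P : MorphismProperty (AlgSp.Sp S)} (hP : AlgSp.IsSmoothLocalST P)
    (hPb : K734.Rep.StableBC P) (hPl : AlgSp.IsLocalOnBase AlgSp.IsFppfCover P) (h𝒳 : FibCat.IsFibGrpd 𝒳.p)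
    (h𝒴 : FibCat.IsFibGrpd 𝒴.p) (hat : HasAtlas (AlgSp.LocP @Smooth) 𝒴) (hf : RepByAlgSp1 f) (h : LocQ P f) :
    RepByAlgSpWith P f := by
  obtain ⟨V, y, hy, hy'⟩ := hat
  refine repByAlgSpWith_of_isBC h𝒳 h𝒴 fun U t => ?_
  have hyr := (rp_ofChart_iff h𝒴 _ _).1 hy
  have hyr' := (rp_ofChart_iff h𝒴 _ _).1 hy'
  obtain ⟨E, l₁, l₂, hE, hEa, hEs⟩ := hyr ⟨(AlgSp.yon S).obj U, t⟩ (isSch_yon U)
  have hEsurj := (hyr'.prop hE (isSch_yon U)).2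
  obtain ⟨c, ht, hca, hbc, -⟩ := exists_isBC_sp h𝒳 h𝒴 hf (d := ⟨(AlgSp.yon S).obj U, t⟩) (AlgSp.IsAlgSpace.yon_obj U)
  obtain ⟨cd, hd, hda, hdbc, -⟩ := exists_isBC_sp h𝒳 h𝒴 hf (d := ofChart y) (AlgSp.IsAlgSpace.yon_obj V)
  obtain ⟨cE, hE', hE'a, hE'bc, -⟩ := exists_isBC_sp h𝒳 h𝒴 hf (d := E) hEa
  have h1 : P hd.a := prop_of_isBC_smooth hP h𝒳 h𝒴 h hdbc hda (isSch_yon V) hyr
  have h2 : P hE'.a := prop_of_isBC_base hPb h𝒳 h𝒴 hdbc hE'bc hda (AlgSp.IsAlgSpace.yon_obj V) hE'a hEa l₂ h1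
  refine ⟨c, ht, hca, hbc, prop_of_isBC_cover hPl h𝒳 h𝒴 hbc hE'bc hca (AlgSp.IsAlgSpace.yon_obj U) hE'a hEa l₁
    (flat_of_smooth hEs) (lfp_of_smooth hEs) hEsurj h2⟩

theorem SmSurj.comp_equiv {𝒲 : AlgSt.Cat S} {f : 𝒳 ⥤ᵇ 𝒴} (h : SmSurj f) {e : 𝒲 ⥤ᵇ 𝒳} (he : FibCat.IsEquivOver e) :
    SmSurj (BasedFunctor.comp e f) :=
  ⟨K735.Rep.repByAlgSpWith_of_sq _ f (BasedFunctor.comp e f) e (BasedFunctor.id _) he K735.Fib.isEquivOver_id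
    (Iso.refl _) h.smooth, K735.Rep.repByAlgSpWith_of_sq _ f (BasedFunctor.comp e f) e (BasedFunctor.id _) he
    K735.Fib.isEquivOver_id (Iso.refl _) h.surj⟩

theorem locQ_of_repByAlgSpWith {P : MorphismProperty (AlgSp.Sp S)} (hP : AlgSp.IsSmoothLocalST P)
    (h𝒳 : FibCat.IsFibGrpd 𝒳.p) (h𝒴 : FibCat.IsFibGrpd 𝒴.p) (hat : HasAtlas (AlgSp.LocP @Smooth) 𝒴)
    (h : RepByAlgSpWith P f) : LocQ P f := by
  obtain ⟨V, y, hy, hy'⟩ := hat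
  obtain ⟨F, e, he, hPF⟩ := h V y
  obtain ⟨θ⟩ := K735.Rep.exists_iso_spMapOfOver (BasedFunctor.comp e (FibCat.fpFst y f))
  have hys : SmSurj y := ⟨hy, hy'⟩
  exact locQ_of_sp hP h𝒳 h𝒴 (linkHom f y (toOverCat V) e _ θ) F.property (AlgSp.IsAlgSpace.yon_obj V)
    ((hys.fpSnd f).comp_equiv he) ((repByAlgSpWith_toOverCat _ _).1 hy) hPF

theorem locQ_iff_repByAlgSpWith {P : MorphismProperty (AlgSp.Sp S)} (hP : AlgSp.IsSmoothLocalST P)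
    (hPb : K734.Rep.StableBC P) (hPl : AlgSp.IsLocalOnBase AlgSp.IsFppfCover P) (h𝒳 : FibCat.IsFibGrpd 𝒳.p)
    (h𝒴 : FibCat.IsFibGrpd 𝒴.p) (hat : HasAtlas (AlgSp.LocP @Smooth) 𝒴) (hf : RepByAlgSp1 f) :
    LocQ P f ↔ RepByAlgSpWith P f :=
  ⟨repByAlgSpWith_of_locQ hP hPb hPl h𝒳 h𝒴 hat hf, locQ_of_repByAlgSpWith hP h𝒳 h𝒴 hat⟩

end Cat

end K741
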