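import Groth.Agent.AlgSt.K741.OfSp

/-!
# Representability tested on algebraic spaces
-/

set_option autoImplicit false
set_option backward.isDefEq.respectTransparency false
set_option backward.isDefEq.respectTransparency.types false

universe w₄ v₄ w'' v'' w' v' w v u

open CategoryTheory CategoryTheory.Limits AlgebraicGeometry Opposite
open AlgSt

namespace K741

variable {S : Scheme.{u}}

section

variable {𝒞 : Type w} [Category.{v} 𝒞] {Φ : 𝒞 ⥤ AlgSp.Sp S}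

/-- `c` is representable with property `P`, tested on algebraic spaces -/
def RpA (Φ : 𝒞 ⥤ AlgSp.Sp S) (P : MorphismProperty (AlgSp.Sp S)) (c : 𝒞) : Prop :=
  ∀ t : 𝒞, AlgSp.IsAlgSpace (Φ.obj t) →
    ∃ (e : 𝒞) (l₁ : e ⟶ t) (l₂ : e ⟶ c), IsPr l₁ l₂ ∧ AlgSp.IsAlgSpace (Φ.obj e) ∧ P (Φ.map l₁)

theorem RpA.rp {P : MorphismProperty (AlgSp.Sp S)} {c : 𝒞} (h : RpA Φ P c) : Rp Φ P c := fun t ht => h t ht.isAlgSpace

theorem RpA.mono {P Q : MorphismProperty (AlgSp.Sp S)} (hPQ : P ≤ Q) {c : 𝒞} (h : RpA Φ P c) : RpA Φ Q c := fun t ht => by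
  obtain ⟨e, l₁, l₂, h1, h2, h3⟩ := h t ht
  exact ⟨e, l₁, l₂, h1, h2, hPQ _ h3⟩

theorem RpA.prop {P : MorphismProperty (AlgSp.Sp S)} [P.RespectsIso] {c : 𝒞} (h : RpA Φ P c) {t e : 𝒞} {l₁ : e ⟶ t}
    {l₂ : e ⟶ c} (hp : IsPr l₁ l₂) (ht : AlgSp.IsAlgSpace (Φ.obj t)) : AlgSp.IsAlgSpace (Φ.obj e) ∧ P (Φ.map l₁) := by
  obtain ⟨e', l₁', l₂', h1, h2, h3⟩ := h t ht
  obtain ⟨i, hi1, hi2⟩ := hp.exists_iso h1
  refine ⟨h2.of_iso (Φ.mapIso i).symm, ?_⟩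
  rw [← hi1, Φ.map_comp]
  exact (MorphismProperty.cancel_left_of_respectsIso P (Φ.map i.hom) _).2 h3

theorem RpA.of_iso {P : MorphismProperty (AlgSp.Sp S)} {c c' : 𝒞} (h : RpA Φ P c) (i : c ≅ c') : RpA Φ P c' :=
  fun t ht => by
  obtain ⟨e, l₁, l₂, h1, h2, h3⟩ := h t ht
  exact ⟨e, l₁, l₂ ≫ i.hom, h1.of_iso (Iso.refl _) (Iso.refl _) i (by simp) (by simp), h2, h3⟩

/-- a terminal object is representable -/
theorem rpA_of_isTerminal {P : MorphismProperty (AlgSp.Sp S)} (hP : ∀ F : AlgSp.Sp S, AlgSp.IsAlgSpace F → P (𝟙 F))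
    {c : 𝒞} (hc : ∀ t : 𝒞, ∃! _m : t ⟶ c, True) : RpA Φ P c := fun t ht => by
  obtain ⟨m, -, hm⟩ := hc t
  refine ⟨t, 𝟙 t, m, fun s m₁ m₂ => ⟨m₁, ⟨Category.comp_id _, ?_⟩, fun l hl => ?_⟩, ht, ?_⟩
  · obtain ⟨m', -, hm'⟩ := hc s
    exact (hm' _ trivial).trans (hm' _ trivial).symm
  · rw [← hl.1, Category.comp_id]
  · rw [Φ.map_id]
    exact hP _ ht

/-- composition of a representable object with a map of sheaves -/
theorem RpA.precomp (hΦ : SpFib Φ) {P Q R : MorphismProperty (AlgSp.Sp S)} {c c' : 𝒞} (h : RpA Φ P c) (n : c' ⟶ c)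
    (hn : ∀ ⦃E G : AlgSp.Sp S⦄ (a : E ⟶ Φ.obj c) (g : G ⟶ Φ.obj c') (q : G ⟶ E), AlgSp.IsAlgSpace E →
      IsPullback g q (Φ.map n) a → AlgSp.IsAlgSpace G ∧ Q q)
    (hR : ∀ ⦃E F G : AlgSp.Sp S⦄ (a : E ⟶ F) (b : F ⟶ G), AlgSp.IsAlgSpace E → AlgSp.IsAlgSpace F →
      AlgSp.IsAlgSpace G → Q a → P b → R (a ≫ b)) : RpA Φ R c' := by
  intro t ht
  obtain ⟨e, l₁, l₂, h1, h2, h3⟩ := h t ht
  obtain ⟨e', i, l₁', k, g1, g2, g3, g4⟩ := h1.symm.exists_base hΦ n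
    (IsPullback.of_hasPullback (Φ.map l₂) (Φ.map n))
  have hpb := h1.symm.isPullback hΦ g1 g4
  obtain ⟨hG, hQ⟩ := hn _ _ _ h2 hpb.flip
  refine ⟨e', k ≫ l₁, l₁', g4.symm, hG, ?_⟩
  rw [Φ.map_comp]
  exact hR _ _ hG h2 ht hQ h3

theorem RpA.map {𝒟 : Type w'} [Category.{v'} 𝒟] {Ψ : 𝒟 ⥤ AlgSp.Sp S} {P : MorphismProperty (AlgSp.Sp S)} [P.RespectsIso]
    (K : 𝒞 ⥤ 𝒟) [K.Full] [K.Faithful] [K.EssSurj] (i : K ⋙ Ψ ≅ Φ) {c : 𝒞} (h : RpA Φ P c) : RpA Ψ P (K.obj c) := by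
  intro t ht
  let j := K.objObjPreimageIso t
  obtain ⟨e, l₁, l₂, h1, h2, h3⟩ := h (K.objPreimage t)
    (ht.of_iso (Ψ.mapIso j.symm ≪≫ i.app (K.objPreimage t)))
  refine ⟨K.obj e, K.map l₁ ≫ j.hom, K.map l₂, (h1.map K).of_iso (Iso.refl _) j (Iso.refl _) (by simp) (by simp),
    h2.of_iso (i.app e).symm, ?_⟩
  rw [Ψ.map_comp]
  refine (MorphismProperty.cancel_right_of_respectsIso P _ (Ψ.map j.hom)).2 ?_
  have h4 : Ψ.map (K.map l₁) = i.hom.app e ≫ Φ.map l₁ ≫ i.inv.app _ := by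
    have := i.hom.naturality l₁
    rw [← Category.assoc, ← this]
    simp
  rw [h4]
  exact (MorphismProperty.cancel_left_of_respectsIso P _ _).2 ((MorphismProperty.cancel_right_of_respectsIso P _ _).2 h3)

theorem RpA.of_map {𝒟 : Type w'} [Category.{v'} 𝒟] {Ψ : 𝒟 ⥤ AlgSp.Sp S} {P : MorphismProperty (AlgSp.Sp S)} [P.RespectsIso]
    (K : 𝒞 ⥤ 𝒟) [K.Full] [K.Faithful] [K.EssSurj] (i : K ⋙ Ψ ≅ Φ) {c : 𝒞} (h : RpA Ψ P (K.obj c)) : RpA Φ P c := by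
  intro t ht
  obtain ⟨e, l₁, l₂, h1, h2, h3⟩ := h (K.obj t) (ht.of_iso (i.app t).symm)
  let j := K.objObjPreimageIso e
  have h5 : IsPr (K.map (K.preimage (j.hom ≫ l₁))) (K.map (K.preimage (j.hom ≫ l₂))) := by
    rw [K.map_preimage, K.map_preimage]
    exact h1.of_iso j.symm (Iso.refl _) (Iso.refl _) (by simp) (by simp)
  refine ⟨K.objPreimage e, K.preimage (j.hom ≫ l₁), K.preimage (j.hom ≫ l₂), h5.of_map K,
    h2.of_iso (Ψ.mapIso j.symm ≪≫ i.app _), ?_⟩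
  have h4 : Φ.map (K.preimage (j.hom ≫ l₁)) = i.inv.app _ ≫ Ψ.map (K.map (K.preimage (j.hom ≫ l₁))) ≫ i.hom.app _ := by
    have := i.hom.naturality (K.preimage (j.hom ≫ l₁))
    dsimp only [Functor.comp_map] at this
    rw [this]
    simp
  rw [h4, K.map_preimage, Ψ.map_comp]
  refine (MorphismProperty.cancel_left_of_respectsIso P _ _).2 ((MorphismProperty.cancel_right_of_respectsIso P _ _).2 ?_)
  exact (MorphismProperty.cancel_left_of_respectsIso P _ _).2 h3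

end

/-! ### base change squares over algebraic spaces -/

section BC

variable {𝒳 : BasedCategory.{v, w} (Over S)} {𝒴 : BasedCategory.{v', w'} (Over S)} {f : 𝒳 ⥤ᵇ 𝒴}

theorem IsBC.hom_ext {c : Ch 𝒳} {d : Ch 𝒴} {h : (Ch.push f).obj c ⟶ d} (hh : IsBC f h) {t : Ch 𝒳} {k l : t ⟶ c}
    (e : (Ch.push f).map k ≫ h = (Ch.push f).map l ≫ h) : k = l := (hh _ _).unique e rfl

theorem IsBC.exists_iso {c c' : Ch 𝒳} {d : Ch 𝒴} {h : (Ch.push f).obj c ⟶ d} {h' : (Ch.push f).obj c' ⟶ d}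
    (hh : IsBC f h) (hh' : IsBC f h') : ∃ i : c ≅ c', (Ch.push f).map i.hom ≫ h' = h := by
  obtain ⟨a, ha, -⟩ := hh' c h
  obtain ⟨b, hb, -⟩ := hh c' h'
  refine ⟨⟨a, b, ?_, ?_⟩, ha⟩
  · apply hh.hom_ext
    rw [Functor.map_comp, Category.assoc, hb, ha, CategoryTheory.Functor.map_id, Category.id_comp]
  · apply hh'.hom_ext
    rw [Functor.map_comp, Category.assoc, ha, hb, CategoryTheory.Functor.map_id, Category.id_comp]

theorem IsBC.of_iso {c c' : Ch 𝒳} {d : Ch 𝒴} {h : (Ch.push f).obj c ⟶ d} (hh : IsBC f h) (i : c' ≅ c) :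
    IsBC f ((Ch.push f).map i.hom ≫ h) := by
  intro t k
  obtain ⟨l, hl, hl'⟩ := hh t k
  refine ⟨l ≫ i.inv, ?_, fun l' hl'' => ?_⟩
  · change (Ch.push f).map (l ≫ i.inv) ≫ (Ch.push f).map i.hom ≫ h = k
    rw [← Category.assoc, ← Functor.map_comp, Category.assoc, Iso.inv_hom_id, Category.comp_id, hl]
  · change (Ch.push f).map l' ≫ (Ch.push f).map i.hom ≫ h = k at hl''
    rw [← hl' (l' ≫ i.hom) (by
      change (Ch.push f).map (l' ≫ i.hom) ≫ h = k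
      rw [Functor.map_comp, Category.assoc, hl'']), Category.assoc, Iso.hom_inv_id, Category.comp_id]

/-- base change of a base change square -/
theorem IsBC.exists_base (h𝒳 : FibCat.IsFibGrpd 𝒳.p) (h𝒴 : FibCat.IsFibGrpd 𝒴.p) {c : Ch 𝒳} {d : Ch 𝒴}
    {h : (Ch.push f).obj c ⟶ d} (hh : IsBC f h) {e : Ch 𝒴} (m : e ⟶ d) {E : AlgSp.Sp S} {q : E ⟶ c.F} {p : E ⟶ e.F}
    (sq : IsPullback q p h.a m.a) :
    ∃ h' : (Ch.push f).obj (c.res q) ⟶ e, h'.a = p ∧ h' ≫ m = (Ch.push f).map (c.resHom q) ≫ h ∧ IsBC f h' := by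
  obtain ⟨h', h'a, h'w⟩ := Ch.exists_lift h𝒴 m ((Ch.push f).map (c.resHom q) ≫ h) p sq.w.symm
  refine ⟨h', h'a, h'w, fun t k => ?_⟩
  obtain ⟨l₀, hl₀, hl₀'⟩ := hh t (k ≫ m)
  change (Ch.push f).map l₀ ≫ h = k ≫ m at hl₀
  have hw : l₀.a ≫ h.a = k.a ≫ m.a := congrArg Ch.Hom.a hl₀
  obtain ⟨l, hl, hl'⟩ := Ch.exists_lift h𝒳 (c.resHom q) l₀ (sq.lift l₀.a k.a hw) (sq.lift_fst _ _ _)
  refine ⟨l, ?_, fun l' hl'' => ?_⟩
  · refine Ch.lift_unique h𝒴 m ?_ ?_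
    · change l.a ≫ h'.a = k.a
      rw [hl, h'a, sq.lift_snd]
    · rw [Category.assoc, h'w, ← Category.assoc, ← Functor.map_comp, hl', hl₀]
  · change (Ch.push f).map l' ≫ h' = k at hl''
    have h1 : l' ≫ c.resHom q = l₀ := hl₀' _ (by
      change (Ch.push f).map (l' ≫ c.resHom q) ≫ h = k ≫ m
      rw [Functor.map_comp, Category.assoc, ← h'w, ← Category.assoc, hl''])
    refine Ch.lift_unique h𝒳 (c.resHom q) ?_ (h1.trans hl'.symm)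
    rw [hl]
    apply sq.hom_ext
    · rw [sq.lift_fst]
      exact congrArg Ch.Hom.a h1
    · rw [sq.lift_snd]
      have h2 := congrArg Ch.Hom.a hl''
      change l'.a ≫ h'.a = k.a at h2
      rw [← h'a, h2]

/-- two base change squares over a morphism of bases give a pullback square of sheaves -/
theorem IsBC.isPullback (h𝒳 : FibCat.IsFibGrpd 𝒳.p) (h𝒴 : FibCat.IsFibGrpd 𝒴.p) {c : Ch 𝒳} {d : Ch 𝒴}
    {h : (Ch.push f).obj c ⟶ d} (hh : IsBC f h) {c' : Ch 𝒳} {e : Ch 𝒴} {m : e ⟶ d} {h' : (Ch.push f).obj c' ⟶ e}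
    (hh' : IsBC f h') {k : c' ⟶ c} (w : h' ≫ m = (Ch.push f).map k ≫ h) : IsPullback k.a h'.a h.a m.a := by
  obtain ⟨h'', h1, h2, h3⟩ := hh.exists_base h𝒳 h𝒴 m (IsPullback.of_hasPullback h.a m.a)
  obtain ⟨i, hi⟩ := hh'.exists_iso h3
  have hk : i.hom ≫ c.resHom (pullback.fst h.a m.a) = k := by
    apply hh.hom_ext
    rw [Functor.map_comp, Category.assoc, ← h2, ← Category.assoc, hi, w]
  refine IsPullback.of_iso (IsPullback.of_hasPullback h.a m.a) ((Ch.forget 𝒳).mapIso i.symm) (Iso.refl _)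
    (Iso.refl _) (Iso.refl _) ?_ ?_ (by simp) (by simp)
  · rw [← hk]
    change pullback.fst h.a m.a ≫ 𝟙 _ = i.inv.a ≫ i.hom.a ≫ pullback.fst h.a m.a
    have h4 := congrArg Ch.Hom.a i.inv_hom_id
    change i.inv.a ≫ i.hom.a = 𝟙 _ at h4
    rw [Category.comp_id, ← Category.assoc, h4]
    exact (Category.id_comp _).symm
  · have h4 := congrArg Ch.Hom.a i.inv_hom_id
    change i.inv.a ≫ i.hom.a = 𝟙 _ at h4
    have h5 := congrArg Ch.Hom.a hi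
    change i.hom.a ≫ h''.a = h'.a at h5
    change pullback.snd h.a m.a ≫ 𝟙 _ = i.inv.a ≫ h'.a
    rw [Category.comp_id, ← h5, ← Category.assoc, h4, h1]
    exact (Category.id_comp _).symm

end BC

section Cat

variable {𝒳 𝒴 : AlgSt.Cat S} {f : 𝒳 ⥤ᵇ 𝒴}

theorem exists_isBC_sp (h𝒳 : FibCat.IsFibGrpd 𝒳.p) (h𝒴 : FibCat.IsFibGrpd 𝒴.p) (hf : RepByAlgSp1 f) {d : Ch 𝒴}
    (hd : AlgSp.IsAlgSpace d.F) :
    ∃ (c : Ch 𝒳) (h : (Ch.push f).obj c ⟶ d), AlgSp.IsAlgSpace c.F ∧ IsBC f h ∧ K734.Rep.IsRep f d.x h.a := by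
  obtain ⟨F, π, hF, e, he, ⟨θ⟩⟩ := K734.Rep.exists_isRep h𝒳 h𝒴 hf hd d.x
  have hfull : (BasedFunctor.id (ofSp d.F)).toFunctor.Full := inferInstanceAs (𝟭 _).Full
  have hfaith : (BasedFunctor.id (ofSp d.F)).toFunctor.Faithful := inferInstanceAs (𝟭 _).Faithful
  exact ⟨_, linkHom f d.x (BasedFunctor.id (ofSp d.F)) e π θ, hF,
    isBC_linkHom (f := f) (y := d.x) (i := BasedFunctor.id (ofSp d.F)) (e := e) (a := π) (θ := θ) h𝒳 h𝒴 he,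
    ⟨e, he, ⟨θ⟩⟩⟩

/-- base change squares over algebraic spaces, with the property -/
theorem exists_isBC_sp' {P : MorphismProperty (AlgSp.Sp S)} (hPb : K734.Rep.StableBC P)
    (hP : AlgSp.IsLocalOnBase AlgSp.IsFppfCover P) (h𝒳 : FibCat.IsFibGrpd 𝒳.p) (h𝒴 : FibCat.IsFibGrpd 𝒴.p)
    (hf : RepByAlgSpWith P f) {d : Ch 𝒴} (hd : AlgSp.IsAlgSpace d.F) :
    ∃ (c : Ch 𝒳) (h : (Ch.push f).obj c ⟶ d), AlgSp.IsAlgSpace c.F ∧ IsBC f h ∧ P h.a := by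
  obtain ⟨c, h, h1, h2, h3⟩ := exists_isBC_sp h𝒳 h𝒴 (K735.Rep.repByAlgSp1_of_with hf) hd
  exact ⟨c, h, h1, h2, h3.prop hPb hP hf hd⟩

/-- representability of a sheaf over `𝒳`, tested on algebraic spaces -/
theorem rpA_of_repByAlgSpWith {P : MorphismProperty (AlgSp.Sp S)} (hPb : K734.Rep.StableBC P)
    (hP : AlgSp.IsLocalOnBase AlgSp.IsFppfCover P) (h𝒳 : FibCat.IsFibGrpd 𝒳.p) {F : AlgSp.Sp S}
    {x : ofSp F ⥤ᵇ 𝒳} (hx : RepByAlgSpWith P x) : RpA (Ch.forget 𝒳) P ⟨F, x⟩ := by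
  intro t ht
  obtain ⟨c, h, h1, h2, h3⟩ := exists_isBC_sp' hPb hP (K735.Rep.isFibGrpd_ofSp F) h𝒳 hx ht
  exact ⟨(Ch.push x).obj c, h, _, h2.isPr h𝒳, h1, h3⟩

theorem rpA_iff {P : MorphismProperty (AlgSp.Sp S)} [P.RespectsIso] (hPb : K734.Rep.StableBC P)
    (hP : AlgSp.IsLocalOnBase AlgSp.IsFppfCover P) (h𝒳 : FibCat.IsFibGrpd 𝒳.p) (c : Ch 𝒳) :
    RepByAlgSpWith P c.x ↔ RpA (Ch.forget 𝒳) P c :=
  ⟨fun h => rpA_of_repByAlgSpWith hPb hP h𝒳 h, fun h => (repByAlgSpWith_iff_rp h𝒳 c.x).2 h.rp⟩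

theorem Cm.rpA_iff {P : MorphismProperty (AlgSp.Sp S)} [P.RespectsIso] (hPb : K734.Rep.StableBC P)
    (hP : AlgSp.IsLocalOnBase AlgSp.IsFppfCover P) (h𝒳 : FibCat.IsFibGrpd 𝒳.p) (h𝒴 : FibCat.IsFibGrpd 𝒴.p)
    (d : Ch 𝒴) (A : Cm f d) : RepByAlgSpWith P (Cm.lift h𝒴 f d A) ↔ RpA (Cm.Φ f d) P A := by
  have h1 := Cm.K_faithful h𝒴 f d
  have h2 := Cm.K_full h𝒴 f d
  have h3 := Cm.K_essSurj h𝒴 f d h𝒳
  rw [show RepByAlgSpWith P (Cm.lift h𝒴 f d A) ↔ RpA (Ch.forget _) P ((Cm.K h𝒴 f d).obj A) from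
    K741.rpA_iff hPb hP (K735.Fp.isFibGrpd_fp h𝒳 (K735.Rep.isFibGrpd_ofSp d.F) h𝒴 f d.x) ((Cm.K h𝒴 f d).obj A)]
  exact ⟨fun h => RpA.of_map (Cm.K h𝒴 f d) (Iso.refl _) h, fun h => RpA.map (Cm.K h𝒴 f d) (Iso.refl _) h⟩

end Cat

end K741
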