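import Groth.Agent.AlgSt.K741.BC

/-!
# Categories fibred in groupoids over the category of sheaves
-/

set_option autoImplicit false
set_option backward.isDefEq.respectTransparency false
set_option backward.isDefEq.respectTransparency.types false

universe w₄ v₄ w'' v'' w' v' w v u

open CategoryTheory CategoryTheory.Limits AlgebraicGeometry Opposite
open AlgSt

namespace K741

variable {S : Scheme.{u}}

/-- `Φ` is fibred in groupoids -/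
structure SpFib {𝒞 : Type w} [Category.{v} 𝒞] (Φ : 𝒞 ⥤ AlgSp.Sp S) : Prop where
  lift : ∀ {c d e : 𝒞} (m : d ⟶ e) (n : c ⟶ e) (v : Φ.obj c ⟶ Φ.obj d), v ≫ Φ.map m = Φ.map n →
    ∃ l : c ⟶ d, Φ.map l = v ∧ l ≫ m = n
  uniq : ∀ {c d e : 𝒞} (m : d ⟶ e) (l l' : c ⟶ d), Φ.map l = Φ.map l' → l ≫ m = l' ≫ m → l = l'
  res : ∀ (c : 𝒞) {G : AlgSp.Sp S} (v : G ⟶ Φ.obj c), ∃ (c' : 𝒞) (i : G ≅ Φ.obj c') (m : c' ⟶ c),
    i.hom ≫ Φ.map m = v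

/-- the sheaf is representable by a scheme -/
def IsSch (F : AlgSp.Sp S) : Prop := ∃ U : Over S, Nonempty ((AlgSp.yon S).obj U ≅ F)

theorem isSch_yon (U : Over S) : IsSch ((AlgSp.yon S).obj U) := ⟨U, ⟨Iso.refl _⟩⟩

theorem IsSch.of_iso {F G : AlgSp.Sp S} (h : IsSch F) (i : F ≅ G) : IsSch G := by
  obtain ⟨U, ⟨j⟩⟩ := h
  exact ⟨U, ⟨j ≪≫ i⟩⟩

theorem IsSch.isAlgSpace {F : AlgSp.Sp S} (h : IsSch F) : AlgSp.IsAlgSpace F := by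
  obtain ⟨U, ⟨j⟩⟩ := h
  exact (AlgSp.IsAlgSpace.yon_obj U).of_iso j

section Pr

variable {𝒞 : Type w} [Category.{v} 𝒞]

/-- binary products -/
def IsPr {c₁ c₂ e : 𝒞} (l₁ : e ⟶ c₁) (l₂ : e ⟶ c₂) : Prop :=
  ∀ (t : 𝒞) (m₁ : t ⟶ c₁) (m₂ : t ⟶ c₂), ∃! l : t ⟶ e, l ≫ l₁ = m₁ ∧ l ≫ l₂ = m₂

variable {c₁ c₂ e : 𝒞} {l₁ : e ⟶ c₁} {l₂ : e ⟶ c₂}

theorem IsPr.symm (h : IsPr l₁ l₂) : IsPr l₂ l₁ := fun t m₁ m₂ => by
  obtain ⟨l, ⟨h1, h2⟩, h3⟩ := h t m₂ m₁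
  exact ⟨l, ⟨h2, h1⟩, fun l' hl' => h3 l' ⟨hl'.2, hl'.1⟩⟩

theorem IsPr.hom_ext (h : IsPr l₁ l₂) {t : 𝒞} {m n : t ⟶ e} (h1 : m ≫ l₁ = n ≫ l₁) (h2 : m ≫ l₂ = n ≫ l₂) : m = n :=
  (h t (n ≫ l₁) (n ≫ l₂)).unique ⟨h1, h2⟩ ⟨rfl, rfl⟩

theorem IsPr.exists_iso (h : IsPr l₁ l₂) {e' : 𝒞} {l₁' : e' ⟶ c₁} {l₂' : e' ⟶ c₂} (h' : IsPr l₁' l₂') :
    ∃ i : e ≅ e', i.hom ≫ l₁' = l₁ ∧ i.hom ≫ l₂' = l₂ := by
  obtain ⟨a, ⟨ha1, ha2⟩, -⟩ := h' e l₁ l₂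
  obtain ⟨b, ⟨hb1, hb2⟩, -⟩ := h e' l₁' l₂'
  refine ⟨⟨a, b, ?_, ?_⟩, ha1, ha2⟩
  · apply h.hom_ext <;> simp [ha1, ha2, hb1, hb2]
  · apply h'.hom_ext <;> simp [ha1, ha2, hb1, hb2]

theorem IsPr.of_iso (h : IsPr l₁ l₂) {e' c₁' c₂' : 𝒞} (i : e ≅ e') (i₁ : c₁ ≅ c₁') (i₂ : c₂ ≅ c₂') {l₁' : e' ⟶ c₁'}
    {l₂' : e' ⟶ c₂'} (w₁ : i.hom ≫ l₁' = l₁ ≫ i₁.hom) (w₂ : i.hom ≫ l₂' = l₂ ≫ i₂.hom) : IsPr l₁' l₂' := by
  intro t m₁ m₂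
  obtain ⟨l, ⟨h1, h2⟩, h3⟩ := h t (m₁ ≫ i₁.inv) (m₂ ≫ i₂.inv)
  refine ⟨l ≫ i.hom, ⟨?_, ?_⟩, fun l' hl' => ?_⟩
  · rw [Category.assoc, w₁, reassoc_of% h1, Iso.inv_hom_id, Category.comp_id]
  · rw [Category.assoc, w₂, reassoc_of% h2, Iso.inv_hom_id, Category.comp_id]
  · have e1 : l₁ = i.hom ≫ l₁' ≫ i₁.inv := by rw [reassoc_of% w₁, Iso.hom_inv_id, Category.comp_id]
    have e2 : l₂ = i.hom ≫ l₂' ≫ i₂.inv := by rw [reassoc_of% w₂, Iso.hom_inv_id, Category.comp_id]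
    have := h3 (l' ≫ i.inv) ⟨by simp [e1, ← hl'.1], by simp [e2, ← hl'.2]⟩
    rw [← this, Category.assoc, Iso.inv_hom_id, Category.comp_id]

/-- products under a fully faithful essentially surjective functor -/
theorem IsPr.map {𝒟 : Type w'} [Category.{v'} 𝒟] (h : IsPr l₁ l₂) (K : 𝒞 ⥤ 𝒟) [K.Full] [K.Faithful] [K.EssSurj] :
    IsPr (K.map l₁) (K.map l₂) := by
  intro t m₁ m₂
  let i := K.objObjPreimageIso t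
  obtain ⟨l, ⟨h1, h2⟩, h3⟩ := h (K.objPreimage t) (K.preimage (i.hom ≫ m₁)) (K.preimage (i.hom ≫ m₂))
  refine ⟨i.inv ≫ K.map l, ⟨?_, ?_⟩, fun l' hl' => ?_⟩
  · rw [Category.assoc, ← K.map_comp, h1, K.map_preimage, Iso.inv_hom_id_assoc]
  · rw [Category.assoc, ← K.map_comp, h2, K.map_preimage, Iso.inv_hom_id_assoc]
  · have := h3 (K.preimage (i.hom ≫ l')) ⟨K.map_injective (by simp [← hl'.1]), K.map_injective (by simp [← hl'.2])⟩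
    rw [← this, K.map_preimage, Iso.inv_hom_id_assoc]

theorem IsPr.of_map {𝒟 : Type w'} [Category.{v'} 𝒟] (K : 𝒞 ⥤ 𝒟) [K.Full] [K.Faithful]
    (h : IsPr (K.map l₁) (K.map l₂)) : IsPr l₁ l₂ := by
  intro t m₁ m₂
  obtain ⟨l, ⟨h1, h2⟩, h3⟩ := h (K.obj t) (K.map m₁) (K.map m₂)
  refine ⟨K.preimage l, ⟨K.map_injective (by simp [h1]), K.map_injective (by simp [h2])⟩, fun l' hl' => ?_⟩
  apply K.map_injective
  rw [K.map_preimage]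
  exact h3 _ ⟨by rw [← K.map_comp, hl'.1], by rw [← K.map_comp, hl'.2]⟩

end Pr

section Fib

variable {𝒞 : Type w} [Category.{v} 𝒞] {Φ : 𝒞 ⥤ AlgSp.Sp S}

theorem SpFib.isIso (hΦ : SpFib Φ) {c d : 𝒞} (m : c ⟶ d) [IsIso (Φ.map m)] : IsIso m := by
  obtain ⟨l, hl, hl'⟩ := hΦ.lift m (𝟙 d) (inv (Φ.map m)) (by simp)
  refine ⟨l, ?_, hl'⟩
  refine hΦ.uniq m _ _ (by simp [hl]) ?_
  rw [Category.assoc, hl', Category.comp_id, Category.id_comp]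

/-- base change of a product along a map of the first factor -/
theorem IsPr.exists_base (hΦ : SpFib Φ) {c₁ c₂ e c₁' : 𝒞} {l₁ : e ⟶ c₁} {l₂ : e ⟶ c₂} (h : IsPr l₁ l₂) (n : c₁' ⟶ c₁)
    {E : AlgSp.Sp S} {p : E ⟶ Φ.obj c₁'} {q : E ⟶ Φ.obj e} (sq : IsPullback q p (Φ.map l₁) (Φ.map n)) :
    ∃ (e' : 𝒞) (i : E ≅ Φ.obj e') (l₁' : e' ⟶ c₁') (k : e' ⟶ e), l₁' ≫ n = k ≫ l₁ ∧ i.hom ≫ Φ.map l₁' = p ∧
      i.hom ≫ Φ.map k = q ∧ IsPr l₁' (k ≫ l₂) := by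
  obtain ⟨e', i, k, hk⟩ := hΦ.res e q
  obtain ⟨l₁', hl₁, hl₁'⟩ := hΦ.lift n (k ≫ l₁) (i.inv ≫ p) (by
    rw [Category.assoc, ← sq.w, Functor.map_comp, ← hk]; simp)
  refine ⟨e', i, l₁', k, hl₁', by simp [hl₁], hk, fun t m₁ m₂ => ?_⟩
  obtain ⟨r, ⟨hr1, hr2⟩, hr3⟩ := h t (m₁ ≫ n) m₂
  have w : Φ.map r ≫ Φ.map l₁ = Φ.map m₁ ≫ Φ.map n := by rw [← Φ.map_comp, hr1, Φ.map_comp]
  have hv : (sq.lift (Φ.map r) (Φ.map m₁) w ≫ i.hom) ≫ Φ.map k = Φ.map r := by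
    rw [Category.assoc, hk, sq.lift_fst]
  have hv2 : (sq.lift (Φ.map r) (Φ.map m₁) w ≫ i.hom) ≫ Φ.map l₁' = Φ.map m₁ := by
    rw [hl₁, Category.assoc, Iso.hom_inv_id_assoc, sq.lift_snd]
  obtain ⟨l, hl, hl'⟩ := hΦ.lift k r _ hv
  refine ⟨l, ⟨?_, ?_⟩, fun l' hl'' => ?_⟩
  · refine hΦ.uniq n _ _ (by rw [Φ.map_comp, hl, hv2]) ?_
    rw [Category.assoc, hl₁', reassoc_of% hl', hr1]
  · rw [reassoc_of% hl', hr2]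
  · have h1 : l' ≫ k = r := hr3 _ ⟨by rw [Category.assoc, ← hl₁', ← Category.assoc, hl''.1], by
      rw [Category.assoc]; exact hl''.2⟩
    refine hΦ.uniq k _ _ ?_ (h1.trans hl'.symm)
    rw [hl, ← cancel_mono i.inv]
    apply sq.hom_ext
    · have h2 : i.inv ≫ q = Φ.map k := by rw [← hk, Iso.inv_hom_id_assoc]
      rw [Category.assoc, Category.assoc, h2, ← Φ.map_comp, h1, hv]
    · have h2 : i.inv ≫ p = Φ.map l₁' := by rw [hl₁]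
      rw [Category.assoc, Category.assoc, h2, ← Φ.map_comp, hl''.1, hv2]

/-- two products related by a map of the first factor form a pullback square -/
theorem IsPr.isPullback (hΦ : SpFib Φ) {c₁ c₂ e c₁' e' : 𝒞} {l₁ : e ⟶ c₁} {l₂ : e ⟶ c₂} (h : IsPr l₁ l₂) {n : c₁' ⟶ c₁}
    {l₁' : e' ⟶ c₁'} {k : e' ⟶ e} (w : l₁' ≫ n = k ≫ l₁) (h' : IsPr l₁' (k ≫ l₂)) :
    IsPullback (Φ.map k) (Φ.map l₁') (Φ.map l₁) (Φ.map n) := by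
  obtain ⟨e'', i, l₁'', k', h1, h2, h3, h4⟩ := h.exists_base hΦ n (IsPullback.of_hasPullback (Φ.map l₁) (Φ.map n))
  obtain ⟨j, hj1, hj2⟩ := h'.exists_iso h4
  have hj3 : j.hom ≫ k' = k := by
    apply h.hom_ext
    · rw [Category.assoc, ← h1, reassoc_of% hj1, w]
    · rw [Category.assoc, hj2]
  refine IsPullback.of_iso (IsPullback.of_hasPullback (Φ.map l₁) (Φ.map n)) (i ≪≫ Φ.mapIso j.symm) (Iso.refl _)
    (Iso.refl _) (Iso.refl _) ?_ ?_ ?_ ?_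
  · simp only [Iso.trans_hom, Functor.mapIso_hom, Iso.symm_hom, Iso.refl_hom, Category.comp_id, Category.assoc]
    rw [← hj3, ← Φ.map_comp, Iso.inv_hom_id_assoc, h3]
  · simp only [Iso.trans_hom, Functor.mapIso_hom, Iso.symm_hom, Iso.refl_hom, Category.comp_id, Category.assoc]
    rw [← hj1, ← Φ.map_comp, Iso.inv_hom_id_assoc, h2]
  · simp
  · simp

/-- `c` is representable (by algebraic spaces) with property `P` -/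
def Rp (Φ : 𝒞 ⥤ AlgSp.Sp S) (P : MorphismProperty (AlgSp.Sp S)) (c : 𝒞) : Prop :=
  ∀ t : 𝒞, IsSch (Φ.obj t) → ∃ (e : 𝒞) (l₁ : e ⟶ t) (l₂ : e ⟶ c), IsPr l₁ l₂ ∧ AlgSp.IsAlgSpace (Φ.obj e) ∧ P (Φ.map l₁)

theorem Rp.mono {P Q : MorphismProperty (AlgSp.Sp S)} (hPQ : P ≤ Q) {c : 𝒞} (h : Rp Φ P c) : Rp Φ Q c := fun t ht => by
  obtain ⟨e, l₁, l₂, h1, h2, h3⟩ := h t ht
  exact ⟨e, l₁, l₂, h1, h2, hPQ _ h3⟩

theorem Rp.prop {P : MorphismProperty (AlgSp.Sp S)} [P.RespectsIso] {c : 𝒞} (h : Rp Φ P c) {t e : 𝒞} {l₁ : e ⟶ t}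
    {l₂ : e ⟶ c} (hp : IsPr l₁ l₂) (ht : IsSch (Φ.obj t)) : AlgSp.IsAlgSpace (Φ.obj e) ∧ P (Φ.map l₁) := by
  obtain ⟨e', l₁', l₂', h1, h2, h3⟩ := h t ht
  obtain ⟨i, hi1, hi2⟩ := hp.exists_iso h1
  refine ⟨h2.of_iso (Φ.mapIso i).symm, ?_⟩
  rw [← hi1, Φ.map_comp]
  exact (MorphismProperty.cancel_left_of_respectsIso P (Φ.map i.hom) _).2 h3

theorem Rp.of_iso {P : MorphismProperty (AlgSp.Sp S)} {c c' : 𝒞} (h : Rp Φ P c) (i : c ≅ c') : Rp Φ P c' := fun t ht => by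
  obtain ⟨e, l₁, l₂, h1, h2, h3⟩ := h t ht
  exact ⟨e, l₁, l₂ ≫ i.hom, h1.of_iso (Iso.refl _) (Iso.refl _) i (by simp) (by simp), h2, h3⟩

/-- composition of a representable object with a map of sheaves -/
theorem Rp.precomp (hΦ : SpFib Φ) {P Q R : MorphismProperty (AlgSp.Sp S)} {c c' : 𝒞} (h : Rp Φ P c) (n : c' ⟶ c)
    (hn : ∀ ⦃E G : AlgSp.Sp S⦄ (a : E ⟶ Φ.obj c) (g : G ⟶ Φ.obj c') (q : G ⟶ E), AlgSp.IsAlgSpace E →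
      IsPullback g q (Φ.map n) a → AlgSp.IsAlgSpace G ∧ Q q)
    (hR : ∀ ⦃E F G : AlgSp.Sp S⦄ (a : E ⟶ F) (b : F ⟶ G), AlgSp.IsAlgSpace E → AlgSp.IsAlgSpace F →
      AlgSp.IsAlgSpace G → Q a → P b → R (a ≫ b)) : Rp Φ R c' := by
  intro t ht
  obtain ⟨e, l₁, l₂, h1, h2, h3⟩ := h t ht
  obtain ⟨e', i, l₁', k, g1, g2, g3, g4⟩ := h1.symm.exists_base hΦ n
    (IsPullback.of_hasPullback (Φ.map l₂) (Φ.map n))
  have hpb := h1.symm.isPullback hΦ g1 g4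
  obtain ⟨hG, hQ⟩ := hn _ _ _ h2 hpb.flip
  refine ⟨e', k ≫ l₁, l₁', g4.symm, hG, ?_⟩
  rw [Φ.map_comp]
  exact hR _ _ hG h2 ht.isAlgSpace hQ h3

/-- transfer along an equivalence -/
theorem Rp.map {𝒟 : Type w'} [Category.{v'} 𝒟] {Ψ : 𝒟 ⥤ AlgSp.Sp S} {P : MorphismProperty (AlgSp.Sp S)} [P.RespectsIso]
    (K : 𝒞 ⥤ 𝒟) [K.Full] [K.Faithful] [K.EssSurj] (i : K ⋙ Ψ ≅ Φ) {c : 𝒞} (h : Rp Φ P c) : Rp Ψ P (K.obj c) := by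
  intro t ht
  let j := K.objObjPreimageIso t
  obtain ⟨e, l₁, l₂, h1, h2, h3⟩ := h (K.objPreimage t)
    (ht.of_iso (Ψ.mapIso j.symm ≪≫ i.app (K.objPreimage t)))
  refine ⟨K.obj e, K.map l₁ ≫ j.hom, K.map l₂, (h1.map K).of_iso (Iso.refl _) j (Iso.refl _) (by simp) (by simp),
    h2.of_iso (i.app e).symm, ?_⟩
  rw [Ψ.map_comp]
  refine (MorphismProperty.cancel_right_of_respectsIso P _ (Ψ.map j.hom)).2 ?_
  have h4 : Ψ.map (K.map l₁) = i.hom.app e ≫ Φ.map l₁ ≫ i.inv.app _ := by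
    have := i.hom.naturality l₁
    rw [← Category.assoc, ← this]
    simp
  rw [h4]
  exact (MorphismProperty.cancel_left_of_respectsIso P _ _).2 ((MorphismProperty.cancel_right_of_respectsIso P _ _).2 h3)

theorem Rp.of_map {𝒟 : Type w'} [Category.{v'} 𝒟] {Ψ : 𝒟 ⥤ AlgSp.Sp S} {P : MorphismProperty (AlgSp.Sp S)} [P.RespectsIso]
    (K : 𝒞 ⥤ 𝒟) [K.Full] [K.Faithful] [K.EssSurj] (i : K ⋙ Ψ ≅ Φ) {c : 𝒞} (h : Rp Ψ P (K.obj c)) : Rp Φ P c := by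
  intro t ht
  obtain ⟨e, l₁, l₂, h1, h2, h3⟩ := h (K.obj t) (ht.of_iso (i.app t).symm)
  let j := K.objObjPreimageIso e
  have h5 : IsPr (K.map (K.preimage (j.hom ≫ l₁))) (K.map (K.preimage (j.hom ≫ l₂))) := by
    rw [K.map_preimage, K.map_preimage]
    exact h1.of_iso j.symm (Iso.refl _) (Iso.refl _) (by simp) (by simp)
  refine ⟨K.objPreimage e, K.preimage (j.hom ≫ l₁), K.preimage (j.hom ≫ l₂), h5.of_map K,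
    h2.of_iso (Ψ.mapIso j.symm ≪≫ i.app _), ?_⟩
  have h4 : Φ.map (K.preimage (j.hom ≫ l₁)) = i.inv.app _ ≫ Ψ.map (K.map (K.preimage (j.hom ≫ l₁))) ≫ i.hom.app _ := by
    have := i.hom.naturality (K.preimage (j.hom ≫ l₁))
    dsimp only [Functor.comp_map] at this
    rw [this]
    simp
  rw [h4, K.map_preimage, Ψ.map_comp]
  refine (MorphismProperty.cancel_left_of_respectsIso P _ _).2 ((MorphismProperty.cancel_right_of_respectsIso P _ _).2 ?_)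
  exact (MorphismProperty.cancel_left_of_respectsIso P _ _).2 h3

end Fib

end K741
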