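import Groth.Agent.AlgSt.K741.Comma
import Groth.Agent.AlgSp.K597.LocP
import Groth.Agent.AlgSp.K597.EtLoc
import Groth.Agent.AlgSp.K613.Chart
import Groth.Agent.AlgSp.K609.Points
import Groth.Prelude.Def_AlgSpCov

/-!
# Properties of morphisms of algebraic spaces used with `LocQ`
-/

set_option autoImplicit false
set_option backward.isDefEq.respectTransparency false
set_option backward.isDefEq.respectTransparency.types false

universe u

open CategoryTheory CategoryTheory.Limits AlgebraicGeometry Opposite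
open AlgSp

namespace K741

variable {S : Scheme.{u}}

instance locP_respectsIso (P : MorphismProperty Scheme.{u}) : (LocP (S := S) P).RespectsIso := by
  refine MorphismProperty.RespectsIso.mk _ ?_ ?_
  · intro X Y Z e f hf U V a b h ha hb w
    have ha' : RepWith @Etale (a ≫ e.hom) :=
      (MorphismProperty.cancel_right_of_respectsIso (RepWith @Etale) a e.hom).2 ha
    exact hf (a ≫ e.hom) b h ha' hb (by rw [← w, Category.assoc])
  · intro X Y Z e f hf U V a b h ha hb w
    have hb' : RepWith @Etale (b ≫ e.inv) :=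
      (MorphismProperty.cancel_right_of_respectsIso (RepWith @Etale) b e.inv).2 hb
    exact hf a (b ≫ e.inv) h ha hb' (by rw [← reassoc_of% w, Iso.hom_inv_id, Category.comp_id])

theorem surj_of_isIso {F G : Sp S} (f : F ⟶ G) [IsIso f] : IsSurjectiveMor f := fun x =>
  ⟨Points.map (inv f) x, by rw [← Points.map_comp, IsIso.inv_hom_id, Points.map_id]⟩

theorem surj_comp {F G H : Sp S} {f : F ⟶ G} {g : G ⟶ H} (hf : IsSurjectiveMor f) (hg : IsSurjectiveMor g) :
    IsSurjectiveMor (f ≫ g) := fun x => by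
  obtain ⟨y, rfl⟩ := hg x
  obtain ⟨z, rfl⟩ := hf y
  exact ⟨z, Points.map_comp f g z⟩

theorem surj_of_comp {F G H : Sp S} {f : F ⟶ G} {g : G ⟶ H} (h : IsSurjectiveMor (f ≫ g)) : IsSurjectiveMor g :=
  fun x => by
  obtain ⟨z, rfl⟩ := h x
  exact ⟨Points.map f z, (Points.map_comp f g z).symm⟩

instance surj_respectsIso : (IsSurjectiveMor (S := S)).RespectsIso :=
  MorphismProperty.RespectsIso.mk _ (fun e f hf => surj_comp (surj_of_isIso e.hom) hf)
    (fun e f hf => surj_comp hf (surj_of_isIso e.hom))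

theorem surj_bc {P Z X Y : Sp S} {fst : P ⟶ Z} {snd : P ⟶ X} {g : Z ⟶ Y} {f : X ⟶ Y}
    (h : IsPullback fst snd g f) (hf : IsSurjectiveMor f) : IsSurjectiveMor fst :=
  K609.Points.surjective_map_of_isPullback h hf

theorem surj_of_repWith {F G : Sp S} {f : F ⟶ G} (hf : RepWith @Surjective f) : IsSurjectiveMor f :=
  K609.Points.surjective_map_of_repWith_surjective hf

theorem smooth_of_etale {F G : Sp S} {f : F ⟶ G} (hf : RepWith @Etale f) : LocP @Smooth f :=
  K597.locP_mono (P := @Etale) (fun _ _ f h => by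
    have : Etale f := h
    exact inferInstanceAs (Smooth f)) (K597.locP_of_repWith K597.etLoc_etale.precomp hf)

theorem smooth_comp {F G H : Sp S} {f : F ⟶ G} {g : G ⟶ H} (hF : IsAlgSpace F) (hG : IsAlgSpace G) (hH : IsAlgSpace H)
    (hf : LocP @Smooth f) (hg : LocP @Smooth g) : LocP @Smooth (f ≫ g) :=
  K597.locP_comp K597.etLoc_smooth hF.hasAtlas hG.hasAtlas hH.hasAtlas hf hg

theorem smooth_bc {F G F' G' : Sp S} {f : F ⟶ G} {g : G' ⟶ G} {g' : F' ⟶ F} {f' : F' ⟶ G'}
    (sq : IsPullback g' f' f g) (hF : IsAlgSpace F) (hG : IsAlgSpace G) (hG' : IsAlgSpace G') (h : LocP @Smooth f) :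
    LocP @Smooth f' := K597.locP_bc K597.etLoc_smooth sq hF.hasAtlas hG.hasAtlas hG'.hasAtlas h

theorem flat_of_smooth {F G : Sp S} {f : F ⟶ G} (hf : LocP @Smooth f) : LocP @Flat f :=
  K597.locP_mono (P := @Smooth) (fun _ _ f h => by
    have : Smooth f := h
    exact inferInstanceAs (Flat f)) hf

theorem lfp_of_smooth {F G : Sp S} {f : F ⟶ G} (hf : LocP @Smooth f) : LocP @LocallyOfFinitePresentation f :=
  K597.locP_mono (P := @Smooth) (fun _ _ f h => by
    have : Smooth f := h
    exact inferInstanceAs (LocallyOfFinitePresentation f)) hf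

theorem smooth_of_isIso {F G : Sp S} (f : F ⟶ G) [IsIso f] : LocP @Smooth f :=
  smooth_of_etale (MorphismProperty.of_isIso _ _)

theorem isAlgSpace_bc {F G H P : Sp S} (hF : IsAlgSpace F) (hG : IsAlgSpace G) (hH : IsAlgSpace H) {f : F ⟶ H}
    {g : G ⟶ H} {fst : P ⟶ F} {snd : P ⟶ G} (sq : IsPullback fst snd f g) : IsAlgSpace P :=
  K613.Chart.isAlgSpace_of_isPullback hH.diag hF hG sq

end K741
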