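import Groth.Agent.AlgSt.K741.Charts

/-!
# `LocQ` from squares of algebraic spaces
-/

set_option autoImplicit false
set_option backward.isDefEq.respectTransparency false
set_option backward.isDefEq.respectTransparency.types false

universe w₄ v₄ w'' v'' w' v' w v u

open CategoryTheory CategoryTheory.Limits AlgebraicGeometry Opposite
open AlgSt

namespace K741

variable {S : Scheme.{u}} {𝒳 : BasedCategory.{v, w} (Over S)} {𝒴 : BasedCategory.{v', w'} (Over S)}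

theorem rp_res_smooth (h𝒳 : FibCat.IsFibGrpd 𝒳.p) {c : Ch 𝒳} (hc : AlgSp.IsAlgSpace c.F) {G : AlgSp.Sp S}
    (hG : AlgSp.IsAlgSpace G) {p : G ⟶ c.F} (hp : AlgSp.LocP @Smooth p) (h : RepByAlgSpWith (AlgSp.LocP @Smooth) c.x) :
    RepByAlgSpWith (AlgSp.LocP @Smooth) (BasedFunctor.comp (ofSpMap p) c.x) := by
  refine (repByAlgSpWith_iff_rp h𝒳 _).2 (Rp.precomp (P := AlgSp.LocP @Smooth) (Q := AlgSp.LocP @Smooth)
      (Ch.spFib h𝒳) ((repByAlgSpWith_iff_rp h𝒳 c.x).1 h) (c.resHom p) ?_ ?_)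
  · intro E G' a g q hE sq
    exact ⟨isAlgSpace_bc hG hE hc sq, smooth_bc sq hG hc hE hp⟩
  · intro E F G a b hE hF hG ha hb
    exact smooth_comp hE hF hG ha hb

theorem rp_res_surj (h𝒳 : FibCat.IsFibGrpd 𝒳.p) {c : Ch 𝒳} (hc : AlgSp.IsAlgSpace c.F) {G : AlgSp.Sp S}
    (hG : AlgSp.IsAlgSpace G) {p : G ⟶ c.F} (hp : AlgSp.IsSurjectiveMor p)
    (h : RepByAlgSpWith AlgSp.IsSurjectiveMor c.x) :
    RepByAlgSpWith AlgSp.IsSurjectiveMor (BasedFunctor.comp (ofSpMap p) c.x) := by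
  refine (repByAlgSpWith_iff_rp h𝒳 _).2 (Rp.precomp (P := AlgSp.IsSurjectiveMor) (Q := AlgSp.IsSurjectiveMor)
      (Ch.spFib h𝒳) ((repByAlgSpWith_iff_rp h𝒳 c.x).1 h) (c.resHom p) ?_ ?_)
  · intro E G' a g q hE sq
    exact ⟨isAlgSpace_bc hG hE hc sq, surj_bc sq.flip hp⟩
  · intro E F G a b hE hF hG ha hb
    exact surj_comp ha hb

/-- `LocQ` from a square of schemes, in `Ch` -/
theorem locQ_of_sch {P : MorphismProperty (AlgSp.Sp S)} (h𝒴 : FibCat.IsFibGrpd 𝒴.p) {f : 𝒳 ⥤ᵇ 𝒴} {U V : Over S}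
    {x : ofSch U ⥤ᵇ 𝒳} {y : ofSch V ⥤ᵇ 𝒴}
    (h : (Ch.push f).obj ⟨(AlgSp.yon S).obj U, x⟩ ⟶ ⟨(AlgSp.yon S).obj V, y⟩) (hx : SmSurj x)
    (hy : RepByAlgSpWith (AlgSp.LocP @Smooth) y) (hP : P h.a) : LocQ P f := by
  obtain ⟨a, α⟩ := h
  obtain ⟨g, rfl⟩ := (AlgSp.yon S).map_surjective a
  have hα := isIso_two_cell h𝒴 α
  exact ⟨U, V, BasedFunctor.comp (ofOverCat U) x, BasedFunctor.comp (ofOverCat V) y, g,
    wL (ofOverCat U) (asIso α), (repByAlgSpWith_ofOverCat _ _).1 hx.smooth, (repByAlgSpWith_ofOverCat _ _).1 hx.surj,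
    (repByAlgSpWith_ofOverCat _ _).1 hy, hP⟩

/-- `LocQ` from a square of algebraic spaces, in `Ch` -/
theorem locQ_of_sp {P : MorphismProperty (AlgSp.Sp S)} (hP : AlgSp.IsSmoothLocalST P) (h𝒳 : FibCat.IsFibGrpd 𝒳.p)
    (h𝒴 : FibCat.IsFibGrpd 𝒴.p) {f : 𝒳 ⥤ᵇ 𝒴} {c : Ch 𝒳} {d : Ch 𝒴} (h : (Ch.push f).obj c ⟶ d)
    (hc : AlgSp.IsAlgSpace c.F) (hd : AlgSp.IsAlgSpace d.F) (hx : SmSurj c.x)
    (hy : RepByAlgSpWith (AlgSp.LocP @Smooth) d.x) (hPh : P h.a) : LocQ P f := by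
  obtain ⟨V, q, hq⟩ := K613.Chart.exists_ch hd
  have sq : IsPullback (pullback.fst h.a q) (pullback.snd h.a q) h.a q := IsPullback.of_hasPullback _ _
  have hW : AlgSp.IsAlgSpace (pullback h.a q) := isAlgSpace_bc hc (AlgSp.IsAlgSpace.yon_obj V) hd sq
  have hPW : P (pullback.snd h.a q) :=
    hP.baseChange hc hd hW (AlgSp.IsAlgSpace.yon_obj V) _ _ _ _ sq (smooth_of_etale hq.et) hPh
  have hfst : AlgSp.RepWith @Etale (pullback.fst h.a q) := MorphismProperty.of_isPullback sq.flip hq.et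
  have hfst' : AlgSp.RepWith @Surjective (pullback.fst h.a q) := MorphismProperty.of_isPullback sq.flip hq.surj
  obtain ⟨U, r, hr⟩ := K613.Chart.exists_ch hW
  let p : (AlgSp.yon S).obj U ⟶ c.F := r ≫ pullback.fst h.a q
  have hPU : P (r ≫ pullback.snd h.a q) :=
    hP.precomp (AlgSp.IsAlgSpace.yon_obj U) hW (AlgSp.IsAlgSpace.yon_obj V) _ _ (smooth_of_etale hr.et) hPW
  have hp : AlgSp.LocP @Smooth p := smooth_comp (AlgSp.IsAlgSpace.yon_obj U) hW hc (smooth_of_etale hr.et)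
    (smooth_of_etale hfst)
  have hp' : AlgSp.IsSurjectiveMor p := surj_comp (surj_of_repWith hr.surj) (surj_of_repWith hfst')
  obtain ⟨l, hl, -⟩ := Ch.exists_lift h𝒴 (d.resHom q) ((Ch.push f).map (c.resHom p) ≫ h) (r ≫ pullback.snd h.a q) (by
    change (r ≫ pullback.snd h.a q) ≫ q = (r ≫ pullback.fst h.a q) ≫ h.a
    rw [Category.assoc, Category.assoc, sq.w])
  refine locQ_of_sch h𝒴 (x := BasedFunctor.comp (ofSpMap p) c.x) (y := BasedFunctor.comp (ofSpMap q) d.x) l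
    ⟨rp_res_smooth h𝒳 hc (AlgSp.IsAlgSpace.yon_obj U) hp hx.smooth,
      rp_res_surj h𝒳 hc (AlgSp.IsAlgSpace.yon_obj U) hp' hx.surj⟩
    (rp_res_smooth h𝒴 hd (AlgSp.IsAlgSpace.yon_obj V) (smooth_of_etale hq.et) hy) ?_
  change P l.a
  rw [hl]
  exact hPU

theorem locQ_iff_space {P : MorphismProperty (AlgSp.Sp S)} (hP : AlgSp.IsSmoothLocalST P) (h𝒳 : FibCat.IsFibGrpd 𝒳.p)
    (h𝒴 : FibCat.IsFibGrpd 𝒴.p) (f : 𝒳 ⥤ᵇ 𝒴) : LocQ P f ↔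
      ∃ (U V : AlgSp.Space S) (x : AlgSt.ofSp U.obj ⥤ᵇ 𝒳) (y : AlgSt.ofSp V.obj ⥤ᵇ 𝒴) (h : U ⟶ V)
        (_ : BasedFunctor.comp x f ≅ BasedFunctor.comp (AlgSt.ofSpMap h.hom) y),
        AlgSt.RepByAlgSpWith (AlgSp.LocP @Smooth) x ∧ AlgSt.RepByAlgSpWith AlgSp.IsSurjectiveMor x ∧
        AlgSt.RepByAlgSpWith (AlgSp.LocP @Smooth) y ∧ P h.hom := by
  constructor
  · rintro ⟨U, V, x, y, h, α, hx, hx', hy, hPh⟩
    exact ⟨⟨(AlgSp.yon S).obj U, AlgSp.IsAlgSpace.yon_obj U⟩, ⟨(AlgSp.yon S).obj V, AlgSp.IsAlgSpace.yon_obj V⟩,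
      BasedFunctor.comp (toOverCat U) x, BasedFunctor.comp (toOverCat V) y,
      ObjectProperty.homMk ((AlgSp.yon S).map h), wL (toOverCat U) α, (repByAlgSpWith_toOverCat _ _).1 hx,
      (repByAlgSpWith_toOverCat _ _).1 hx', (repByAlgSpWith_toOverCat _ _).1 hy, hPh⟩
  · rintro ⟨U, V, x, y, h, α, hx, hx', hy, hPh⟩
    exact locQ_of_sp hP h𝒳 h𝒴 (c := ⟨U.obj, x⟩) (d := ⟨V.obj, y⟩)
      (⟨h.hom, α.hom⟩ : Ch.Hom ((Ch.push f).obj ⟨U.obj, x⟩) ⟨V.obj, y⟩) U.property V.property ⟨hx, hx'⟩ hy hPh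

end K741
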