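import Groth.Agent.AlgSt.K741.Link
import Groth.Agent.AlgSt.K735.Rep
import Groth.Agent.AlgSt.K734.Yon2
import Groth.Agent.AlgSp.K613.Basic

/-!
# 2-Yoneda for the category of a representable sheaf
-/

set_option autoImplicit false
set_option backward.isDefEq.respectTransparency false
set_option backward.isDefEq.respectTransparency.types false

universe w₄ v₄ w'' v'' w' v' w v u

open CategoryTheory CategoryTheory.Limits AlgebraicGeometry Opposite
open AlgSt

namespace K741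

variable {S : Scheme.{u}}

/-- the generic object of `ofSch T` -/
def gen (T : Over S) : (ofSch T).obj := ⟨T, ⟨𝟙 T⟩⟩

theorem toOverCat_gen (T : Over S) : (toOverCat T).obj (gen T) = K734.Fib.one T := rfl

/-- the morphism to the generic object -/
def toGen {T : Over S} (o : (ofSch T).obj) : o ⟶ gen T :=
  ⟨o.sec.down, by
    change (⟨o.sec.down ≫ 𝟙 T⟩ : ULift _) = o.sec
    rw [Category.comp_id]
    rfl⟩

section

variable {𝒳 : BasedCategory.{v, w} (Over S)}

theorem isVert_iff_vert {a b : 𝒳.obj} (φ : a ⟶ b) : K734.Fib.IsVert 𝒳 φ ↔ K735.Fib.Vert 𝒳.p φ := Iff.rfl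

/-- 2-cells out of `ofSch T` are determined by their value at the generic object -/
theorem cell_ext_gen (h𝒳 : FibCat.IsFibGrpd 𝒳.p) {T : Over S} {G H : ofSch T ⥤ᵇ 𝒳} {α β : G ⟶ H}
    (h : α.toNatTrans.app (gen T) = β.toNatTrans.app (gen T)) : α = β := by
  have h1 : BasedCategory.whiskerLeft (ofOverCat T) α = BasedCategory.whiskerLeft (ofOverCat T) β :=
    K734.Fib.hom_ext_one h𝒳 h
  have h2 := congrArg (BasedCategory.whiskerLeft (toOverCat T)) h1
  exact h2

/-- 2-cells out of `ofSch T` exist -/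
theorem exists_cell (h𝒳 : FibCat.IsFibGrpd 𝒳.p) {T : Over S} (G H : ofSch T ⥤ᵇ 𝒳)
    (φ : G.obj (gen T) ⟶ H.obj (gen T)) (hφ : K735.Fib.Vert 𝒳.p φ) :
    ∃ α : G ⟶ H, α.toNatTrans.app (gen T) = φ := by
  obtain ⟨α, hα⟩ := K734.Fib.exists_homOfOne h𝒳 (BasedFunctor.comp (ofOverCat T) G)
    (BasedFunctor.comp (ofOverCat T) H) φ hφ
  exact ⟨BasedCategory.whiskerLeft (toOverCat T) α, hα⟩

/-- functors out of `ofSch T` exist -/
theorem exists_functor (h𝒳 : FibCat.IsFibGrpd 𝒳.p) {T : Over S} (x : 𝒳.obj) (hx : 𝒳.p.obj x = T) :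
    ∃ (y : ofSch T ⥤ᵇ 𝒳) (e : y.obj (gen T) ≅ x), K735.Fib.Vert 𝒳.p e.hom := by
  obtain ⟨y, e, he⟩ := K734.Fib.exists_yo h𝒳 x hx
  exact ⟨BasedFunctor.comp (toOverCat T) y, e, he⟩

end

section Sec

variable {F G : AlgSp.Sp S}

/-- the map of sheaves of a section -/
def ofSec (o : (ofSp F).obj) : (AlgSp.yon S).obj o.base ⟶ F := (AlgSp.J S).uliftYonedaEquiv.symm o.sec

theorem ofSec_gen (o : (ofSp F).obj) : (ofSpMap (ofSec o)).obj (gen o.base) = o := by
  obtain ⟨T, s⟩ := o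
  change (⟨T, ((AlgSp.J S).uliftYonedaEquiv (ofSec ⟨T, s⟩))⟩ : (ofSp F).obj) = ⟨T, s⟩
  rw [ofSec, Equiv.apply_symm_apply]

theorem ofSec_obj_gen {T : Over S} (a : (AlgSp.yon S).obj T ⟶ F) : ofSec ((ofSpMap a).obj (gen T)) = a := by
  have h : ((AlgSp.J S).uliftYonedaEquiv a) = ((ofSpMap a).obj (gen T)).sec := rfl
  rw [ofSec, ← h]
  exact Equiv.symm_apply_apply _ _

theorem yon_hom_ext {T : Over S} {a b : (AlgSp.yon S).obj T ⟶ F}
    (h : (ofSpMap a).obj (gen T) = (ofSpMap b).obj (gen T)) : a = b := by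
  have h' : ((AlgSp.J S).uliftYonedaEquiv a) = ((AlgSp.J S).uliftYonedaEquiv b) := by
    injection h
  exact (AlgSp.J S).uliftYonedaEquiv.injective h'

theorem ofSec_comp (o : (ofSp F).obj) (a : F ⟶ G) : ofSec o ≫ a = ofSec ((ofSpMap a).obj o) := by
  apply yon_hom_ext
  have h : (ofSpMap (ofSec o ≫ a)).obj (gen o.base) = (ofSpMap a).obj ((ofSpMap (ofSec o)).obj (gen o.base)) := rfl
  rw [h, ofSec_gen]
  exact (ofSec_gen ((ofSpMap a).obj o)).symm

end Sec

end K741
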